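import Mathlib
import Cfsg.Agent.SmallSimple.PrimeLocal
import Cfsg.Agent.SmallSimple.RelSylow
import Cfsg.Agent.SmallSimple.ElementCount
import Cfsg.Agent.SmallSimple.DetKernel
import Cfsg.Agent.SmallSimple.TheoremBCor
import Cfsg.Agent.SporadicA.M11CharSimple
import Cfsg.Agent.Blocks.CentralProduct
set_option linter.all false

/-!
# Sylow 11-subgroups of a simple group of order 95040

They are self-centralising with normaliser of order 55.
-/

set_option autoImplicit false

namespace Cfsg.Agent.MTwelve.SylowEleven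

open Subgroup
open Cfsg.Agent.SmallSimple.PrimeLocal
open Cfsg.Agent.SmallSimple

/-! ### Groups of order 6, 12, 30 -/

section small

variable {K : Type*} [Group K] [Finite K]

theorem card_centralizer_of_sylow {p : ℕ} [hp : Fact p.Prime] (P : Sylow p K)
    (hP : Nat.card P = p) (h : Nat.card (Sylow p K) * p = Nat.card K) :
    Nat.card (centralizer (P : Set K)) = p * 1 := by
  have h1 : Nat.card (normalizer (P : Set K)) = p := by
    have h2 := BurnsideNC.card_sylow_mul_card_normalizer P
    rw [← h] at h2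
    exact Nat.eq_of_mul_eq_mul_left Nat.card_pos h2
  have h2 : (P : Subgroup K) ≤ centralizer (P : Set K) := by
    intro x hx
    rw [mem_centralizer_iff]
    intro y hy
    exact comm_of_card_prime hp.out (P : Subgroup K) hP y hy x hx
  have h3 := Subgroup.card_le_of_le h2
  have h4 := Subgroup.card_le_of_le (centralizer_le_normalizer ((P : Subgroup K) : Set K))
  have h5 : Nat.card (P : Subgroup K) = p := hP
  rw [mul_one]
  rw [h5] at h3
  change Nat.card (centralizer (P : Set K)) ≤ Nat.card (normalizer (P : Set K)) at h4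
  omega

/-- In a group of order `12` a Sylow `3`-subgroup or a Sylow `2`-subgroup is unique. -/
theorem card_twelve (h : Nat.card K = 12) :
    Nat.card (Sylow 3 K) = 1 ∨ Nat.card (Sylow 2 K) = 1 := by
  have : Fact (Nat.Prime 3) := ⟨by norm_num⟩
  have : Fact (Nat.Prime 2) := ⟨by norm_num⟩
  by_contra hcon
  rw [not_or] at hcon
  have hc3 : ∀ P : Sylow 3 K, Nat.card P = 3 := fun P =>
    card_of_not_sq_dvd (by rw [h]; norm_num) (by rw [h]; norm_num) P
  have h3 : Nat.card (Sylow 3 K) = 4 := by
    have h4 := card_sylow_modEq_one 3 K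
    have h5 := (default : Sylow 3 K).card_dvd_index
    have h6 := ((default : Sylow 3 K) : Subgroup K).card_mul_index
    have h7 : Nat.card ((default : Sylow 3 K) : Subgroup K) = 3 := hc3 _
    rw [h7, h] at h6
    have h8 : ((default : Sylow 3 K) : Subgroup K).index = 4 := by omega
    rw [h8] at h5
    have h9 := Nat.le_of_dvd (by norm_num) h5
    have h10 := hcon.1
    unfold Nat.ModEq at h4
    have : 0 < Nat.card (Sylow 3 K) := Nat.card_pos
    interval_cases Nat.card (Sylow 3 K) <;> omega
  have hcount := ElementCount.card_le (G := K) (p := 3) (c := 1) hc3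
    (fun P => card_centralizer_of_sylow P (hc3 P) (by rw [h3, h]))
  rw [h3] at hcount
  -- every Sylow 2-subgroup is the complement
  apply hcon.2
  have hc2 : ∀ P : Sylow 2 K, Nat.card P = 4 := by
    intro P
    rw [P.card_eq_multiplicity, h]
    have : (12 : ℕ).factorization 2 = 2 := by
      rw [show (12 : ℕ) = 2 ^ 2 * 3 by norm_num, Nat.factorization_mul (by norm_num) (by norm_num),
        Nat.Prime.factorization_pow (by norm_num), Nat.Prime.factorization (by norm_num)]
      simp
    rw [this]; norm_num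
  have hset : ∀ P : Sylow 2 K, ∀ x, x ∈ (P : Subgroup K) ↔ ¬ (x ^ 1 ≠ 1 ∧ orderOf x ∣ 3 * 1) := by
    intro P
    have hsub : ((P : Subgroup K) : Set K) ⊆ {x | ¬ (x ^ 1 ≠ 1 ∧ orderOf x ∣ 3 * 1)} := by
      intro x hx hx2
      have h5 : orderOf x ∣ 4 := by
        have := Subgroup.orderOf_dvd_natCard _ hx
        rwa [show Nat.card (P : Subgroup K) = 4 from hc2 P] at this
      have h6 : orderOf x = 1 := Nat.eq_one_of_dvd_coprimes (by norm_num) h5 hx2.2
      rw [orderOf_eq_one_iff] at h6
      exact hx2.1 (by rw [h6, one_pow])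
    have hcard : Nat.card {x : K | ¬ (x ^ 1 ≠ 1 ∧ orderOf x ∣ 3 * 1)} ≤ 4 := by
      classical
      have h5 := Nat.card_congr (Equiv.sumCompl (fun x : K => x ^ 1 ≠ 1 ∧ orderOf x ∣ 3 * 1))
      rw [Nat.card_sum, h] at h5
      have h6 : Nat.card {x : K | ¬ (x ^ 1 ≠ 1 ∧ orderOf x ∣ 3 * 1)} =
        Nat.card {x : K // ¬ (x ^ 1 ≠ 1 ∧ orderOf x ∣ 3 * 1)} := rfl
      rw [h6]
      omega
    have heq := Set.eq_of_subset_of_ncard_le hsub (by
      rw [← Nat.card_coe_set_eq, ← Nat.card_coe_set_eq]
      refine hcard.trans ?_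
      exact (hc2 P).ge)
    intro x
    exact Set.ext_iff.1 heq x
  rw [Nat.card_eq_one_iff_unique]
  refine ⟨⟨fun P Q => ?_⟩, inferInstance⟩
  apply Sylow.ext
  ext x
  rw [hset P, hset Q]

/-- In a group of order `30` a Sylow `3`-subgroup or a Sylow `5`-subgroup is unique. -/
theorem card_thirty (h : Nat.card K = 30) :
    Nat.card (Sylow 3 K) = 1 ∨ Nat.card (Sylow 5 K) = 1 := by
  have : Fact (Nat.Prime 3) := ⟨by norm_num⟩
  have : Fact (Nat.Prime 5) := ⟨by norm_num⟩
  by_contra hcon
  rw [not_or] at hcon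
  have hc3 : ∀ P : Sylow 3 K, Nat.card P = 3 := fun P =>
    card_of_not_sq_dvd (by rw [h]; norm_num) (by rw [h]; norm_num) P
  have hc5 : ∀ P : Sylow 5 K, Nat.card P = 5 := fun P =>
    card_of_not_sq_dvd (by rw [h]; norm_num) (by rw [h]; norm_num) P
  have h3 : Nat.card (Sylow 3 K) = 10 := by
    have h4 := card_sylow_modEq_one 3 K
    have h5 := (default : Sylow 3 K).card_dvd_index
    have h6 := ((default : Sylow 3 K) : Subgroup K).card_mul_index
    have h7 : Nat.card ((default : Sylow 3 K) : Subgroup K) = 3 := hc3 _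
    rw [h7, h] at h6
    have h8 : ((default : Sylow 3 K) : Subgroup K).index = 10 := by omega
    rw [h8] at h5
    have h9 := Nat.le_of_dvd (by norm_num) h5
    have h10 := hcon.1
    unfold Nat.ModEq at h4
    have : 0 < Nat.card (Sylow 3 K) := Nat.card_pos
    interval_cases Nat.card (Sylow 3 K) <;> omega
  have h5 : Nat.card (Sylow 5 K) = 6 := by
    have h4 := card_sylow_modEq_one 5 K
    have h5 := (default : Sylow 5 K).card_dvd_index
    have h6 := ((default : Sylow 5 K) : Subgroup K).card_mul_index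
    have h7 : Nat.card ((default : Sylow 5 K) : Subgroup K) = 5 := hc5 _
    rw [h7, h] at h6
    have h8 : ((default : Sylow 5 K) : Subgroup K).index = 6 := by omega
    rw [h8] at h5
    have h9 := Nat.le_of_dvd (by norm_num) h5
    have h10 := hcon.2
    unfold Nat.ModEq at h4
    have : 0 < Nat.card (Sylow 5 K) := Nat.card_pos
    interval_cases Nat.card (Sylow 5 K) <;> omega
  have hcount := ElementCount.card_le (G := K) (p := 3) (c := 1) hc3
    (fun P => card_centralizer_of_sylow P (hc3 P) (by rw [h3, h]))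
  have hcount' := ElementCount.card_le (G := K) (p := 5) (c := 1) hc5
    (fun P => card_centralizer_of_sylow P (hc5 P) (by rw [h5, h]))
  have hthree := ElementCount.three_le K 1 (3 * 1) 1 (5 * 1) 1 1 (by norm_num) (by norm_num)
    (by norm_num)
  rw [h3] at hcount
  rw [h5] at hcount'
  rw [h] at hthree
  omega

/-- In a group of order `6` the Sylow `3`-subgroup is unique. -/
theorem card_six (h : Nat.card K = 6) : Nat.card (Sylow 3 K) = 1 := by
  have : Fact (Nat.Prime 3) := ⟨by norm_num⟩
  have hc3 : ∀ P : Sylow 3 K, Nat.card P = 3 := fun P =>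
    card_of_not_sq_dvd (by rw [h]; norm_num) (by rw [h]; norm_num) P
  have h4 := card_sylow_modEq_one 3 K
  have h5 := (default : Sylow 3 K).card_dvd_index
  have h6 := ((default : Sylow 3 K) : Subgroup K).card_mul_index
  have h7 : Nat.card ((default : Sylow 3 K) : Subgroup K) = 3 := hc3 _
  rw [h7, h] at h6
  have h8 : ((default : Sylow 3 K) : Subgroup K).index = 2 := by omega
  rw [h8] at h5
  have h9 := Nat.le_of_dvd (by norm_num) h5
  unfold Nat.ModEq at h4
  have : 0 < Nat.card (Sylow 3 K) := Nat.card_pos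
  interval_cases Nat.card (Sylow 3 K) <;> omega

end small

variable {G : Type*} [Group G] [Finite G]

/-- A unique Sylow subgroup `R` of `K` satisfies `N(K) ≤ N(R)`. -/
theorem exists_of_unique (K : Subgroup G) {q : ℕ} [hq : Fact q.Prime]
    (h : Nat.card (Sylow q K) = 1) : ∃ R : Subgroup G, Nat.card R = q ^ (Nat.card K).factorization q
      ∧ R ≤ K ∧ normalizer (K : Set G) ≤ normalizer (R : Set G) := by
  let R : Sylow q K := default
  have hsub : Subsingleton (Sylow q K) := (Nat.card_eq_one_iff_unique.1 h).1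
  have hchar : (R : Subgroup K).Characteristic := R.characteristic_of_subsingleton
  refine ⟨(R : Subgroup K).map K.subtype, ?_, ?_, ?_⟩
  · rw [Nat.card_congr ((R : Subgroup K).equivMapOfInjective _ K.subtype_injective).symm.toEquiv]
    exact R.card_eq_multiplicity
  · rintro x ⟨y, _, rfl⟩
    exact y.2
  · intro g hg
    rw [mem_normalizer_iff]
    have key : ∀ g ∈ normalizer (K : Set G), ∀ x, x ∈ (R : Subgroup K).map K.subtype →
        g * x * g⁻¹ ∈ (R : Subgroup K).map K.subtype := by
      rintro g hg x ⟨y, hy, rfl⟩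
      let φ : MulAut K := K.normalizerMonoidHom ⟨g, hg⟩
      have h4 : φ y ∈ (R : Subgroup K) := by
        have h5 := hchar.fixed φ
        have h6 : y ∈ (R : Subgroup K).comap φ.toMonoidHom := by rw [h5]; exact hy
        exact h6
      exact ⟨φ y, h4, rfl⟩
    intro x
    constructor
    · exact key g hg x
    · intro h4
      have := key g⁻¹ (inv_mem hg) _ h4
      simpa [mul_assoc] using this

theorem factorization_facts : (12 : ℕ).factorization 2 = 2 ∧ (12 : ℕ).factorization 3 = 1 ∧
    (6 : ℕ).factorization 3 = 1 ∧ (30 : ℕ).factorization 3 = 1 ∧ (30 : ℕ).factorization 5 = 1 := by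
  refine ⟨?_, ?_, ?_, ?_, ?_⟩
  all_goals
    first
    | (rw [show (12 : ℕ) = 2 ^ 2 * 3 by norm_num, Nat.factorization_mul (by norm_num) (by norm_num),
        Nat.Prime.factorization_pow (by norm_num), Nat.Prime.factorization (by norm_num)]; simp; done)
    | (rw [show (6 : ℕ) = 2 * 3 by norm_num, Nat.factorization_mul (by norm_num) (by norm_num),
        Nat.Prime.factorization (by norm_num), Nat.Prime.factorization (by norm_num)]; simp; done)
    | (rw [show (30 : ℕ) = 2 * (3 * 5) by norm_num, Nat.factorization_mul (by norm_num) (by norm_num),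
        Nat.factorization_mul (by norm_num) (by norm_num),
        Nat.Prime.factorization (by norm_num), Nat.Prime.factorization (by norm_num),
        Nat.Prime.factorization (by norm_num)]; simp; done)

/-- A subgroup of order `6`, `12` or `30` contains a subgroup `R` of order `3`, `4` or `5` with
`N(K) ≤ N(R)`. -/
theorem exists_char (K : Subgroup G) (h : Nat.card K = 6 ∨ Nat.card K = 12 ∨ Nat.card K = 30) :
    ∃ R : Subgroup G, (Nat.card R = 3 ∨ Nat.card R = 4 ∨ Nat.card R = 5) ∧
      normalizer (K : Set G) ≤ normalizer (R : Set G) := by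
  have : Fact (Nat.Prime 2) := ⟨by norm_num⟩
  have : Fact (Nat.Prime 3) := ⟨by norm_num⟩
  have : Fact (Nat.Prime 5) := ⟨by norm_num⟩
  obtain ⟨f1, f2, f3, f4, f5⟩ := factorization_facts
  rcases h with h | h | h
  · obtain ⟨R, h1, _, h2⟩ := exists_of_unique K (card_six h)
    exact ⟨R, Or.inl (by rw [h1, h, f3]; norm_num), h2⟩
  · rcases card_twelve h with h3 | h3
    · obtain ⟨R, h1, _, h2⟩ := exists_of_unique K h3
      exact ⟨R, Or.inl (by rw [h1, h, f2]; norm_num), h2⟩
    · obtain ⟨R, h1, _, h2⟩ := exists_of_unique K h3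
      exact ⟨R, Or.inr (Or.inl (by rw [h1, h, f1]; norm_num)), h2⟩
  · rcases card_thirty h with h3 | h3
    · obtain ⟨R, h1, _, h2⟩ := exists_of_unique K h3
      exact ⟨R, Or.inl (by rw [h1, h, f4]; norm_num), h2⟩
    · obtain ⟨R, h1, _, h2⟩ := exists_of_unique K h3
      exact ⟨R, Or.inr (Or.inr (by rw [h1, h, f5]; norm_num)), h2⟩

/-- `|N(P)| = 660` is impossible. -/
theorem not_660 [IsSimpleGroup G] (hc : Nat.card G = 95040) (P : Sylow 11 G) {e : ℕ}
    {K : Subgroup G} (h : IsLocal 11 P e K) (hm : e * Nat.card K = 60) : False := by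
  have : Fact (Nat.Prime 2) := ⟨by norm_num⟩
  have : Fact (Nat.Prime 3) := ⟨by norm_num⟩
  have : Fact (Nat.Prime 5) := ⟨by norm_num⟩
  have : Fact (Nat.Prime 11) := ⟨by norm_num⟩
  have hG : ¬ IsMulCommutative G :=
    Embed.not_comm_of_card_not_prime (by rw [hc]; norm_num)
  have hPc : Nat.card P = 11 :=
    card_of_not_sq_dvd (by rw [hc]; norm_num) (by rw [hc]; norm_num) P
  have hK : Nat.card K = 6 ∨ Nat.card K = 12 ∨ Nat.card K = 30 := by
    have h1 := h.dvd_pred
    have h2 := h.one_lt
    have h3 : e ≤ 10 := Nat.le_of_dvd (by norm_num) h1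
    interval_cases e <;> omega
  obtain ⟨R, hR, hN⟩ := exists_char K hK
  have hN' := h.normalizer_le.trans hN
  have hPN : (P : Subgroup G) ≤ normalizer (R : Set G) := le_normalizer.trans hN'
  have h1 := RelSylow.relIndex_modEq_one P (normalizer (R : Set G)) hPN
  have h2 : (normalizer (P : Set G)).relIndex (normalizer (R : Set G)) *
      Nat.card (normalizer (P : Set G)) = Nat.card (normalizer (R : Set G)) := by
    have := RelSylow.relIndex_mul_card_inf (normalizer (P : Set G)) (normalizer (R : Set G))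
    rwa [inf_eq_right.2 hN'] at this
  have h3 : Nat.card (normalizer (P : Set G)) = 660 := by
    have := h.card_normalizer
    rw [mul_assoc, hm] at this
    omega
  rw [h3] at h2
  have h6 := (normalizer (R : Set G)).card_mul_index
  rw [hc, ← h2] at h6
  change ((normalizer (P : Set G)).relIndex (normalizer (R : Set G))) ≡ 1 [MOD 11] at h1
  have h7 : (normalizer (P : Set G)).relIndex (normalizer (R : Set G)) *
      (normalizer (R : Set G)).index = 144 := by
    have : 660 * ((normalizer (P : Set G)).relIndex (normalizer (R : Set G)) *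
      (normalizer (R : Set G)).index) = 660 * 144 := by
      rw [← mul_assoc, mul_comm 660, h6]
    exact Nat.eq_of_mul_eq_mul_left (by norm_num) this
  have hne : normalizer (R : Set G) ≠ ⊤ := by
    intro h9
    have hn : R.Normal := normalizer_eq_top_iff.1 h9
    rcases hn.eq_bot_or_eq_top with h10 | h10
    · rw [h10, Subgroup.card_bot] at hR
      omega
    · rw [h10, Subgroup.card_top, hc] at hR
      omega
  have hne1 : (normalizer (R : Set G)).index ≠ 1 := fun h => hne (Subgroup.index_eq_one.1 h)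
  have hne12 : (normalizer (R : Set G)).index ≠ 12 := by
    intro h9
    have := h.dvd_of_index_succ hG (by norm_num) hPc _ hne (Or.inr h9)
    rw [hm] at this
    norm_num at this
  have hj : (normalizer (P : Set G)).relIndex (normalizer (R : Set G)) = 1 := by
    have h8 : (normalizer (P : Set G)).relIndex (normalizer (R : Set G)) ∈ Nat.divisors 144 :=
      Nat.mem_divisors.2 ⟨⟨_, h7.symm⟩, by norm_num⟩
    have h9 : (Nat.divisors 144).filter (fun k => k % 11 = 1) = {1, 12, 144} := by
      decide +kernel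
    have h10 : (normalizer (P : Set G)).relIndex (normalizer (R : Set G)) ∈
        (Nat.divisors 144).filter (fun k => k % 11 = 1) := by
      rw [Finset.mem_filter]; exact ⟨h8, h1⟩
    rw [h9] at h10
    simp only [Finset.mem_insert, Finset.mem_singleton] at h10
    rcases h10 with h | h | h
    · exact h
    · rw [h] at h7
      exact absurd (by omega) hne12
    · rw [h] at h7
      exact absurd (by omega) hne1
  rw [hj, one_mul] at h2
  rw [hj, one_mul] at h7
  rcases hR with hR | hR | hR
  · have h8 := Sylow.prime_pow_dvd_card_normalizer (p := 3) (n := 1) (G := G)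
      (by rw [hc]; norm_num) (H := R) (by rw [hR]; norm_num)
    rw [← h2] at h8
    norm_num at h8
  · have h8 := Sylow.prime_pow_dvd_card_normalizer (p := 2) (n := 2) (G := G)
      (by rw [hc]; norm_num) (H := R) (by rw [hR]; norm_num)
    rw [← h2] at h8
    norm_num at h8
  · have hRp : IsPGroup 5 R := IsPGroup.of_card (n := 1) (by rw [hR]; norm_num)
    have hidx : ¬ 5 ∣ R.index := by
      have := R.card_mul_index
      rw [hR, hc] at this
      omega
    let S : Sylow 5 G := hRp.toSylow hidx
    have h8 : Nat.card (Sylow 5 G) = (normalizer (R : Set G)).index := S.card_eq_index_normalizer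
    have h9 := card_sylow_modEq_one 5 G
    rw [h8, h7] at h9
    norm_num [Nat.ModEq] at h9

/-- The possible local data. -/
theorem cases [IsSimpleGroup G] (hc : Nat.card G = 95040) (P : Sylow 11 G) :
    ∃ (e : ℕ) (K : Subgroup G), IsLocal 11 P e K ∧
      ((e = 2 ∧ Nat.card K = 8) ∨ (e = 5 ∧ Nat.card K = 1)) := by
  have : Fact (Nat.Prime 11) := ⟨by norm_num⟩
  have hG : ¬ IsMulCommutative G :=
    Embed.not_comm_of_card_not_prime (by rw [hc]; norm_num)
  obtain ⟨e, K, h⟩ := exists_local hG (p := 11) (by rw [hc]; norm_num) (by rw [hc]; norm_num) P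
  refine ⟨e, K, h, ?_⟩
  have hPc : Nat.card P = 11 :=
    card_of_not_sq_dvd (by rw [hc]; norm_num) (by rw [hc]; norm_num) P
  obtain ⟨o, ho1, ho2⟩ := h.card_sylow hG (by norm_num) hPc
  have h1 := h.card_eq
  rw [hc, ho1] at h1
  have h3 := h.dvd_pred
  have h4 := h.one_lt
  have h60 : e * Nat.card K ≠ 60 := fun hm => not_660 hc P h hm
  have hle : e ≤ 10 := Nat.le_of_dvd (by norm_num) h3
  have hkpos : 0 < Nat.card K := Nat.card_pos
  generalize Nat.card K = k at *
  have h6 : (1 + 11 * o) * (e * k) = 8640 := by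
    have : 11 * ((1 + 11 * o) * (e * k)) = 11 * 8640 := by linarith
    exact Nat.eq_of_mul_eq_mul_left (by norm_num) this
  have h8 : e * k ∈ Nat.divisors 8640 :=
    Nat.mem_divisors.2 ⟨⟨_, by rw [mul_comm (e * k), h6]⟩, by norm_num⟩
  have h9 : (Nat.divisors 8640).filter (fun k => k % 11 = 5) = {5, 16, 27, 60, 192, 720, 8640} := by
    decide +kernel
  have h10 : (e * k) % 11 = 5 := by
    have h11 : ((1 + 11 * o) * (e * k)) % 11 = 5 := by rw [h6]
    have h12 : ((1 + 11 * o) * (e * k)) % 11 = (e * k) % 11 := by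
      rw [add_mul, one_mul, mul_assoc 11 o, Nat.add_mul_mod_self_left]
    omega
  have h11 : e * k ∈ (Nat.divisors 8640).filter (fun k => k % 11 = 5) := by
    rw [Finset.mem_filter]; exact ⟨h8, h10⟩
  rw [h9] at h11
  simp only [Finset.mem_insert, Finset.mem_singleton] at h11
  have he : e = 2 ∨ e = 5 ∨ e = 10 := by
    interval_cases e <;> omega
  rcases h11 with h | h | h | h | h | h | h
  · rcases he with rfl | rfl | rfl <;> omega
  · rcases he with rfl | rfl | rfl <;> omega
  · rcases he with rfl | rfl | rfl <;> omega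
  · exact absurd h h60
  · have ho : o = 4 := by
      rw [h] at h6
      omega
    subst ho
    have hk : k = 96 := by rcases he with rfl | rfl | rfl <;> omega
    subst hk
    rcases ho2 with h | h
    · norm_num [Nat.factorial] at h
    · omega
  · have ho : o = 1 := by
      rw [h] at h6
      omega
    subst ho
    have hk : k ≠ 1 := by rcases he with rfl | rfl | rfl <;> omega
    rcases ho2 with h | h
    · have := Nat.le_of_dvd (by norm_num [Nat.factorial]) h
      norm_num [Nat.factorial] at this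
      omega
    · omega
  · have ho : o = 0 := by
      rw [h] at h6
      omega
    subst ho
    rcases ho2 with h | h
    · have := Nat.le_of_dvd (by norm_num [Nat.factorial]) h
      norm_num [Nat.factorial] at this
      omega
    · omega

/-! ### The case `|C(P)| = 88` -/

open Cfsg in
theorem relIndex_eq {G : Type*} [Group G] [Finite G] {p : ℕ} (P : Sylow p G) {e : ℕ}
    {K : Subgroup G} (h : IsLocal p P e K) (hp : p ≠ 0) :
    (centralizer (P : Set G)).relIndex (normalizer (P : Set G)) = e := by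
  have h1 := RelSylow.relIndex_mul_card_inf (centralizer (P : Set G)) (normalizer (P : Set G))
  rw [inf_eq_right.2 (centralizer_le_normalizer (P : Set G)), h.card_normalizer,
    h.card_centralizer] at h1
  have h2 : (centralizer (P : Set G)).relIndex (normalizer (P : Set G)) * (p * Nat.card K) =
      e * (p * Nat.card K) := by rw [h1]; ring
  exact Nat.eq_of_mul_eq_mul_right (Nat.mul_pos (Nat.pos_of_ne_zero hp) Nat.card_pos) h2

theorem dvd_8640 {a : ℕ} (ha : a ∣ 95040) (h : ¬ 11 ∣ a) : a ∣ 8640 := by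
  have h1 : a ∣ 11 * 8640 := ha
  exact (Nat.Coprime.dvd_mul_left
    (((Nat.Prime.coprime_iff_not_dvd (by norm_num)).2 h).symm)).1 h1

theorem arith_two {a b : ℕ} {δ d : ℤ} (hδ : δ = 1 ∨ δ = -1) (hd : d = 1 ∨ d = -1)
    (ha : a ∣ 95040) (ha1 : a ≠ 1) (hb : b ∣ 95040) (h : 1 + δ * a = d * b)
    (hm : ∃ m : ℤ, (a : ℤ) = δ + 11 * m) : b = 9 ∧ d = -1 := by
  obtain ⟨m, hm⟩ := hm
  have ha0 : a ≠ 0 := by rintro rfl; omega
  have hb0 : b ≠ 0 := by
    rintro rfl
    rcases hδ with rfl | rfl <;> omega
  rcases hδ with rfl | rfl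
  · exfalso
    have hd1 : d = 1 := by
      rcases hd with rfl | rfl
      · rfl
      · omega
    subst hd1
    have hb' : b = a + 1 := by omega
    subst hb'
    replace ha := dvd_8640 ha (by omega)
    replace hb := dvd_8640 hb (by omega)
    have h1 : a ∈ (Nat.divisors 8640).filter (fun a => a % 11 = 1 ∧ a ≠ 1 ∧ 8640 % (a + 1) = 0) := by
      rw [Finset.mem_filter, Nat.mem_divisors]
      exact ⟨⟨ha, by norm_num⟩, by omega, ha1, Nat.mod_eq_zero_of_dvd hb⟩
    have h2 : (Nat.divisors 8640).filter (fun a => a % 11 = 1 ∧ a ≠ 1 ∧ 8640 % (a + 1) = 0) = ∅ := by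
      decide +kernel
    rw [h2] at h1
    simp at h1
  · have hd1 : d = -1 := by
      rcases hd with rfl | rfl
      · omega
      · rfl
    subst hd1
    have hb' : a = b + 1 := by omega
    subst hb'
    replace ha := dvd_8640 ha (by omega)
    replace hb := dvd_8640 hb (by omega)
    have h1 : b ∈ (Nat.divisors 8640).filter (fun b => b % 11 = 9 ∧ 8640 % (b + 1) = 0) := by
      rw [Finset.mem_filter, Nat.mem_divisors]
      exact ⟨⟨hb, by norm_num⟩, by omega, Nat.mod_eq_zero_of_dvd ha⟩
    have h2 : (Nat.divisors 8640).filter (fun b => b % 11 = 9 ∧ 8640 % (b + 1) = 0) = {9} := by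
      decide +kernel
    rw [h2, Finset.mem_singleton] at h1
    exact ⟨h1, rfl⟩

open Cfsg Cfsg.Agent.Characters.Core in
theorem ne_case_8 {G : Type*} [Group G] [Finite G] [IsSimpleGroup G] (hc : Nat.card G = 95040)
    (P : Sylow 11 G) {K : Subgroup G} (h : IsLocal 11 P 2 K) (hK : Nat.card K = 8) : False := by
  classical
  have hp : Fact (Nat.Prime 11) := ⟨by norm_num⟩
  have hG : ¬ IsMulCommutative G :=
    Embed.not_comm_of_card_not_prime (by rw [hc]; norm_num)
  have hnc : ¬ ∀ a b : G, a * b = b * a := fun h => hG ⟨⟨h⟩⟩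
  have hnc' : ∃ a b : G, a * b ≠ b * a := by
    by_contra hcon
    push Not at hcon
    exact hnc hcon
  have hPc : Nat.card P = 11 :=
    card_of_not_sq_dvd (by rw [hc]; norm_num) (by rw [hc]; norm_num) P
  obtain ⟨M, hM⟩ := Blocks.ExistsModular.exists_isPModular hp.out
  obtain ⟨NE, X, ε, d, S, hB, h1, h2, h3, h4, h5, ⟨χ₁, hχ₁, hχ₁1, hε₁⟩, h7, h8, h9, h10⟩ :=
    TheoremB.theoremB 11 (by norm_num) M hM P hPc 2 5 (relIndex_eq P h (by norm_num)) (by norm_num)
  -- the second nonexceptional character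
  obtain ⟨χ₂, hχ₂, hne⟩ : ∃ χ₂ ∈ NE, χ₂ ≠ χ₁ := by
    have : 1 < NE.card := by rw [h2]; norm_num
    exact Finset.exists_mem_ne this χ₁
  have hNE : NE = {χ₁, χ₂} := by
    symm
    apply Finset.eq_of_subset_of_card_le
    · intro x hx
      rw [Finset.mem_insert, Finset.mem_singleton] at hx
      rcases hx with rfl | rfl
      · exact hχ₁
      · exact hχ₂
    · rw [h2, Finset.card_pair hne.symm]
  obtain ⟨Θ, hΘ⟩ : X.Nonempty := by
    rw [← Finset.card_pos, h3]; norm_num
  have hone : ¬ 11 ∣ orderOf (1 : G) := by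
    rw [orderOf_one]; norm_num
  obtain ⟨a, ha0, ha⟩ := isIrr_apply_one χ₂.2
  obtain ⟨b, hb0, hb⟩ := isIrr_apply_one Θ.2
  have hrel := h10 Θ hΘ 1 hone
  rw [hNE, Finset.sum_pair hne.symm, hε₁, hχ₁1, ha, hb] at hrel
  have hrel' : 1 + ε χ₂ * (a : ℤ) = d * b := by
    have : ((1 + ε χ₂ * (a : ℤ) : ℤ) : ℂ) = ((d * b : ℤ) : ℂ) := by
      push_cast
      rw [← hrel]
      simp
    exact_mod_cast this
  have ha1 : a ≠ 1 := by
    rintro rfl
    apply hne
    apply Subtype.ext
    rw [hχ₁1]
    exact SporadicA.M11CharSimple.eq_one_of_degree_one hnc χ₂.2 (by rw [ha]; norm_num)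
  have hadvd : a ∣ 95040 := by
    rw [← hc]; exact Blocks.CentralProduct.degree_dvd_card χ₂.2 ha
  have hbdvd : b ∣ 95040 := by
    rw [← hc]; exact Blocks.CentralProduct.degree_dvd_card Θ.2 hb
  have hmod : ∃ m : ℤ, (a : ℤ) = ε χ₂ + 11 * m := by
    obtain ⟨m, hm⟩ := TheoremBCor.degree_nonexc (P := (P : Subgroup G)) hPc
      (isIrr_isCharacter χ₂.2) (ε := ε χ₂) (fun x hx hx1 => by
        have := h7 χ₂ hχ₂ x hx hx1 1 (one_mem _) hone
        rwa [mul_one] at this)
    refine ⟨m - ε χ₂, ?_⟩
    rw [ha] at hm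
    exact_mod_cast hm
  obtain ⟨hb9, hd1⟩ := arith_two (h4 χ₂ hχ₂) h5 hadvd ha1 hbdvd hrel' hmod
  obtain ⟨hS1, hS2, hS3⟩ := h8 Θ hΘ
  have hneΘ : ∃ g, (Θ : G → ℂ) g ≠ (Θ : G → ℂ) 1 := by
    by_contra hcon
    push Not at hcon
    have hΘ1 : (Θ : G → ℂ) = 1 := by
      obtain ⟨k, hk⟩ : ∃ k : G, k ≠ 1 := exists_ne 1
      exact SporadicA.M11CharSimple.eq_one_of_apply_eq Θ.2 hk (hcon k)
    rw [hΘ1] at hb
    rw [hb9] at hb
    norm_num at hb
  obtain ⟨σ, hσ, -⟩ := DetKernel.exists_hom_SL_of_sum hnc' P hPc (isIrr_isCharacter Θ.2) hneΘ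
    (d := d) (S Θ) hS2 (by rw [← Finset.card_pos, hS1]; norm_num) hS3 (a := 0)
    (Or.inr ⟨hd1, by rw [hb, hb9, hS1]; norm_num⟩) K h.le_centralizer (by rw [hK]; norm_num)
  have := DetKernel.eq_bot_of_injective (by norm_num) σ hσ
  rw [this, Subgroup.card_bot] at hK
  norm_num at hK

/-! ### The main results -/

theorem card_normalizer_sylow11 {G : Type*} [Group G] [Finite G] [IsSimpleGroup G]
    (hc : Nat.card G = 95040) (P : Sylow 11 G) :
    Nat.card (normalizer (P : Set G)) = 55 := by
  obtain ⟨e, K, h, ⟨rfl, hK⟩ | ⟨rfl, hK⟩⟩ := cases hc P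
  · exact (ne_case_8 hc P h hK).elim
  · rw [h.card_normalizer, hK]

theorem card_centralizer_sylow11 {G : Type*} [Group G] [Finite G] [IsSimpleGroup G]
    (hc : Nat.card G = 95040) (P : Sylow 11 G) :
    Nat.card (centralizer (P : Set G)) = 11 := by
  obtain ⟨e, K, h, ⟨rfl, hK⟩ | ⟨rfl, hK⟩⟩ := cases hc P
  · exact (ne_case_8 hc P h hK).elim
  · rw [h.card_centralizer, hK]

theorem centralizer_sylow11 {G : Type*} [Group G] [Finite G] [IsSimpleGroup G]
    (hc : Nat.card G = 95040) (P : Sylow 11 G) :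
    centralizer (P : Set G) = (P : Subgroup G) := by
  have : Fact (Nat.Prime 11) := ⟨by norm_num⟩
  have hPc : Nat.card (P : Subgroup G) = 11 :=
    card_of_not_sq_dvd (by rw [hc]; norm_num) (by rw [hc]; norm_num) P
  symm
  apply Subgroup.eq_of_le_of_card_ge
  · intro x hx
    rw [mem_centralizer_iff]
    intro y hy
    exact comm_of_card_prime (p := 11) (by norm_num) (P : Subgroup G) hPc y hy x hx
  · rw [hPc, card_centralizer_sylow11 hc P]

/-- `|N(P) : C(P)| = 5`. -/
theorem relIndex_sylow11 {G : Type*} [Group G] [Finite G] [IsSimpleGroup G]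
    (hc : Nat.card G = 95040) (P : Sylow 11 G) :
    (centralizer (P : Set G)).relIndex (normalizer (P : Set G)) = 5 := by
  obtain ⟨e, K, h, ⟨rfl, hK⟩ | ⟨rfl, hK⟩⟩ := cases hc P
  · exact (ne_case_8 hc P h hK).elim
  · exact relIndex_eq P h (by norm_num)

end Cfsg.Agent.MTwelve.SylowEleven
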