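import Cfsg.Agent.MTwelve.BlockData
import Cfsg.Agent.SmallSimple.TheoremB
set_option linter.all false

/-!
# Existence of `PBlock`

Brauer's theorem on the principal block of a group with a Sylow `p`-subgroup of order `p`, in the
form of the structure `PBlock`.
-/

set_option autoImplicit false

open scoped ComplexConjugate
open Cfsg

namespace Cfsg.Agent.MTwelve.BlockExists

open Cfsg.Agent.Characters
open Cfsg.Agent.MTwelve.BlockData
open Cfsg.Agent.SmallSimple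

universe u

variable {G : Type u} [Group G] [Finite G]

/-- The sum of all exceptional values. -/
theorem sum_exceptional {p e t : ℕ} (hp : p.Prime) {P : Subgroup G} (hP : Nat.card P = p)
    {X : Finset (IrrCharacter G)} (hX : X.card = t) (S : IrrCharacter G → Finset (P →* ℂˣ))
    (hS : ∀ Θ ∈ X, (S Θ).card = e ∧ 1 ∉ S Θ)
    (hdisj : ∀ Θ ∈ X, ∀ Θ' ∈ X, Θ ≠ Θ' → Disjoint (S Θ) (S Θ')) (ht : e * t = p - 1) {x : P}
    (hx : x ≠ 1) : ∑ Θ ∈ X, ∑ l ∈ S Θ, ((l x : ℂˣ) : ℂ) = -1 := by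
  classical
  have := PrimeDual.finite_dual hp hP
  have := Fintype.ofFinite (P →* ℂˣ)
  have hunion : X.biUnion S = Finset.univ.erase (1 : P →* ℂˣ) := by
    apply Finset.eq_of_subset_of_card_le
    · intro l hl
      obtain ⟨Θ, hΘ, hl⟩ := Finset.mem_biUnion.1 hl
      rw [Finset.mem_erase]
      refine ⟨?_, Finset.mem_univ _⟩
      rintro rfl
      exact (hS Θ hΘ).2 hl
    · rw [Finset.card_erase_of_mem (Finset.mem_univ _), Finset.card_univ,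
        ← Nat.card_eq_fintype_card, PrimeDual.card_dual hp hP, Finset.card_biUnion hdisj,
        Finset.sum_congr rfl fun Θ hΘ => (hS Θ hΘ).1, Finset.sum_const, hX, smul_eq_mul, ← ht,
        mul_comm]
  have h1 : ∑ l ∈ X.biUnion S, ((l x : ℂˣ) : ℂ) = ∑ Θ ∈ X, ∑ l ∈ S Θ, ((l x : ℂˣ) : ℂ) :=
    Finset.sum_biUnion hdisj
  rw [← h1, hunion]
  have h2 := PrimeDual.sum_dual_eq_zero hp hP hx
  rw [← Finset.add_sum_erase _ _ (Finset.mem_univ (1 : P →* ℂˣ)), MonoidHom.one_apply,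
    Units.val_one] at h2
  exact eq_neg_of_add_eq_zero_right h2

/-- `PBlock` from the output of `theoremB`. -/
theorem exists_of_data {p e t : ℕ} (hp : p.Prime) {P : Subgroup G} (hP : Nat.card P = p)
    (ht : e * t = p - 1) {NE X : Finset (IrrCharacter G)} {ε : IrrCharacter G → ℤ} {d : ℤ}
    {S : IrrCharacter G → Finset (P →* ℂˣ)} (h1 : Disjoint NE X) (h2 : NE.card = e)
    (h3 : X.card = t) (h4 : ∀ χ ∈ NE, ε χ = 1 ∨ ε χ = -1) (h5 : d = 1 ∨ d = -1)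
    (h6 : ∃ χ₁ ∈ NE, (χ₁ : G → ℂ) = 1 ∧ ε χ₁ = 1)
    (h7 : ∀ χ ∈ NE, ∀ x ∈ P, x ≠ 1 → ∀ y ∈ Subgroup.centralizer (P : Set G), ¬ p ∣ orderOf y →
      (χ : G → ℂ) (x * y) = ε χ)
    (h8 : ∀ Θ ∈ X, (S Θ).card = e ∧ 1 ∉ S Θ ∧ ∀ x : P, x ≠ 1 →
      ∀ y ∈ Subgroup.centralizer (P : Set G), ¬ p ∣ orderOf y →
      (Θ : G → ℂ) (x * y) = d * ∑ l ∈ S Θ, ((l x : ℂˣ) : ℂ))
    (h9 : ∀ Θ ∈ X, ∀ Θ' ∈ X, Θ ≠ Θ' → Disjoint (S Θ) (S Θ'))
    (h10 : ∀ Θ ∈ X, ∀ g : G, ¬ p ∣ orderOf g →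
      ∑ χ ∈ NE, (ε χ : ℂ) * (χ : G → ℂ) g = d * (Θ : G → ℂ) g) :
    ∃ B : PBlock G p e t P, B.NE = NE ∧ B.X = X ∧ B.ε = ε ∧ B.d = d := by
  obtain ⟨χ₁, h6a, h6b, h6c⟩ := h6
  have htriv : χ₁ = triv G := Subtype.ext h6b
  rw [htriv] at h6a h6c
  refine ⟨{ NE := NE, X := X, ε := ε, d := d, disjoint := h1, card_NE := h2, card_X := h3,
            ε_eq := h4, d_eq := h5, triv_mem := h6a, ε_triv := h6c, apply_NE := h7,
            sum_X := ?_, rel := h10 }, rfl, rfl, rfl, rfl⟩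
  intro x hx hx1 y hy hyp
  have hx1' : (⟨x, hx⟩ : P) ≠ 1 := fun h => hx1 (congrArg Subtype.val h)
  rw [Finset.sum_congr rfl fun Θ hΘ => (h8 Θ hΘ).2.2 ⟨x, hx⟩ hx1' y hy hyp, ← Finset.mul_sum,
    sum_exceptional hp hP h3 S (fun Θ hΘ => ⟨(h8 Θ hΘ).1, (h8 Θ hΘ).2.1⟩) h9 ht hx1']
  ring

/-- **Brauer's theorem** as the existence of a `PBlock`. -/
theorem exists_pBlock {p : ℕ} [hp : Fact p.Prime] (hp2 : p ≠ 2) (P : Sylow p G)
    (hP : Nat.card (P : Subgroup G) = p) {e t : ℕ}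
    (he : (Subgroup.centralizer ((P : Subgroup G) : Set G)).relIndex
      (Subgroup.normalizer ((P : Subgroup G) : Set G)) = e) (ht : e * t = p - 1) :
    Nonempty (PBlock G p e t (P : Subgroup G)) := by
  obtain ⟨M, hM⟩ := Cfsg.Agent.Blocks.ExistsModular.exists_isPModular hp.out
  obtain ⟨NE, X, ε, d, S, -, h1, h2, h3, h4, h5, h6, h7, h8, h9, h10⟩ :=
    TheoremB.theoremB p hp2 M hM P hP e t he ht
  obtain ⟨B, -⟩ := exists_of_data hp.out hP ht h1 h2 h3 h4 h5 h6 h7 h8 h9 h10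
  exact ⟨B⟩

end Cfsg.Agent.MTwelve.BlockExists
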