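/-
The symmetric square of a real irreducible character of degree `11` of a simple group of order
`95040` (STEP 6 of the proof of the uniqueness of `M₁₂`).
-/
import Mathlib
import Cfsg.Agent.Characters.Core
import Cfsg.Agent.Characters.Values
import Cfsg.Agent.Characters.Linear
import Cfsg.Prelude.Def_Blocks
import Cfsg.Agent.PermChar.TensorSquare
import Cfsg.Agent.SmallSimple.PrimeSylowAut
import Cfsg.Agent.S0895
set_option linter.all false

set_option autoImplicit false

open scoped ComplexConjugate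
open Cfsg

namespace Cfsg.Agent.MTwelve.SymSquare

open Characters.Core

universe u

section general

variable {G : Type u} [Group G] [Fintype G]

/-- The symmetric square of a character is a character. -/
theorem isCharacter_symSq {χ : G → ℂ} (hχ : IsCharacter G χ) :
    IsCharacter G (fun g => (χ g ^ 2 + χ (g * g)) / 2) := by
  classical
  have := finite_irr (G := G)
  have := Fintype.ofFinite (IrrCharacter G)
  have hcl : IsClassFunction G (fun g => (χ g ^ 2 + χ (g * g)) / 2) := by
    intro g h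
    have h1 := isCharacter_isClassFunction hχ g h
    have h2 := isCharacter_isClassFunction hχ (g * g) h
    have h3 : h * g * h⁻¹ * (h * g * h⁻¹) = h * (g * g) * h⁻¹ := by group
    simp only [h1, h3, h2]
  obtain ⟨n, ρ, rfl⟩ := hχ
  have hcoef : ∀ ψ : IrrCharacter G, ∃ m : ℕ,
      classInner (fun g => (ρ.character g ^ 2 + ρ.character (g * g)) / 2) (ψ : G → ℂ) = m := by
    rintro ⟨ψ, k, σ, hσ, rfl⟩
    refine ⟨Module.finrank ℂ (Representation.IntertwiningMap (PermChar.TensorSquare.rep2 ρ)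
      (PermChar.TensorSquare.repSign σ 0)), ?_⟩
    have h := congrArg conj (PermChar.TensorSquare.finrank_eq ρ σ 0)
    simp only [map_mul, map_natCast, map_sum, Complex.conj_conj, pow_zero, one_mul, map_ofNat] at h
    rw [classInner_def]
    have hne : (Nat.card G : ℂ) ≠ 0 := card_ne_zero_complex
    field_simp
    rw [← Finset.sum_div, div_eq_iff (two_ne_zero)]
    rw [mul_comm (Nat.card G : ℂ), mul_assoc, mul_comm (Nat.card G : ℂ), h]
    refine Finset.sum_congr rfl fun g _ => ?_
    ring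
  choose m hm using hcoef
  rw [isCharacter_iff]
  refine ⟨m, ?_⟩
  conv_lhs => rw [classFunction_eq_sum hcl]
  refine Finset.sum_congr rfl fun ψ _ => ?_
  rw [hm, Nat.cast_smul_eq_nsmul]

/-- The inner product of the symmetric square with an irreducible character, as a sum. -/
theorem sum_symSq_mul (χ ψ : G → ℂ) :
    ∑ g : G, (χ g ^ 2 + χ (g * g)) * conj (ψ g) =
      2 * Nat.card G * classInner (fun g => (χ g ^ 2 + χ (g * g)) / 2) ψ := by
  rw [classInner_def]
  have hne : (Nat.card G : ℂ) ≠ 0 := card_ne_zero_complex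
  rw [mul_assoc, mul_inv_cancel_left₀ hne, Finset.mul_sum]
  refine Finset.sum_congr rfl fun g _ => ?_
  ring

/-- The sum of a character over a subgroup. -/
theorem exists_nat_sum (H : Subgroup G) [Fintype H] {φ : G → ℂ} (hφ : IsCharacter G φ) :
    ∃ n : ℕ, ∑ x : H, φ x = n * Nat.card H := by
  obtain ⟨n, hn⟩ := classInner_isNat (isCharacter_comp H.subtype hφ) isCharacter_one
  refine ⟨n, ?_⟩
  rw [← hn, classInner_def]
  have hne : (Nat.card H : ℂ) ≠ 0 := card_ne_zero_complex
  rw [mul_comm, mul_inv_cancel_left₀ hne]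
  refine Finset.sum_congr rfl fun g _ => ?_
  simp

/-- The multiplicity of the trivial character grows under restriction. -/
theorem le_of_sum_top (P : Subgroup G) [Fintype P] {φ : G → ℂ} (hφ : IsCharacter G φ) {n f : ℕ}
    (hn : ∑ x : G, φ x = n * Nat.card G) (hf : ∑ x : P, φ x = f * Nat.card P) : n ≤ f := by
  classical
  have := finite_irr (G := G)
  have := Fintype.ofFinite (IrrCharacter G)
  obtain ⟨m, hm⟩ := exists_nat_comb hφ
  have hne : (Nat.card G : ℂ) ≠ 0 := card_ne_zero_complex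
  have hneP : (Nat.card P : ℂ) ≠ 0 := card_ne_zero_complex
  let one : IrrCharacter G := ⟨1, isIrr_one⟩
  have h1 : (m one : ℂ) = n := by
    have h := classInner_sum_nsmul_irr m one
    rw [← hm, classInner_def] at h
    rw [← h]
    have : ∑ g : G, φ g * conj ((one : G → ℂ) g) = ∑ g : G, φ g :=
      Finset.sum_congr rfl fun g _ => by simp [one]
    rw [this, hn, mul_comm (n : ℂ), inv_mul_cancel_left₀ hne]
  have h1' : m one = n := by exact_mod_cast h1
  choose k hk using fun ψ : IrrCharacter G => exists_nat_sum P (isIrr_isCharacter ψ.2)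
  have hone : k one = 1 := by
    have h := hk one
    simp only [one, Pi.one_apply, Finset.sum_const, Finset.card_univ, nsmul_eq_mul, mul_one] at h
    rw [← Nat.card_eq_fintype_card] at h
    have h2 : ((k one : ℕ) : ℂ) = 1 := by
      have h3 : (1 - (k one : ℂ)) * Nat.card P = 0 := by
        rw [sub_mul, one_mul, sub_eq_zero]; exact h
      rcases mul_eq_zero.1 h3 with h4 | h4
      · exact (sub_eq_zero.1 h4).symm
      · exact absurd h4 hneP
    exact_mod_cast h2
  have hsum : (f : ℂ) = ∑ ψ, ((m ψ * k ψ : ℕ) : ℂ) := by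
    have h : (f : ℂ) * Nat.card P = (∑ ψ, ((m ψ * k ψ : ℕ) : ℂ)) * Nat.card P := by
      rw [← hf, hm]
      simp only [Finset.sum_apply, Pi.smul_apply]
      rw [Finset.sum_comm, Finset.sum_mul]
      refine Finset.sum_congr rfl fun ψ _ => ?_
      rw [← Finset.smul_sum, hk, nsmul_eq_mul]
      push_cast
      ring
    exact mul_right_cancel₀ hneP h
  have hsum' : f = ∑ ψ, m ψ * k ψ := by exact_mod_cast hsum
  rw [hsum', ← h1']
  calc m one = m one * k one := by rw [hone, mul_one]
    _ ≤ _ := Finset.single_le_sum (f := fun ψ => m ψ * k ψ) (fun _ _ => Nat.zero_le _)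
      (Finset.mem_univ one)

/-- A rational number in the form `a / b` which is a character value is an integer. -/
theorem exists_int_of_character {φ : G → ℂ} (hφ : IsCharacter G φ) (g : G) (a b : ℤ) (hb : b ≠ 0)
    (h : (b : ℂ) * φ g = a) : ∃ z : ℤ, φ g = z := by
  have hint : IsIntegral ℤ (φ g) := by
    obtain ⟨n, ρ, rfl⟩ := hφ
    exact Characters.Values.character_isIntegral ρ g
  have hb' : (b : ℂ) ≠ 0 := by exact_mod_cast hb
  have h1 : φ g = algebraMap ℚ ℂ ((a : ℚ) / b) := by
    rw [eq_ratCast]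
    push_cast
    rw [eq_div_iff hb', mul_comm, h]
  rw [h1] at hint
  rw [isIntegral_algebraMap_iff (algebraMap ℚ ℂ).injective] at hint
  obtain ⟨z, hz⟩ := IsIntegrallyClosed.isIntegral_iff.1 hint
  refine ⟨z, ?_⟩
  rw [h1, ← hz]
  simp

theorem sum_subgroup_eq (H : Subgroup G) [Fintype H] [DecidablePred (· ∈ H)] (φ : G → ℂ) :
    ∑ x : H, φ x = ∑ g ∈ Finset.univ.filter (fun g : G => g ∈ H), φ g := by
  rw [Finset.sum_subtype (p := fun g : G => g ∈ H) _ (fun x => by simp) φ]

/-- **Lemma L.**  `P ≤ N`, `|P| = 11`, `|N| = 55`, a character constant on `N \ P` and whose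
restriction to `P` contains the trivial character `f ≤ 3` times has the value `f` on `N \ P`. -/
theorem apply_eq_of_le_three {P N : Subgroup G} [Fintype P] (hPN : P ≤ N) (hP : Nat.card P = 11)
    (hN : Nat.card N = 55) {φ : G → ℂ} (hφ : IsCharacter G φ) (y : G)
    (hv : ∀ g ∈ N, g ∉ P → φ g = φ y) (f : ℕ) (hf : ∑ x : P, φ x = f * 11) (hf3 : f ≤ 3) :
    φ y = f := by
  classical
  have : Fintype N := Fintype.ofFinite _
  obtain ⟨n, hn⟩ := exists_nat_sum N hφ
  have hle : n ≤ f := by
    have : Fintype (P.subgroupOf N) := Fintype.ofFinite _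
    refine le_of_sum_top (P.subgroupOf N) (isCharacter_comp N.subtype hφ) (n := n) (f := f) hn ?_
    have h1 : Nat.card (P.subgroupOf N) = Nat.card P :=
      Nat.card_congr (Subgroup.subgroupOfEquivOfLe hPN).toEquiv
    rw [h1, hP]
    push_cast
    rw [← hf]
    refine Fintype.sum_equiv (Subgroup.subgroupOfEquivOfLe hPN).toEquiv _ _ fun x => ?_
    rfl
  -- the sum over `N`
  have hsplit : ∑ x : N, φ x = ∑ x : P, φ x + 44 * φ y := by
    rw [sum_subgroup_eq, sum_subgroup_eq]
    have hsub : Finset.univ.filter (fun g : G => g ∈ P) ⊆ Finset.univ.filter (fun g : G => g ∈ N) := by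
      intro g hg
      simp only [Finset.mem_filter, Finset.mem_univ, true_and] at hg ⊢
      exact hPN hg
    rw [← Finset.sum_sdiff hsub, add_comm]
    congr 1
    have hc : ((Finset.univ.filter (fun g : G => g ∈ N)) \ (Finset.univ.filter (fun g : G => g ∈ P))).card
        = 44 := by
      rw [Finset.card_sdiff_of_subset hsub, ← Fintype.card_subtype, ← Fintype.card_subtype]
      have h1 : Fintype.card {x // x ∈ N} = 55 := by rw [← Nat.card_eq_fintype_card]; exact hN
      have h2 : Fintype.card {x // x ∈ P} = 11 := by rw [← Nat.card_eq_fintype_card]; exact hP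
      rw [h1, h2]
    rw [Finset.sum_congr rfl (g := fun _ => φ y), Finset.sum_const, hc, nsmul_eq_mul]
    · norm_num
    · intro g hg
      simp only [Finset.mem_sdiff, Finset.mem_filter, Finset.mem_univ, true_and] at hg
      exact hv g hg.1 hg.2
  rw [hn, hf, hN] at hsplit
  obtain ⟨z, hz⟩ := exists_int_of_character hφ y (5 * n - f) 4 (by norm_num) (by
    push_cast
    have h11 : (11 : ℂ) ≠ 0 := by norm_num
    apply mul_left_cancel₀ h11
    push_cast at hsplit
    linear_combination -hsplit)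
  rw [hz] at hsplit ⊢
  have h1 : (n : ℤ) * 55 = f * 11 + 44 * z := by exact_mod_cast hsplit
  have h2 : z = f := by omega
  rw [h2]
  simp

/-- A real irreducible character of odd degree: the sum of its values at the squares. -/
theorem sum_sq_eq_card {χ : G → ℂ} (hχ : IsIrrCharacter G χ) (hreal : ∀ g, conj (χ g) = χ g)
    (d : ℕ) (hd : χ 1 = d) (hodd : Odd d) : ∑ s : G, χ (s * s) = Nat.card G := by
  have h := Cfsg.Agent.S0895.result χ hχ (fun g => Complex.conj_eq_iff_im.1 (hreal g)) d hd hodd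
  have hne : (Nat.card G : ℂ) ≠ 0 := card_ne_zero_complex
  field_simp at h
  exact h

omit [Fintype G] in
theorem apply_one_eq {χ : G → ℂ} (hχ : IsIrrCharacter G χ) : χ 1 = (charDegree χ : ℂ) := by
  obtain ⟨n, -, hn⟩ := isIrr_apply_one hχ
  have : charDegree χ = n := by
    show ⌊(χ 1).re⌋₊ = n
    rw [hn]
    simp
  rw [this, hn]

/-- Orthogonality of linear characters. -/
theorem sum_mul_conj_linear {P : Type u} [Group P] [Fintype P] [DecidableEq (P →* ℂˣ)]
    (l l' : P →* ℂˣ) :
    ∑ x : P, (l x : ℂ) * conj (l' x : ℂ) = if l = l' then (Nat.card P : ℂ) else 0 := by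
  have h1 := Characters.Linear.isIrrCharacter_hom l
  have h2 := Characters.Linear.isIrrCharacter_hom l'
  have hne : (Nat.card P : ℂ) ≠ 0 := card_ne_zero_complex
  split_ifs with h
  · subst h
    have h3 := classInner_irr_self h1
    rw [classInner_def] at h3
    field_simp at h3
    exact h3
  · have h3 := classInner_irr_ne h1 h2 (fun h4 => h (by
      ext x
      exact congrFun h4 x))
    rw [classInner_def] at h3
    rcases mul_eq_zero.1 h3 with h4 | h4
    · exact absurd h4 (inv_ne_zero hne)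
    · exact h4

/-- The Fourier coefficient of a function which on `P \ 1` is an integral combination of linear
characters. -/
theorem sum_mul_conj_of_eq {P : Type u} [Group P] [Fintype P] [DecidableEq (P →* ℂˣ)]
    (f : P → ℂ) (d : ℂ) (S : Finset (P →* ℂˣ)) (hf : ∀ x, x ≠ 1 → f x = d * ∑ l ∈ S, (l x : ℂ))
    (l' : P →* ℂˣ) :
    ∑ x : P, f x * conj (l' x : ℂ) =
      f 1 - d * S.card + d * (if l' ∈ S then (Nat.card P : ℂ) else 0) := by
  classical
  have h1 : ∀ x : P, f x * conj (l' x : ℂ) = d * ∑ l ∈ S, (l x : ℂ) * conj (l' x : ℂ) +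
      (if x = 1 then f 1 - d * S.card else 0) := by
    intro x
    by_cases hx : x = 1
    · subst hx
      simp
    · rw [hf x hx, if_neg hx, add_zero, mul_assoc, Finset.sum_mul]
  rw [Finset.sum_congr rfl fun x _ => h1 x, Finset.sum_add_distrib, ← Finset.mul_sum,
    Finset.sum_comm]
  simp only [sum_mul_conj_linear, Finset.sum_ite_eq', Finset.mem_univ, if_true]
  ring

end general

section main

variable {G : Type u} [Group G] [Fintype G]

theorem exists_real_core (P : Subgroup G) [Fintype P] (hP : Nat.card P = 11) (N : Subgroup G)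
    (hPN : P ≤ N) (hN : Nat.card N = 55) (y : G) (hyN : y ∈ N) (hyP : y ∉ P)
    (hy : ∀ g ∈ N, g ∉ P → IsConj y g)
    (NE X : Finset (IrrCharacter G)) (ε : IrrCharacter G → ℤ) (d : ℤ)
    (S : IrrCharacter G → Finset (P →* ℂˣ))
    (hNE : ∀ ψ ∈ NE, ∀ x ∈ P, x ≠ 1 → (ψ : G → ℂ) x = ε ψ)
    (hNEdeg : ∀ ψ ∈ NE, (ψ : G → ℂ) = 1 ∨ (charDegree (ψ : G → ℂ) = 45 ∧ ε ψ = 1) ∨
      (charDegree (ψ : G → ℂ) = 54 ∧ ε ψ = -1) ∨ 66 < charDegree (ψ : G → ℂ))
    (hX : X.card = 2) (hXdeg : ∀ Θ ∈ X, charDegree (Θ : G → ℂ) = 16) (hd : d = 1 ∨ d = -1)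
    (hXval : ∀ Θ ∈ X, (S Θ).card = 5 ∧ 1 ∉ S Θ ∧
      ∀ x : P, x ≠ 1 → (Θ : G → ℂ) x = d * ∑ l ∈ S Θ, (l x : ℂ))
    (hXdisj : ∀ Θ ∈ X, ∀ Θ' ∈ X, Θ ≠ Θ' → Disjoint (S Θ) (S Θ'))
    (hoth : ∀ ψ : IrrCharacter G, ψ ∉ NE → ψ ∉ X →
      (∀ x ∈ P, x ≠ 1 → (ψ : G → ℂ) x = 0) ∧ 11 ∣ charDegree (ψ : G → ℂ))
    {χ : G → ℂ} (hχ : IsIrrCharacter G χ) (hreal : ∀ g, conj (χ g) = χ g) (hdeg : χ 1 = 11) :
    ∃ ψ : G → ℂ, IsIrrCharacter G ψ ∧ (∀ g, conj (ψ g) = ψ g) ∧ ψ 1 = 11 ∧
      ∑ g, (χ g ^ 2 + χ (g * g)) * ψ g ≠ 0 := by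
  classical
  have := finite_irr (G := G)
  have := Fintype.ofFinite (IrrCharacter G)
  have hGne : (Nat.card G : ℂ) ≠ 0 := card_ne_zero_complex
  -- `χ` vanishes on `P \ 1`
  have hχdeg : charDegree χ = 11 := by
    have h := apply_one_eq hχ
    rw [hdeg] at h
    exact_mod_cast h.symm
  have hχNE : (⟨χ, hχ⟩ : IrrCharacter G) ∉ NE := by
    intro h
    rcases hNEdeg _ h with h1 | h1 | h1 | h1
    · have : χ 1 = 1 := congrFun h1 1
      rw [hdeg] at this
      norm_num at this
    · have := h1.1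
      simp only [hχdeg] at this
      omega
    · have := h1.1
      simp only [hχdeg] at this
      omega
    · simp only [hχdeg] at h1
      omega
  have hχX : (⟨χ, hχ⟩ : IrrCharacter G) ∉ X := by
    intro h
    have := hXdeg _ h
    simp only [hχdeg] at this
    omega
  have hχP : ∀ x ∈ P, x ≠ 1 → χ x = 0 := (hoth _ hχNE hχX).1
  -- `d = 1`
  have hsumconj : ∀ φ : G → ℂ, ∑ x : P, φ x * conj (((1 : P →* ℂˣ) x : ℂˣ) : ℂ) = ∑ x : P, φ x := by
    intro φ
    refine Finset.sum_congr rfl fun x _ => ?_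
    simp
  have hd1 : d = 1 := by
    obtain ⟨Θ, hΘ⟩ : X.Nonempty := by rw [← Finset.card_pos, hX]; norm_num
    rcases hd with h | h
    · exact h
    exfalso
    obtain ⟨hc, h1S, hv⟩ := hXval Θ hΘ
    obtain ⟨n, hn⟩ := exists_nat_sum P (isIrr_isCharacter Θ.2)
    have h2 := sum_mul_conj_of_eq (fun x : P => (Θ : G → ℂ) x) d (S Θ) hv 1
    rw [if_neg h1S, hsumconj (Θ : G → ℂ), hn] at h2
    simp only [OneMemClass.coe_one, apply_one_eq Θ.2, hXdeg Θ hΘ, hc, h, hP] at h2
    have h3 : (n : ℤ) * 11 = 16 + 5 := by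
      have : ((n : ℤ) * 11 : ℂ) = ((16 + 5 : ℤ) : ℂ) := by
        push_cast at h2 ⊢
        rw [h2]
        ring
      exact_mod_cast this
    omega
  subst hd1
  -- the symmetric square
  have hsym := isCharacter_symSq (isIrr_isCharacter hχ)
  obtain ⟨m, hm⟩ := exists_nat_comb hsym
  have hmψ : ∀ ψ : IrrCharacter G, ∑ g : G, (χ g ^ 2 + χ (g * g)) * conj ((ψ : G → ℂ) g) =
      2 * Nat.card G * m ψ := by
    intro ψ
    rw [sum_symSq_mul, hm, classInner_sum_nsmul_irr]
  have hmv : ∀ g : G, (χ g ^ 2 + χ (g * g)) / 2 = ∑ ψ : IrrCharacter G, (m ψ : ℂ) * (ψ : G → ℂ) g := by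
    intro g
    have := congrFun hm g
    simp only [Finset.sum_apply, nsmul_eq_mul] at this
    exact this
  have hmP : ∀ x : P, x ≠ 1 → ∑ ψ : IrrCharacter G, (m ψ : ℂ) * (ψ : G → ℂ) x = 0 := by
    intro x hx
    rw [← hmv, hχP x x.2 (fun h => hx (Subtype.ext h)), hχP (x * x) (mul_mem x.2 x.2)]
    · norm_num
    · intro h
      apply hx
      have h1 : x ^ 2 = 1 := by
        apply Subtype.ext
        rw [sq]
        exact h
      have h2 : x ^ 11 = 1 := by rw [← hP]; exact pow_card_eq_one'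
      calc x = x ^ 11 * (x ^ 2)⁻¹ ^ 5 := by group
        _ = 1 := by rw [h1, h2]; simp
  -- degrees
  have hdegsum : ∑ ψ : IrrCharacter G, m ψ * charDegree (ψ : G → ℂ) = 66 := by
    have h := hmv 1
    rw [mul_one, hdeg] at h
    have h1 : ((∑ ψ : IrrCharacter G, m ψ * charDegree (ψ : G → ℂ) : ℕ) : ℂ) = ((66 : ℕ) : ℂ) := by
      push_cast
      have h2 : ∀ ψ : IrrCharacter G, (m ψ : ℂ) * (charDegree (ψ : G → ℂ) : ℂ) =
          (m ψ : ℂ) * (ψ : G → ℂ) 1 := fun ψ => by rw [apply_one_eq ψ.2]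
      rw [Finset.sum_congr rfl fun ψ _ => h2 ψ, ← h]
      norm_num
    exact_mod_cast h1
  have hbig : ∀ ψ : IrrCharacter G, 66 < charDegree (ψ : G → ℂ) → m ψ = 0 := by
    intro ψ hψ
    by_contra h0
    have h1 : m ψ * charDegree (ψ : G → ℂ) ≤ 66 := by
      rw [← hdegsum]
      exact Finset.single_le_sum (f := fun ψ : IrrCharacter G => m ψ * charDegree (ψ : G → ℂ))
        (fun _ _ => Nat.zero_le _) (Finset.mem_univ ψ)
    have h2 : 1 ≤ m ψ := Nat.one_le_iff_ne_zero.2 h0
    nlinarith
  -- the trivial character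
  let one : IrrCharacter G := ⟨1, isIrr_one⟩
  have hone_deg : charDegree (one : G → ℂ) = 1 := by
    have h := apply_one_eq one.2
    simp only [one, Pi.one_apply] at h
    exact_mod_cast h.symm
  have honeX : one ∉ X := fun h => by
    have := hXdeg one h
    omega
  have honeNE : one ∈ NE := by
    by_contra h
    have h1 := (hoth one h honeX).2
    rw [hone_deg] at h1
    omega
  have hm1 : m one = 1 := by
    have h := hmψ one
    simp only [one, Pi.one_apply, map_one, mul_one, Finset.sum_add_distrib] at h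
    rw [sum_sq_eq_card hχ hreal 11 (by rw [hdeg]; norm_num) (by decide)] at h
    have h2 : ∑ g : G, χ g ^ 2 = Nat.card G := by
      have h3 := classInner_irr_self hχ
      rw [classInner_def] at h3
      field_simp at h3
      rw [← h3]
      refine Finset.sum_congr rfl fun g _ => ?_
      rw [hreal, sq]
    rw [h2] at h
    have h3 : (Nat.card G : ℂ) * (1 - (m one : ℂ)) = 0 := by
      linear_combination (1/2 : ℂ) * h
    rcases mul_eq_zero.1 h3 with h4 | h4
    · exact absurd h4 hGne
    · have h5 : (m one : ℂ) = ((1 : ℕ) : ℂ) := by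
        push_cast
        exact (sub_eq_zero.1 h4).symm
      exact_mod_cast h5
  -- Fourier coefficients
  obtain ⟨Θ₁, Θ₂, hne12, hXeq⟩ := Finset.card_eq_two.1 hX
  have hΘ₁ : Θ₁ ∈ X := by rw [hXeq]; simp
  have hΘ₂ : Θ₂ ∈ X := by rw [hXeq]; simp
  let t : IrrCharacter G → (P →* ℂˣ) → ℤ := fun ψ l =>
    if ψ ∈ NE then (if l = 1 then ε ψ else 0) else if ψ ∈ X then (if l ∈ S ψ then 1 else 0) else 0
  let s : IrrCharacter G → ℤ := fun ψ => if ψ ∈ NE then ε ψ else if ψ ∈ X then 5 else 0
  have hNEX : ∀ ψ ∈ NE, ψ ∉ X := by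
    intro ψ h1 h2
    have h3 := hXdeg ψ h2
    rcases hNEdeg ψ h1 with h4 | h4 | h4 | h4
    · have : ψ = one := Subtype.ext h4
      rw [this, hone_deg] at h3
      omega
    · omega
    · omega
    · omega
  have hF : ∀ (ψ : IrrCharacter G) (l : P →* ℂˣ), ∑ x : P, (ψ : G → ℂ) x * conj (l x : ℂ) =
      (ψ : G → ℂ) 1 - s ψ + 11 * t ψ l := by
    intro ψ l
    by_cases h1 : ψ ∈ NE
    · rw [sum_mul_conj_of_eq (fun x : P => (ψ : G → ℂ) x) (ε ψ) {1} (fun x hx => by
        simp [hNE ψ h1 x x.2 (fun h => hx (Subtype.ext h))]) l]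
      simp only [t, s, h1, if_true, Finset.mem_singleton, hP, Finset.card_singleton,
        OneMemClass.coe_one]
      split_ifs <;> push_cast <;> ring
    · by_cases h2 : ψ ∈ X
      · rw [sum_mul_conj_of_eq (fun x : P => (ψ : G → ℂ) x) ((1 : ℤ) : ℂ) (S ψ) (hXval ψ h2).2.2 l]
        simp only [t, s, h1, h2, if_true, if_false, hP, (hXval ψ h2).1, OneMemClass.coe_one]
        split_ifs <;> push_cast <;> ring
      · rw [sum_mul_conj_of_eq (fun x : P => (ψ : G → ℂ) x) 0 ∅ (fun x hx => by
          simp [(hoth ψ h1 h2).1 x x.2 (fun h => hx (Subtype.ext h))]) l]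
        simp only [t, s, h1, h2, if_false, OneMemClass.coe_one]
        push_cast
        ring
  have hT : ∀ l : P →* ℂˣ, ∑ ψ : IrrCharacter G, (m ψ : ℤ) * t ψ l =
      ∑ ψ : IrrCharacter G, (m ψ : ℤ) * t ψ 1 := by
    have hT0 : ∀ l : P →* ℂˣ, 11 * (∑ ψ : IrrCharacter G, (m ψ : ℂ) * t ψ l) =
        66 - ∑ ψ : IrrCharacter G, (m ψ : ℂ) * ((ψ : G → ℂ) 1 - s ψ) := by
      intro l
      have h1 : ∑ x : P, (∑ ψ : IrrCharacter G, (m ψ : ℂ) * (ψ : G → ℂ) x) * conj (l x : ℂ) = 66 := by
        rw [Finset.sum_eq_single 1]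
        · simp only [OneMemClass.coe_one, ← hmv, hdeg, map_one, Units.val_one, mul_one]
          norm_num
        · intro x _ hx
          rw [hmP x hx, zero_mul]
        · intro h
          exact absurd (Finset.mem_univ _) h
      rw [← h1]
      simp only [Finset.sum_mul]
      rw [Finset.sum_comm, Finset.mul_sum, ← Finset.sum_sub_distrib]
      refine Finset.sum_congr rfl fun ψ _ => ?_
      have h2 : ∑ x : P, (m ψ : ℂ) * (ψ : G → ℂ) x * conj (l x : ℂ) =
          m ψ * ∑ x : P, (ψ : G → ℂ) x * conj (l x : ℂ) := by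
        rw [Finset.mul_sum]
        exact Finset.sum_congr rfl fun x _ => by ring
      rw [h2, hF]
      ring
    intro l
    have h1 : (∑ ψ : IrrCharacter G, (m ψ : ℂ) * t ψ l) = ∑ ψ : IrrCharacter G, (m ψ : ℂ) * t ψ 1 := by
      have h11 : (11 : ℂ) ≠ 0 := by norm_num
      apply mul_left_cancel₀ h11
      rw [hT0, hT0]
    exact_mod_cast h1
  have hTX : ∀ Θ ∈ X, ∑ ψ : IrrCharacter G, (m ψ : ℤ) * t ψ 1 = m Θ := by
    intro Θ hΘ
    obtain ⟨l, hl⟩ : (S Θ).Nonempty := by
      rw [← Finset.card_pos, (hXval Θ hΘ).1]; norm_num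
    have hl1 : l ≠ 1 := fun h => (hXval Θ hΘ).2.1 (h ▸ hl)
    rw [← hT l, Finset.sum_eq_single Θ]
    · have h1 : Θ ∉ NE := fun h => hNEX Θ h hΘ
      simp only [t, h1, hΘ, hl, if_true, if_false, mul_one]
    · intro ψ _ hψ
      by_cases h1 : ψ ∈ NE
      · simp only [t, h1, hl1, if_true, if_false, mul_zero]
      · by_cases h2 : ψ ∈ X
        · have h3 : l ∉ S ψ := by
            intro h4
            exact (Finset.disjoint_left.1 (hXdisj ψ h2 Θ hΘ hψ)) h4 hl
          simp only [t, h1, h2, h3, if_true, if_false, mul_zero]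
        · simp only [t, h1, h2, if_false, mul_zero]
    · intro h
      exact absurd (Finset.mem_univ _) h
  -- the counting functions
  let fo : IrrCharacter G → ℕ := fun ψ => if ψ = one then m ψ else 0
  let fa : IrrCharacter G → ℕ := fun ψ =>
    if ψ ∈ NE ∧ charDegree (ψ : G → ℂ) = 45 then m ψ else 0
  let fb : IrrCharacter G → ℕ := fun ψ =>
    if ψ ∈ NE ∧ charDegree (ψ : G → ℂ) = 54 then m ψ else 0
  let fc : IrrCharacter G → ℕ := fun ψ => if ψ ∈ X then m ψ else 0
  let fk : IrrCharacter G → ℕ := fun ψ =>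
    if ψ ∉ NE ∧ ψ ∉ X then m ψ * (charDegree (ψ : G → ℂ) / 11) else 0
  have hεone : ε one = 1 := by
    have : Nontrivial P := by
      rw [← Finite.one_lt_card_iff_nontrivial, hP]; norm_num
    obtain ⟨x, hx⟩ := exists_ne (1 : P)
    have h := hNE one honeNE x x.2 (fun h => hx (Subtype.ext h))
    simp only [one, Pi.one_apply] at h
    exact_mod_cast h.symm
  have hpoint : ∀ ψ : IrrCharacter G, m ψ * charDegree (ψ : G → ℂ) =
      fo ψ + 45 * fa ψ + 54 * fb ψ + 16 * fc ψ + 11 * fk ψ := by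
    intro ψ
    by_cases h1 : ψ ∈ NE
    · have h2 := hNEX ψ h1
      rcases hNEdeg ψ h1 with h4 | h4 | h4 | h4
      · have h5 : ψ = one := Subtype.ext h4
        subst h5
        simp only [fo, fa, fb, fc, fk, hone_deg, honeNE, honeX, if_true, if_false, hm1]
        norm_num
      · have h5 : ψ ≠ one := fun h => by rw [h, hone_deg] at h4; omega
        simp only [fo, fa, fb, fc, fk, h4.1, h1, h2, h5, if_false]
        norm_num
        ring
      · have h5 : ψ ≠ one := fun h => by rw [h, hone_deg] at h4; omega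
        simp only [fo, fa, fb, fc, fk, h4.1, h1, h2, h5, if_false]
        norm_num
        ring
      · simp only [fo, fa, fb, fc, fk, hbig ψ h4]
        simp
    · have h5 : ψ ≠ one := fun h => h1 (h ▸ honeNE)
      by_cases h2 : ψ ∈ X
      · simp only [fo, fa, fb, fc, fk, h1, h2, h5, hXdeg ψ h2, if_true, if_false]
        norm_num
        ring
      · obtain ⟨k, hk⟩ := (hoth ψ h1 h2).2
        simp only [fo, fa, fb, fc, fk, h1, h2, h5, hk, if_false]
        norm_num
        ring
  have hpointt : ∀ ψ : IrrCharacter G, (m ψ : ℤ) * t ψ 1 = fo ψ + fa ψ - fb ψ := by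
    intro ψ
    by_cases h1 : ψ ∈ NE
    · rcases hNEdeg ψ h1 with h4 | h4 | h4 | h4
      · have h5 : ψ = one := Subtype.ext h4
        subst h5
        simp only [t, fo, fa, fb, hone_deg, honeNE, if_true, hm1, hεone]
        norm_num
      · have h5 : ψ ≠ one := fun h => by rw [h, hone_deg] at h4; omega
        simp only [t, fo, fa, fb, h4.1, h4.2, h1, h5, if_true, if_false]
        norm_num
      · have h5 : ψ ≠ one := fun h => by rw [h, hone_deg] at h4; omega
        simp only [t, fo, fa, fb, h4.1, h4.2, h1, h5, if_true, if_false]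
        norm_num
      · simp only [fo, fa, fb, hbig ψ h4]
        simp
    · have h5 : ψ ≠ one := fun h => h1 (h ▸ honeNE)
      by_cases h2 : ψ ∈ X
      · have h6 := (hXval ψ h2).2.1
        simp only [t, fo, fa, fb, h1, h2, h5, h6, if_true, if_false]
        norm_num
      · simp only [t, fo, fa, fb, h1, h2, h5, if_false]
        norm_num
  have hfo : ∑ ψ, fo ψ = 1 := by
    simp only [fo, Finset.sum_ite_eq', Finset.mem_univ, if_true, hm1]
  have hfc : ∑ ψ, fc ψ = m Θ₁ + m Θ₂ := by
    simp only [fc]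
    rw [← Finset.sum_filter]
    have : Finset.univ.filter (fun ψ => ψ ∈ X) = X := by ext; simp
    rw [this, hXeq, Finset.sum_pair hne12]
  have E1 : 66 = 1 + 45 * ∑ ψ, fa ψ + 54 * ∑ ψ, fb ψ + 16 * (m Θ₁ + m Θ₂) + 11 * ∑ ψ, fk ψ := by
    rw [← hdegsum, Finset.sum_congr rfl fun ψ _ => hpoint ψ]
    simp only [Finset.sum_add_distrib, ← Finset.mul_sum]
    rw [hfo, hfc]
  have E2 : ∑ ψ : IrrCharacter G, (m ψ : ℤ) * t ψ 1 = 1 + (∑ ψ, fa ψ : ℕ) - (∑ ψ, fb ψ : ℕ) := by
    rw [Finset.sum_congr rfl fun ψ _ => hpointt ψ]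
    simp only [Finset.sum_add_distrib, Finset.sum_sub_distrib]
    push_cast
    have : (∑ ψ, (fo ψ : ℤ)) = 1 := by exact_mod_cast hfo
    rw [this]
  have E3 := hTX Θ₁ hΘ₁
  have E4 := hTX Θ₂ hΘ₂
  rw [E2] at E3 E4
  generalize hA : ∑ ψ, fa ψ = A at *
  generalize hB : ∑ ψ, fb ψ = B at *
  generalize hK : ∑ ψ, fk ψ = K at *
  by_cases hB0 : B = 0
  · exfalso
    have hA0 : A = 0 := by omega
    have hc1 : m Θ₁ = 1 := by omega
    have hc2 : m Θ₂ = 1 := by omega
    have hK3 : K = 3 := by omega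
    -- the values at `y`
    have hcl : ∀ {φ : G → ℂ}, IsCharacter G φ → ∀ g ∈ N, g ∉ P → φ g = φ y := by
      intro φ hφ g hg hgP
      obtain ⟨c, hc⟩ := isConj_iff.1 (hy g hg hgP)
      rw [← hc]
      exact isCharacter_isClassFunction hφ y c
    have hΘy : ∀ Θ ∈ X, (Θ : G → ℂ) y = 1 := by
      intro Θ hΘ
      have h := apply_eq_of_le_three hPN hP hN (isIrr_isCharacter Θ.2) y
        (hcl (isIrr_isCharacter Θ.2)) 1 (by
          have h1 : Θ ∉ NE := fun h => hNEX Θ h hΘ
          have h2 := hF Θ 1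
          rw [hsumconj (Θ : G → ℂ)] at h2
          rw [h2, apply_one_eq Θ.2, hXdeg Θ hΘ]
          simp only [s, t, h1, hΘ, (hXval Θ hΘ).2.1, if_true, if_false]
          norm_num) (by norm_num)
      rw [h]; norm_num
    let mr : IrrCharacter G → ℕ := fun ψ => if ψ ∉ NE ∧ ψ ∉ X then m ψ else 0
    let Λ : G → ℂ := ∑ ψ : IrrCharacter G, mr ψ • (ψ : G → ℂ)
    have hΛ : IsCharacter G Λ := isCharacter_iff.2 ⟨mr, rfl⟩
    have hΛv : ∀ g : G, Λ g = ∑ ψ : IrrCharacter G, (mr ψ : ℂ) * (ψ : G → ℂ) g := by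
      intro g
      simp only [Λ, Finset.sum_apply, nsmul_eq_mul]
      rfl
    have hΛy : Λ y = 3 := by
      have h := apply_eq_of_le_three hPN hP hN hΛ y (hcl hΛ) 3 (by
        rw [Finset.sum_eq_single 1]
        · rw [hΛv, OneMemClass.coe_one]
          have h1 : ∀ ψ : IrrCharacter G, (mr ψ : ℂ) * (ψ : G → ℂ) 1 = 11 * (fk ψ : ℂ) := by
            intro ψ
            rw [apply_one_eq ψ.2]
            by_cases h2 : ψ ∉ NE ∧ ψ ∉ X
            · obtain ⟨k, hk⟩ := (hoth ψ h2.1 h2.2).2
              simp only [mr, fk, h2, hk, if_true, not_false_eq_true, and_self]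
              have : 11 * k / 11 = k := by omega
              rw [this]
              push_cast
              ring
            · simp only [mr, fk, h2, if_false]
              simp
          rw [Finset.sum_congr rfl fun ψ _ => h1 ψ, ← Finset.mul_sum]
          have h2 : (∑ ψ, (fk ψ : ℂ)) = ((3 : ℕ) : ℂ) := by
            rw [← hK3, ← hK]
            push_cast
            rfl
          rw [h2]
          norm_num
        · intro x _ hx
          rw [hΛv]
          refine Finset.sum_eq_zero fun ψ _ => ?_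
          by_cases h2 : ψ ∉ NE ∧ ψ ∉ X
          · rw [(hoth ψ h2.1 h2.2).1 x x.2 (fun h => hx (Subtype.ext h)), mul_zero]
          · simp only [mr, h2, if_false]
            simp
        · intro h
          exact absurd (Finset.mem_univ _) h) le_rfl
      rw [h]; norm_num
    have hχy : χ y = 1 := by
      have h := apply_eq_of_le_three hPN hP hN (isIrr_isCharacter hχ) y
        (hcl (isIrr_isCharacter hχ)) 1 (by
          rw [Finset.sum_eq_single 1]
          · rw [OneMemClass.coe_one, hdeg]; norm_num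
          · intro x _ hx
            exact hχP x x.2 (fun h => hx (Subtype.ext h))
          · intro h
            exact absurd (Finset.mem_univ _) h) (by norm_num)
      rw [h]; norm_num
    have hyy : χ (y * y) = 1 := by
      rw [hcl (isIrr_isCharacter hχ) (y * y) (mul_mem hyN hyN) ?_, hχy]
      intro h
      apply hyP
      have h1 : (⟨y, hyN⟩ : N) ^ 55 = 1 := by rw [← hN]; exact pow_card_eq_one'
      have h2 : y ^ 55 = 1 := congrArg Subtype.val h1
      have h3 : y = (y * y) ^ 28 := by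
        rw [← sq, ← pow_mul]
        calc y = y ^ 55 * y := by rw [h2, one_mul]
          _ = y ^ (2 * 28) := by rw [← pow_succ]
      rw [h3]
      exact pow_mem h 28
    have hfin := hmv y
    rw [hχy, hyy] at hfin
    have hfa0 : ∀ ψ, fa ψ = 0 := by
      intro ψ
      have := Finset.sum_eq_zero_iff.1 (hA.trans hA0) ψ (Finset.mem_univ _)
      exact this
    have hfb0 : ∀ ψ, fb ψ = 0 := by
      intro ψ
      have := Finset.sum_eq_zero_iff.1 (hB.trans hB0) ψ (Finset.mem_univ _)
      exact this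
    have hpt : ∀ ψ : IrrCharacter G, (m ψ : ℂ) * (ψ : G → ℂ) y =
        (if ψ = one then 1 else 0) + (if ψ ∈ X then (m ψ : ℂ) else 0) +
          (mr ψ : ℂ) * (ψ : G → ℂ) y := by
      intro ψ
      by_cases h1 : ψ ∈ NE
      · have h2 := hNEX ψ h1
        have h6 : mr ψ = 0 := if_neg (fun h => h.1 h1)
        rw [h6, if_neg h2]
        rcases hNEdeg ψ h1 with h4 | h4 | h4 | h4
        · have h5 : ψ = one := Subtype.ext h4
          subst h5
          rw [if_pos rfl, hm1]
          simp [one]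
        · have h5 : ψ ≠ one := fun h => by rw [h, hone_deg] at h4; omega
          have h7 : m ψ = 0 := by
            have := hfa0 ψ
            simp only [fa] at this
            rw [if_pos ⟨h1, h4.1⟩] at this
            exact this
          simp [h5, h7]
        · have h5 : ψ ≠ one := fun h => by rw [h, hone_deg] at h4; omega
          have h7 : m ψ = 0 := by
            have := hfb0 ψ
            simp only [fb] at this
            rw [if_pos ⟨h1, h4.1⟩] at this
            exact this
          simp [h5, h7]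
        · have h5 : ψ ≠ one := fun h => by rw [h, hone_deg] at h4; omega
          simp [h5, hbig ψ h4]
      · have h5 : ψ ≠ one := fun h => h1 (h ▸ honeNE)
        by_cases h2 : ψ ∈ X
        · have h6 : mr ψ = 0 := if_neg (fun h => h.2 h2)
          rw [h6, if_pos h2, if_neg h5, hΘy ψ h2]
          simp
        · have h6 : mr ψ = m ψ := if_pos ⟨h1, h2⟩
          rw [h6, if_neg h2, if_neg h5]
          simp
    rw [Finset.sum_congr rfl fun ψ _ => hpt ψ, Finset.sum_add_distrib, Finset.sum_add_distrib] at hfin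
    have h7 : ∑ ψ : IrrCharacter G, (mr ψ : ℂ) * (ψ : G → ℂ) y = 3 := by
      rw [← hΛy, hΛv]
    have h8 : ∑ ψ : IrrCharacter G, (if ψ ∈ X then (m ψ : ℂ) else 0) = 2 := by
      have h9 : ((∑ ψ, fc ψ : ℕ) : ℂ) = ((m Θ₁ + m Θ₂ : ℕ) : ℂ) := by rw [hfc]
      rw [hc1, hc2] at h9
      simp only [fc] at h9
      push_cast at h9
      rw [h9]
    rw [h7, h8] at hfin
    simp only [Finset.sum_ite_eq', Finset.mem_univ, if_true] at hfin
    norm_num at hfin
  · have hK1 : K = 1 := by omega
    obtain ⟨ψ₀, hψ₀⟩ : ∃ ψ₀, fk ψ₀ ≠ 0 := by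
      by_contra h
      push Not at h
      rw [Finset.sum_eq_zero fun ψ _ => h ψ] at hK
      omega
    have huniq : ∀ ψ, fk ψ ≠ 0 → ψ = ψ₀ := by
      intro ψ hψ
      by_contra hne
      have h1 : fk ψ + fk ψ₀ ≤ ∑ ψ, fk ψ := by
        rw [← Finset.sum_pair hne]
        exact Finset.sum_le_sum_of_subset (Finset.subset_univ _)
      omega
    have hle : fk ψ₀ ≤ 1 := by
      rw [← hK1, ← hK]
      exact Finset.single_le_sum (fun _ _ => Nat.zero_le _) (Finset.mem_univ ψ₀)
    have hfk : fk ψ₀ = 1 := by omega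
    have hn : ψ₀ ∉ NE ∧ ψ₀ ∉ X := by
      by_contra h
      exact hψ₀ (if_neg h)
    have hfk' : m ψ₀ * (charDegree (ψ₀ : G → ℂ) / 11) = 1 := by
      rw [← hfk]
      exact (if_pos hn).symm
    have hmψ₀ : m ψ₀ = 1 := Nat.eq_one_of_mul_eq_one_right hfk'
    have hdψ₀ : charDegree (ψ₀ : G → ℂ) = 11 := by
      have h1 : charDegree (ψ₀ : G → ℂ) / 11 = 1 := Nat.eq_one_of_mul_eq_one_left hfk'
      obtain ⟨k, hk⟩ := (hoth ψ₀ hn.1 hn.2).2
      omega
    let ψ₁ : IrrCharacter G := ⟨fun g => conj ((ψ₀ : G → ℂ) g), isIrr_conj ψ₀.2⟩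
    have hmψ₁ : m ψ₁ = m ψ₀ := by
      have h1 := hmψ ψ₁
      have h2 := congrArg conj (hmψ ψ₀)
      simp only [map_mul, map_sum, map_add, map_pow, hreal, map_natCast, map_ofNat] at h2
      have h3 : (2 * Nat.card G : ℂ) * m ψ₁ = 2 * Nat.card G * m ψ₀ := by
        rw [← h1, ← h2]
      have h4 : (m ψ₁ : ℂ) = m ψ₀ := mul_left_cancel₀ (mul_ne_zero two_ne_zero hGne) h3
      exact_mod_cast h4
    have hdψ₁ : charDegree (ψ₁ : G → ℂ) = 11 := by
      have h1 := apply_one_eq ψ₁.2
      have h2 : (ψ₁ : G → ℂ) 1 = 11 := by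
        show conj ((ψ₀ : G → ℂ) 1) = 11
        rw [apply_one_eq ψ₀.2, hdψ₀, map_natCast]
        norm_num
      rw [h2] at h1
      exact_mod_cast h1.symm
    have hn₁ : ψ₁ ∉ NE ∧ ψ₁ ∉ X := by
      constructor
      · intro h
        rcases hNEdeg _ h with h1 | h1 | h1 | h1
        · have h2 : ψ₁ = one := Subtype.ext h1
          rw [h2, hone_deg] at hdψ₁
          omega
        · omega
        · omega
        · omega
      · intro h
        have := hXdeg _ h
        omega
    have heq : ψ₁ = ψ₀ := by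
      apply huniq
      simp only [fk]
      rw [if_pos hn₁, hmψ₁, hmψ₀, hdψ₁]
      norm_num
    have hreal₀ : ∀ g, conj ((ψ₀ : G → ℂ) g) = (ψ₀ : G → ℂ) g := fun g =>
      congrFun (congrArg Subtype.val heq) g
    refine ⟨ψ₀, ψ₀.2, hreal₀, ?_, ?_⟩
    · rw [apply_one_eq ψ₀.2, hdψ₀]; norm_num
    · have h1 := hmψ ψ₀
      simp only [hreal₀] at h1
      rw [h1, hmψ₀]
      simp

end main

section group

open Subgroup

/-- If the Sylow `p`-subgroup has order `p` and its normalizer induces all automorphisms on it, all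
elements of order `p` are conjugate. -/
theorem isConj_of_relIndex {G : Type*} [Group G] [Finite G] {p : ℕ} [hp : Fact p.Prime]
    (hS : ∀ P : Sylow p G, Nat.card P = p) (Q : Sylow p G)
    (hQ : (centralizer ((Q : Subgroup G) : Set G)).relIndex
      (normalizer ((Q : Subgroup G) : Set G)) = p - 1)
    (y z : G) (hy : orderOf y = p) (hz : orderOf z = p) : IsConj y z := by
  classical
  -- every element of order `p` is conjugate to an element of `Q`
  have key : ∀ w : G, orderOf w = p → ∃ a : G, a * w * a⁻¹ ∈ Q := by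
    intro w hw
    obtain ⟨P, hP⟩ := SmallSimple.PrimeSylowAut.exists_sylow_eq_zpowers hS hw
    obtain ⟨a, ha⟩ := MulAction.exists_smul_eq G P Q
    refine ⟨a, ?_⟩
    have h1 : w ∈ P := by
      show w ∈ (P : Subgroup G)
      rw [hP]
      exact mem_zpowers w
    rw [← ha]
    exact Subgroup.smul_mem_pointwise_smul w (MulAut.conj a) P h1
  -- transitivity
  have key2 : ∀ v w : G, v ∈ Q → w ∈ Q → v ≠ 1 → w ≠ 1 → IsConj v w := by
    intro v w hv hw hv1 hw1
    let N := normalizer ((Q : Subgroup G) : Set G)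
    let C := centralizer ((Q : Subgroup G) : Set G)
    let T := {x : G // x ∈ Q ∧ x ≠ 1}
    have hTcard : Nat.card T = p - 1 := by
      have : Fintype Q := Fintype.ofFinite _
      have h1 : Nat.card Q = p := hS Q
      have h2 : Nat.card {x : (Q : Subgroup G) // x ≠ 1} = p - 1 := by
        rw [Nat.card_eq_fintype_card]
        have := Fintype.card_subtype_compl (fun x : (Q : Subgroup G) => x = 1)
        rw [this, Fintype.card_subtype_eq, ← Nat.card_eq_fintype_card, h1]
      rw [← h2]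
      refine Nat.card_congr
        { toFun := fun x => ⟨⟨x.1, x.2.1⟩, fun h => x.2.2 (congrArg Subtype.val h)⟩
          invFun := fun x => ⟨x.1.1, x.1.2, fun h => x.2 (Subtype.ext h)⟩
          left_inv := fun x => rfl
          right_inv := fun x => rfl }
    let φ : N → T := fun n => ⟨n * v * (n : G)⁻¹, (mem_normalizer_iff.1 n.2 v).1 hv, fun h => hv1 (by
      have : v = (n : G)⁻¹ * (n * v * (n : G)⁻¹) * n := by group
      rw [this, h]; group)⟩
    have hφ : ∀ n m : N, φ n = φ m ↔ (n : G)⁻¹ * m ∈ C := by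
      intro n m
      constructor
      · intro h
        have h1 : (n : G) * v * (n : G)⁻¹ = m * v * (m : G)⁻¹ := congrArg Subtype.val h
        refine SmallSimple.PrimeSylowAut.mem_centralizer_of_commute hp.out (hS Q) hv hv1 ?_
        calc (n : G)⁻¹ * m * v = (n : G)⁻¹ * (m * v * (m : G)⁻¹) * m := by group
          _ = v * ((n : G)⁻¹ * m) := by rw [← h1]; group
      · intro h
        have h1 := mem_centralizer_iff.1 h v hv
        apply Subtype.ext
        show (n : G) * v * (n : G)⁻¹ = m * v * (m : G)⁻¹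
        calc (n : G) * v * (n : G)⁻¹ = n * (v * ((n : G)⁻¹ * m)) * (m : G)⁻¹ := by group
          _ = m * v * (m : G)⁻¹ := by rw [h1]; group
    let ψ : N ⧸ C.subgroupOf N → T := Quotient.lift φ (by
      intro n m h
      rw [hφ]
      have := QuotientGroup.leftRel_apply.1 h
      rw [mem_subgroupOf] at this
      exact this)
    have hinj : Function.Injective ψ := by
      intro a b
      refine Quotient.inductionOn₂ a b fun n m h => ?_
      apply Quotient.sound
      refine QuotientGroup.leftRel_apply.2 ?_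
      rw [mem_subgroupOf]
      exact (hφ n m).1 h
    have hcard : Nat.card (N ⧸ C.subgroupOf N) = Nat.card T := by
      rw [hTcard, ← hQ]
      rfl
    have hsurj : Function.Surjective ψ := by
      have := (Nat.bijective_iff_injective_and_card ψ).2 ⟨hinj, hcard⟩
      exact this.2
    obtain ⟨a, ha⟩ := hsurj ⟨w, hw, hw1⟩
    induction a using Quotient.inductionOn with
    | h n =>
      have h1 : (n : G) * v * (n : G)⁻¹ = w := congrArg Subtype.val ha
      exact isConj_iff.2 ⟨n, h1⟩
  obtain ⟨a, ha⟩ := key y hy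
  obtain ⟨b, hb⟩ := key z hz
  have hp1 : p ≠ 1 := hp.out.ne_one
  have h1 := key2 _ _ ha hb (fun h => hp1 (by
    have : y = 1 := by
      have h2 : y = a⁻¹ * (a * y * a⁻¹) * a := by group
      rw [h2, h]; group
    rw [← hy, this, orderOf_one])) (fun h => hp1 (by
    have : z = 1 := by
      have h2 : z = b⁻¹ * (b * z * b⁻¹) * b := by group
      rw [h2, h]; group
    rw [← hz, this, orderOf_one]))
  exact (isConj_iff.2 ⟨a, rfl⟩).trans (h1.trans (isConj_iff.2 ⟨b, rfl⟩).symm)

/-- The elements outside `P` of a group of order `55`, `P` being a self centralizing Sylow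
`11`-subgroup. -/
theorem orderOf_eq_five {G : Type*} [Group G] [Finite G] (P : Sylow 11 G)
    (hP : Nat.card P = 11) (hC : centralizer ((P : Subgroup G) : Set G) = P)
    (hN : Nat.card (normalizer ((P : Subgroup G) : Set G)) = 55) {g : G}
    (hg : g ∈ normalizer ((P : Subgroup G) : Set G)) (hgP : g ∉ P) : orderOf g = 5 := by
  have h55 : orderOf g ∣ 55 := by
    rw [← hN, ← Subgroup.orderOf_mk g hg]
    exact orderOf_dvd_natCard _
  have h11 : ¬ 11 ∣ orderOf g := by
    intro h
    obtain ⟨k, hk⟩ := h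
    have hk0 : 0 < orderOf g := orderOf_pos g
    let h := g ^ k
    have hkpos : k ≠ 0 := by rintro rfl; omega
    have hh : orderOf h = 11 := by
      rw [orderOf_pow_of_dvd hkpos ⟨11, by rw [hk, mul_comm]⟩, hk, Nat.mul_div_cancel _ (Nat.pos_of_ne_zero hkpos)]
    have hhN : h ∈ normalizer ((P : Subgroup G) : Set G) := pow_mem hg k
    have h1 : IsPGroup 11 (zpowers h) := IsPGroup.of_card (n := 1) (by rw [Nat.card_zpowers, hh, pow_one])
    have h2 := h1.inf_normalizer_sylow P
    have hhP : h ∈ P := by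
      have h3 : h ∈ zpowers h ⊓ (P : Subgroup G) := by
        rw [← h2]
        exact ⟨mem_zpowers h, hhN⟩
      exact h3.2
    have hh1 : h ≠ 1 := by
      intro h'
      rw [h', orderOf_one] at hh
      omega
    have : g ∈ centralizer ((P : Subgroup G) : Set G) :=
      SmallSimple.PrimeSylowAut.mem_centralizer_of_commute (p := 11) (by norm_num) hP hhP hh1
        ((Commute.refl g).pow_right k)
    rw [hC] at this
    exact hgP this
  have h1 : orderOf g ≠ 1 := by
    intro h
    rw [orderOf_eq_one_iff] at h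
    exact hgP (h ▸ one_mem P)
  have h5 : orderOf g ∣ 5 := by
    have hc : Nat.Coprime (orderOf g) 11 := by
      rw [Nat.coprime_comm, Nat.Prime.coprime_iff_not_dvd (by norm_num)]
      exact h11
    have : orderOf g ∣ 5 * 11 := by norm_num; exact h55
    exact hc.dvd_of_dvd_mul_right this
  rcases (Nat.dvd_prime (by norm_num : Nat.Prime 5)).1 h5 with h | h
  · exact absurd h h1
  · exact h

/-- **STEP 6.**  `G` is a finite group with a Sylow `11`-subgroup `P` of order `11`, self
centralizing with normalizer of order `55`, in which all elements of order `5` are conjugate, and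
whose irreducible characters not vanishing on `P \ 1` have the degrees and signs `1, 45, -54` or
some degree greater than `66`, and `16, 16` (exceptional).  Then for a real irreducible character
`χ` of degree `11` the symmetric square of `χ` contains a real irreducible character of degree `11`
again. -/
theorem exists_real_eleven {G : Type u} [Group G] [Fintype G] (P : Sylow 11 G)
    (hP : Nat.card P = 11) (hC : centralizer ((P : Subgroup G) : Set G) = P)
    (hN : Nat.card (normalizer ((P : Subgroup G) : Set G)) = 55)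
    (h5 : ∀ y z : G, orderOf y = 5 → orderOf z = 5 → IsConj y z)
    (NE X : Finset (IrrCharacter G)) (ε : IrrCharacter G → ℤ) (d : ℤ)
    (S : IrrCharacter G → Finset (P →* ℂˣ))
    (hNE : ∀ ψ ∈ NE, ∀ x ∈ P, x ≠ 1 → (ψ : G → ℂ) x = ε ψ)
    (hNEdeg : ∀ ψ ∈ NE, (ψ : G → ℂ) = 1 ∨ (charDegree (ψ : G → ℂ) = 45 ∧ ε ψ = 1) ∨
      (charDegree (ψ : G → ℂ) = 54 ∧ ε ψ = -1) ∨ 66 < charDegree (ψ : G → ℂ))
    (hX : X.card = 2) (hXdeg : ∀ Θ ∈ X, charDegree (Θ : G → ℂ) = 16) (hd : d = 1 ∨ d = -1)
    (hXval : ∀ Θ ∈ X, (S Θ).card = 5 ∧ 1 ∉ S Θ ∧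
      ∀ x : P, x ≠ 1 → (Θ : G → ℂ) x = d * ∑ l ∈ S Θ, (l x : ℂ))
    (hXdisj : ∀ Θ ∈ X, ∀ Θ' ∈ X, Θ ≠ Θ' → Disjoint (S Θ) (S Θ'))
    (hoth : ∀ ψ : IrrCharacter G, ψ ∉ NE → ψ ∉ X →
      (∀ x ∈ P, x ≠ 1 → (ψ : G → ℂ) x = 0) ∧ 11 ∣ charDegree (ψ : G → ℂ))
    {χ : G → ℂ} (hχ : IsIrrCharacter G χ) (hreal : ∀ g, conj (χ g) = χ g) (hdeg : χ 1 = 11) :
    ∃ ψ : G → ℂ, IsIrrCharacter G ψ ∧ (∀ g, conj (ψ g) = ψ g) ∧ ψ 1 = 11 ∧
      ∑ g, ψ (g * g) = Nat.card G ∧ ∑ g, (χ g ^ 2 + χ (g * g)) * ψ g ≠ 0 := by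
  classical
  have : Fintype P := Fintype.ofFinite _
  have : Fintype (P : Subgroup G) := Fintype.ofFinite _
  obtain ⟨y, hy⟩ : ∃ y : G, y ∈ normalizer ((P : Subgroup G) : Set G) ∧ y ∉ P := by
    by_contra h
    push Not at h
    have h1 : normalizer ((P : Subgroup G) : Set G) ≤ (P : Subgroup G) := h
    have h2 := Subgroup.card_dvd_of_le h1
    rw [hN, hP] at h2
    omega
  obtain ⟨ψ, h1, h2, h3, h4⟩ := exists_real_core (P : Subgroup G) hP
    (normalizer ((P : Subgroup G) : Set G)) Subgroup.le_normalizer hN y hy.1 hy.2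
    (fun g hg hgP => h5 y g (orderOf_eq_five P hP hC hN hy.1 hy.2)
      (orderOf_eq_five P hP hC hN hg hgP)) NE X ε d S hNE hNEdeg hX hXdeg hd hXval hXdisj hoth
    hχ hreal hdeg
  exact ⟨ψ, h1, h2, h3, sum_sq_eq_card h1 h2 11 (by rw [h3]; norm_num) (by decide), h4⟩

end group

end Cfsg.Agent.MTwelve.SymSquare
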