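import Cfsg.Agent.MTwelve.ElevenBlock_mg
import Cfsg.Agent.MTwelve.FiveLocal
import Cfsg.Agent.CharactersDeep.FeitOddAux
import Mathlib.Data.Int.Basic
import Mathlib.Tactic
import Mathlib
import Cfsg.Agent.MTwelve.BlockData
import Cfsg.Agent.MTwelve.SymSquare
import Cfsg.Agent.SporadicA.NortonTrick
import Cfsg.Agent.MTwelve.BlockExists
set_option linter.all false

-- part: MTwelve/DegreeEleven
section
/-!
# A real irreducible character of degree eleven

STEP 5 of the characterisation of `M₁₂` by its order: in the only surviving family for the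
principal 11-block there is a real irreducible character of degree `11`.
-/

set_option autoImplicit false
set_option linter.unusedSectionVars false

open scoped ComplexConjugate
open Cfsg

namespace Cfsg.Agent.MTwelve.DegreeEleven

open Cfsg.Agent.Characters
open Cfsg.Agent.MTwelve.BlockData
open Cfsg.Agent.MTwelve.FiveBlock
open Cfsg.Agent.MTwelve.FiveLocal

universe u

section general

variable {G : Type u} [Group G] [Finite G] [Fintype (IrrCharacter G)]

/-- Column orthogonality for integer columns. -/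
theorem sum_mul_of_isConj {a b : IrrCharacter G → ℤ} {g h : G}
    (ha : ∀ χ : IrrCharacter G, (χ : G → ℂ) g = a χ)
    (hb : ∀ χ : IrrCharacter G, (χ : G → ℂ) h = b χ) (hgh : IsConj g h) :
    ∑ χ, a χ * b χ = Nat.card (Subgroup.centralizer ({g} : Set G)) := by
  have h1 := (Cfsg.Agent.S0145.result g h).1 hgh
  rw [finsum_eq_sum_of_fintype, Finset.sum_congr rfl fun χ _ => by rw [ha χ, hb χ]] at h1
  have h2 : ((∑ χ, a χ * b χ : ℤ) : ℂ) =
      ((Nat.card (Subgroup.centralizer ({g} : Set G)) : ℤ) : ℂ) := by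
    push_cast
    rw [← h1]
    exact Finset.sum_congr rfl fun χ _ => by rw [map_intCast]
  exact_mod_cast h2

theorem sum_mul_of_not_isConj {a b : IrrCharacter G → ℤ} {g h : G}
    (ha : ∀ χ : IrrCharacter G, (χ : G → ℂ) g = a χ)
    (hb : ∀ χ : IrrCharacter G, (χ : G → ℂ) h = b χ) (hgh : ¬ IsConj g h) :
    ∑ χ, a χ * b χ = 0 := by
  have h1 := (Cfsg.Agent.S0145.result g h).2 hgh
  rw [finsum_eq_sum_of_fintype, Finset.sum_congr rfl fun χ _ => by rw [ha χ, hb χ]] at h1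
  have h2 : ((∑ χ, a χ * b χ : ℤ) : ℂ) = ((0 : ℤ) : ℂ) := by
    push_cast
    rw [← h1]
    exact Finset.sum_congr rfl fun χ _ => by rw [map_intCast]
  exact_mod_cast h2

omit [Finite G] in
/-- The Frobenius-Schur count of square roots of one. -/
theorem sum_indicator [Fintype G] {ν : IrrCharacter G → ℤ}
    (hν : ∀ χ : IrrCharacter G, (Nat.card G : ℂ)⁻¹ * ∑ s : G, (χ : G → ℂ) (s * s) = ν χ) :
    ∑ χ, ν χ * (deg χ : ℤ) = Nat.card {s : G // s * s = 1} := by
  classical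
  have hne : (Nat.card G : ℂ) ≠ 0 := Core.card_ne_zero_complex
  have h1 : ∀ s : G, ∑ χ : IrrCharacter G, (χ : G → ℂ) (s * s) * (χ : G → ℂ) 1 =
      if s * s = 1 then (Nat.card G : ℂ) else 0 := by
    intro s
    have hc : ∀ χ : IrrCharacter G, (χ : G → ℂ) 1 = conj ((χ : G → ℂ) 1) := fun χ => by
      rw [apply_one, Complex.conj_natCast]
    rw [Finset.sum_congr rfl fun χ _ => by rw [hc χ]]
    split_ifs with hs
    · have h2 := (Cfsg.Agent.S0145.result (s * s) 1).1 (by rw [hs])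
      rw [finsum_eq_sum_of_fintype] at h2
      rw [h2, hs]
      have : Subgroup.centralizer ({(1 : G)} : Set G) = ⊤ := by
        rw [eq_top_iff]
        intro x _
        rw [Subgroup.mem_centralizer_singleton_iff, mul_one, one_mul]
      rw [this, Subgroup.card_top]
    · have h2 := (Cfsg.Agent.S0145.result (s * s) 1).2 (fun h => hs (isConj_one_left.1 h))
      rw [finsum_eq_sum_of_fintype] at h2
      exact h2
  have h2 : ((∑ χ, ν χ * (deg χ : ℤ) : ℤ) : ℂ) = ((Nat.card {s : G // s * s = 1} : ℤ) : ℂ) := by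
    push_cast
    calc ∑ χ : IrrCharacter G, (ν χ : ℂ) * (deg χ : ℂ)
        = ∑ χ : IrrCharacter G, (Nat.card G : ℂ)⁻¹ *
            ∑ s : G, (χ : G → ℂ) (s * s) * (χ : G → ℂ) 1 := by
          refine Finset.sum_congr rfl fun χ _ => ?_
          rw [← hν χ, ← apply_one, mul_assoc, Finset.sum_mul]
      _ = (Nat.card G : ℂ)⁻¹ * ∑ s : G, if s * s = 1 then (Nat.card G : ℂ) else 0 := by
          rw [← Finset.mul_sum, Finset.sum_comm]
          congr 1
          exact Finset.sum_congr rfl fun s _ => h1 s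
      _ = (Nat.card {s : G // s * s = 1} : ℂ) := by
          rw [← Finset.sum_filter, Finset.sum_const, nsmul_eq_mul, mul_comm, mul_assoc,
            mul_inv_cancel₀ hne, mul_one, Nat.card_eq_fintype_card, Fintype.card_subtype]
  exact_mod_cast h2

end general

/-! ### The combinatorial part -/

theorem sgn_sq (n : ℕ) : sgn n * sgn n = 1 := by
  unfold sgn
  split_ifs <;> norm_num

theorem arith_two {a b : ℕ} (ha : a ∈ pool) (hb : b ∈ pool) (ha' : 11 ∣ a) (hb' : 11 ∣ b)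
    (ha5 : a % 5 = 1 ∨ a % 5 = 4) (hb5 : b % 5 = 1 ∨ b % 5 = 4) (hab : a ≤ b)
    (h : sgn a * a + sgn b * b = 22) : (a = 11 ∧ b = 11) ∨ (a = 44 ∧ b = 66) := by
  have red : ∀ n ∈ pool, 11 ∣ n → (n % 5 = 1 ∨ n % 5 = 4) →
      n ∈ [11, 44, 66, 99, 176, 264] := by decide
  have key : ∀ a ∈ [11, 44, 66, 99, 176, 264], ∀ b ∈ [11, 44, 66, 99, 176, 264], a ≤ b →
      sgn a * a + sgn b * b = 22 → (a = 11 ∧ b = 11) ∨ (a = 44 ∧ b = 66) := by decide +kernel
  exact key a (red a ha ha' ha5) b (red b hb hb' hb5) hab h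

theorem arith_three {a b c : ℕ} (ha : a ∈ pool) (hb : b ∈ pool) (hc : c ∈ pool) (ha' : 11 ∣ a)
    (hb' : 11 ∣ b) (hc' : 11 ∣ c) (ha5 : a % 5 = 1 ∨ a % 5 = 4) (hb5 : b % 5 = 1 ∨ b % 5 = 4)
    (hc5 : c % 5 = 1 ∨ c % 5 = 4) (hab : a ≤ b) (hbc : b ≤ c)
    (h : sgn a * a + sgn b * b + sgn c * c = 198) :
    (a = 11 ∧ b = 11 ∧ c = 176) ∨ (a = 44 ∧ b = 66 ∧ c = 176) ∨
      (a = 66 ∧ b = 66 ∧ c = 66) := by
  have red : ∀ n ∈ pool, 11 ∣ n → (n % 5 = 1 ∨ n % 5 = 4) →
      n ∈ [11, 44, 66, 99, 176, 264] := by decide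
  have key : ∀ a ∈ [11, 44, 66, 99, 176, 264], ∀ b ∈ [11, 44, 66, 99, 176, 264],
      ∀ c ∈ [11, 44, 66, 99, 176, 264], a ≤ b → b ≤ c →
      sgn a * a + sgn b * b + sgn c * c = 198 →
      (a = 11 ∧ b = 11 ∧ c = 176) ∨ (a = 44 ∧ b = 66 ∧ c = 176) ∨
      (a = 66 ∧ b = 66 ∧ c = 66) := by decide +kernel
  exact key a (red a ha ha' ha5) b (red b hb hb' hb5) c (red c hc hc' hc5) hab hbc h

theorem arith_sixty_six {x y z d : ℤ} (hx : x % 20 = 14) (hy : y % 20 = 14) (hz : z % 20 = 14)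
    (hsq : x * x + y * y + z * z ≤ 240) (h : x + y + z = 6 + d) (hd : d = 4 ∨ d = -4) : False := by
  have q0 := mul_self_nonneg x
  have q1 := mul_self_nonneg y
  have q2 := mul_self_nonneg z
  have bx : -16 < x ∧ x < 16 := by constructor <;> nlinarith
  have bY : -16 < y ∧ y < 16 := by constructor <;> nlinarith
  have bz : -16 < z ∧ z < 16 := by constructor <;> nlinarith
  have cx : x = 14 ∨ x = -6 := by omega
  have cy : y = 14 ∨ y = -6 := by omega
  have cz : z = 14 ∨ z = -6 := by omega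
  rcases cx with rfl | rfl <;> rcases cy with rfl | rfl <;> rcases cz with rfl | rfl <;> omega

/-- The numerical data. -/
structure Ctx (I : Type u) [Fintype I] where
  deg : I → ℕ
  v : I → ℤ
  w : I → ℤ
  s : I → ℤ
  ν : I → ℤ
  cj : I → I
  o : I
  c45 : I
  c54 : I
  c120 : I
  c144 : I
  th : I
  th' : I
  c : Fin 4 → I
  deg_o : deg o = 1
  hpool : ∀ i, i ≠ o → deg i ∈ pool
  d45 : deg c45 = 45
  d54 : deg c54 = 54
  d120 : deg c120 = 120
  d144 : deg c144 = 144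
  dth : deg th = 16
  dth' : deg th' = 16
  th_ne : th ≠ th'
  rest : ∀ i, i = o ∨ i = c45 ∨ i = c54 ∨ i = c120 ∨ i = c144 ∨ i = th ∨ i = th' ∨ 11 ∣ deg i
  v_o : v o = 1
  w_o : w o = 1
  s_o : s o = 1
  dvd_v : ∀ i, (5 : ℤ) ∣ deg i - v i
  dvd_w : ∀ i, (5 : ℤ) ∣ s i - w i
  dvd_s : ∀ i, (4 : ℤ) ∣ deg i - s i
  sum_dd : ∑ i, (deg i : ℤ) * deg i = 95040
  sum_vv : ∑ i, v i * v i = 10
  sum_ww : ∑ i, w i * w i = 10
  sum_vw : ∑ i, v i * w i = 0
  sum_vd : ∑ i, v i * deg i = 0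
  sum_vs : ∑ i, v i * s i = 0
  col : (s c54 = 6 ∧ (s c144 = 4 ∨ s c144 = -4) ∧ ∑ i, s i * s i ≤ 240 ∧
    892 ≤ ∑ i, ν i * deg i) ∨ s th = -8
  c_inj : Function.Injective c
  c_ne : ∀ i, c i ≠ o
  c_v : ∀ i, v (c i) = sgn (deg (c i))
  c_w : ∀ i, w (c i) = sgn (deg (c i))
  rel_d : 1 + ∑ i, sgn (deg (c i)) * (deg (c i) : ℤ) = 0
  rel_s : 1 + ∑ i, sgn (deg (c i)) * s (c i) = 0
  cases : ((deg (c 0) = 11 ∧ deg (c 1) = 16 ∧ deg (c 2) = 16 ∧ deg (c 3) = 44) ∨
       (deg (c 0) = 11 ∧ deg (c 1) = 44 ∧ deg (c 2) = 144 ∧ deg (c 3) = 176) ∨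
       (deg (c 0) = 11 ∧ deg (c 1) = 66 ∧ deg (c 2) = 66 ∧ deg (c 3) = 144) ∨
       (deg (c 0) = 16 ∧ deg (c 1) = 16 ∧ deg (c 2) = 66 ∧ deg (c 3) = 99) ∨
       (deg (c 0) = 66 ∧ deg (c 1) = 99 ∧ deg (c 2) = 144 ∧ deg (c 3) = 176))
  cj_deg : ∀ i, deg (cj i) = deg i
  cj_v : ∀ i, v (cj i) = v i
  cj_w : ∀ i, w (cj i) = w i
  ν_le : ∀ i, ν i ≤ 1
  ν_th : ν th = 0
  ν_th' : ν th' = 0
  ν_cj : ∀ i, cj i ≠ i → ν i = 0

namespace Ctx

variable {I : Type u} [Fintype I] [DecidableEq I] (C : Ctx I)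

/-- The principal 5-block. -/
def S : Finset I := insert C.o (Finset.univ.image C.c)

theorem mem_S {i : I} : i ∈ C.S ↔ i = C.o ∨ ∃ j, C.c j = i := by
  simp [S]

theorem sum_S (f : I → ℤ) : ∑ i ∈ C.S, f i = f C.o + ∑ j, f (C.c j) := by
  unfold S
  rw [Finset.sum_insert, Finset.sum_image fun i _ j _ h => C.c_inj h]
  intro h
  obtain ⟨j, -, hj⟩ := Finset.mem_image.1 h
  exact C.c_ne j hj

theorem sum_eq (f : I → ℤ) : ∑ i, f i = (f C.o + ∑ j, f (C.c j)) + ∑ i ∈ C.Sᶜ, f i := by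
  rw [← C.sum_S, Finset.sum_add_sum_compl]

theorem w_eq {i : I} (hi : i ∉ C.S) : C.w i = -C.v i := by
  have h1 : ∑ i, (C.v i + C.w i) * (C.v i + C.w i) = 20 := by
    have h2 : ∀ i, (C.v i + C.w i) * (C.v i + C.w i) =
        C.v i * C.v i + 2 * (C.v i * C.w i) + C.w i * C.w i := fun i => by ring
    rw [Finset.sum_congr rfl fun i _ => h2 i, Finset.sum_add_distrib, Finset.sum_add_distrib,
      ← Finset.mul_sum, C.sum_vv, C.sum_vw, C.sum_ww]
    norm_num
  rw [C.sum_eq] at h1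
  have h3 : ∀ j, (C.v (C.c j) + C.w (C.c j)) * (C.v (C.c j) + C.w (C.c j)) = 4 := by
    intro j
    rw [C.c_v, C.c_w]
    have := sgn_sq (C.deg (C.c j))
    linear_combination 4 * this
  rw [Finset.sum_congr rfl fun j _ => h3 j, C.v_o, C.w_o] at h1
  have h4 : ∑ i ∈ C.Sᶜ, (C.v i + C.w i) * (C.v i + C.w i) = 0 := by
    simp at h1
    linarith
  have h5 := (Finset.sum_eq_zero_iff_of_nonneg (fun i _ => mul_self_nonneg _)).1 h4 i
    (Finset.mem_compl.2 hi)
  have h6 := mul_self_eq_zero.1 h5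
  linarith

theorem sum_compl_vv : ∑ i ∈ C.Sᶜ, C.v i * C.v i = 5 := by
  have h1 := C.sum_vv
  rw [C.sum_eq] at h1
  have h3 : ∀ j, C.v (C.c j) * C.v (C.c j) = 1 := by
    intro j
    rw [C.c_v]
    exact sgn_sq _
  rw [Finset.sum_congr rfl fun j _ => h3 j, C.v_o] at h1
  simp at h1
  linarith

theorem sum_compl_vd : ∑ i ∈ C.Sᶜ, C.v i * C.deg i = 0 := by
  have h1 := C.sum_vd
  rw [C.sum_eq, Finset.sum_congr rfl fun j _ => by rw [C.c_v], C.v_o, C.deg_o] at h1
  have h2 := C.rel_d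
  push_cast at h1
  linarith

theorem sum_compl_vs : ∑ i ∈ C.Sᶜ, C.v i * C.s i = 0 := by
  have h1 := C.sum_vs
  rw [C.sum_eq, Finset.sum_congr rfl fun j _ => by rw [C.c_v], C.v_o, C.s_o] at h1
  have h2 := C.rel_s
  linarith

theorem ne_of_deg {i j : I} (h : C.deg i ≠ C.deg j) : i ≠ j := fun e => h (congrArg C.deg e)

theorem deg_c (j : Fin 4) : C.deg (C.c j) = 11 ∨ C.deg (C.c j) = 16 ∨ C.deg (C.c j) = 44 ∨
    C.deg (C.c j) = 66 ∨ C.deg (C.c j) = 99 ∨ C.deg (C.c j) = 144 ∨ C.deg (C.c j) = 176 := by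
  have h := C.cases
  fin_cases j <;> simp only [Fin.zero_eta, Fin.mk_one, Fin.reduceFinMk] <;> omega

theorem notMem_S {i : I} (h1 : C.deg i ≠ 1) (h : ∀ j, C.deg (C.c j) ≠ C.deg i) : i ∉ C.S := by
  rw [C.mem_S]
  rintro (rfl | ⟨j, rfl⟩)
  · exact h1 C.deg_o
  · exact h j rfl

theorem v_sq_le {i : I} (hi : i ∉ C.S) : C.v i * C.v i ≤ 5 := by
  rw [← C.sum_compl_vv]
  exact Finset.single_le_sum (f := fun i => C.v i * C.v i) (fun j _ => mul_self_nonneg _)
    (Finset.mem_compl.2 hi)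

theorem v_abs_le {i : I} (hi : i ∉ C.S) : -2 ≤ C.v i ∧ C.v i ≤ 2 := by
  have h := C.v_sq_le hi
  constructor <;> nlinarith

theorem c45_notMem : C.c45 ∉ C.S := by
  refine C.notMem_S (by rw [C.d45]; norm_num) fun j => ?_
  have := C.deg_c j
  rw [C.d45]
  omega

theorem c54_notMem : C.c54 ∉ C.S := by
  refine C.notMem_S (by rw [C.d54]; norm_num) fun j => ?_
  have := C.deg_c j
  rw [C.d54]
  omega

theorem c120_notMem : C.c120 ∉ C.S := by
  refine C.notMem_S (by rw [C.d120]; norm_num) fun j => ?_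
  have := C.deg_c j
  rw [C.d120]
  omega

theorem v45 : C.v C.c45 = 0 := by
  have h1 := C.v_abs_le C.c45_notMem
  have h2 := C.dvd_v C.c45
  rw [C.d45] at h2
  push_cast at h2
  omega

theorem v120 : C.v C.c120 = 0 := by
  have h1 := C.v_abs_le C.c120_notMem
  have h2 := C.dvd_v C.c120
  rw [C.d120] at h2
  push_cast at h2
  omega

theorem v54 : C.v C.c54 = -1 := by
  have h1 := C.v_abs_le C.c54_notMem
  have h2 := C.dvd_v C.c54
  rw [C.d54] at h2
  push_cast at h2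
  omega

/-- The value at `th` is not `-8`. -/
theorem s_th_ne : C.s C.th ≠ -8 := by
  intro h8
  have h1 := C.dvd_v C.th
  have h2 := C.dvd_w C.th
  rw [C.dth] at h1
  push_cast at h1
  by_cases hS : C.th ∈ C.S
  · rw [C.mem_S] at hS
    rcases hS with h | ⟨j, h⟩
    · have := C.deg_o
      rw [← h, C.dth] at this
      omega
    · have h3 := C.c_w j
      rw [h, C.dth] at h3
      have h4 : sgn 16 = 1 := by decide
      rw [h4] at h3
      omega
  · have h3 := C.v_abs_le hS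
    have h4 := C.w_eq hS
    omega

theorem col' : C.s C.c54 = 6 ∧ (C.s C.c144 = 4 ∨ C.s C.c144 = -4) ∧ ∑ i, C.s i * C.s i ≤ 240 ∧
    892 ≤ ∑ i, C.ν i * C.deg i := by
  rcases C.col with h | h
  · exact h
  · exact absurd h C.s_th_ne

theorem cj_mem_S {i : I} (hi : i ∈ C.S) : C.cj i ∈ C.S := by
  by_contra h
  have h1 := C.w_eq h
  rw [C.cj_w, C.cj_v] at h1
  rw [C.mem_S] at hi
  rcases hi with rfl | ⟨j, rfl⟩
  · rw [C.w_o, C.v_o] at h1
    norm_num at h1
  · rw [C.c_w, C.c_v] at h1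
    unfold sgn at h1
    split_ifs at h1 <;> norm_num at h1

/-- If exactly one member of the principal 5-block has degree eleven then it is real. -/
theorem real_of_unique (j : Fin 4) (hj : C.deg (C.c j) = 11)
    (h : ∀ k, C.deg (C.c k) = 11 → k = j) : ∃ i, C.deg i = 11 ∧ C.cj i = i := by
  refine ⟨C.c j, hj, ?_⟩
  have h1 : C.cj (C.c j) ∈ C.S := C.cj_mem_S (C.mem_S.2 (Or.inr ⟨j, rfl⟩))
  rw [C.mem_S] at h1
  have hd := C.cj_deg (C.c j)
  rw [hj] at hd
  rcases h1 with h2 | ⟨k, hk⟩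
  · rw [h2, C.deg_o] at hd
    norm_num at hd
  · rw [← hk] at hd ⊢
    rw [h k hd]

theorem deg_mod {i : I} (hv : C.v i = 1 ∨ C.v i = -1) :
    (C.deg i % 5 = 1 ∨ C.deg i % 5 = 4) ∧ C.v i = sgn (C.deg i) := by
  have h := C.dvd_v i
  unfold sgn
  split_ifs <;> omega

/-- The defect of the Frobenius-Schur inequality. -/
def f (i : I) : ℤ := C.deg i * C.deg i - 55 * (C.ν i * C.deg i)

theorem f_nonneg {i : I} (h : 55 ∣ C.deg i) : 0 ≤ C.f i := by
  unfold f
  obtain ⟨k, hk⟩ := h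
  have h1 := C.ν_le i
  rw [hk]
  rcases Nat.eq_zero_or_pos k with rfl | hk0
  · simp
  · have h2 : (1 : ℤ) ≤ k := by exact_mod_cast hk0
    push_cast
    have h3 : C.ν i * (55 * (k : ℤ)) ≤ 55 * k := by nlinarith
    nlinarith

theorem f_ge (i : I) : (C.deg i : ℤ) * C.deg i - 55 * C.deg i ≤ C.f i := by
  unfold f
  have h1 := C.ν_le i
  have h2 : (0 : ℤ) ≤ C.deg i := Int.natCast_nonneg _
  nlinarith

theorem sum_f_le : ∑ i, C.f i ≤ 45980 := by
  unfold f
  rw [Finset.sum_sub_distrib, ← Finset.mul_sum, C.sum_dd]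
  have := C.col'.2.2.2
  linarith

theorem f_th : C.f C.th = 256 := by
  unfold f
  rw [C.ν_th, C.dth]
  norm_num

theorem f_th' : C.f C.th' = 256 := by
  unfold f
  rw [C.ν_th', C.dth']
  norm_num

theorem real_of_ν {i : I} (h : C.ν i ≠ 0) : C.cj i = i := by
  by_contra h1
  exact h (C.ν_cj i h1)

theorem f_eleven {i : I} (hd : C.deg i = 11) (hn : C.cj i ≠ i) : C.f i = 121 := by
  unfold f
  rw [C.ν_cj i hn, hd]
  norm_num

/-- Case A: the principal 5-block contains the character of degree `144`, but none of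
degree `16`. -/
theorem caseA (h144 : C.c144 ∈ C.S) (h16 : ∀ j, C.deg (C.c j) ≠ 16) :
    ∃ a b : I, a ≠ b ∧ ((C.deg a = 11 ∧ C.deg b = 11) ∨ (C.deg a = 44 ∧ C.deg b = 66)) ∧
      (∀ g : I → ℤ, (∀ i, 55 ∣ C.deg i → 0 ≤ g i) →
        g C.o + ∑ j, g (C.c j) + (g C.c45 + g C.c54 + g C.c120 + g C.th + g C.th') +
          (g a + g b) ≤ ∑ i, g i) := by
  have hth : C.th ∉ C.S := C.notMem_S (by rw [C.dth]; norm_num) fun j => by
    rw [C.dth]; exact h16 j
  have hth' : C.th' ∉ C.S := C.notMem_S (by rw [C.dth']; norm_num) fun j => by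
    rw [C.dth']; exact h16 j
  have vth : C.v C.th = 1 := by
    have h1 := C.v_abs_le hth
    have h2 := C.dvd_v C.th
    rw [C.dth] at h2
    push_cast at h2
    omega
  have vth' : C.v C.th' = 1 := by
    have h1 := C.v_abs_le hth'
    have h2 := C.dvd_v C.th'
    rw [C.dth'] at h2
    push_cast at h2
    omega
  -- the known characters outside
  have e1 : C.c45 ≠ C.c54 := C.ne_of_deg (by rw [C.d45, C.d54]; norm_num)
  have e2 : C.c45 ≠ C.c120 := C.ne_of_deg (by rw [C.d45, C.d120]; norm_num)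
  have e3 : C.c45 ≠ C.th := C.ne_of_deg (by rw [C.d45, C.dth]; norm_num)
  have e4 : C.c45 ≠ C.th' := C.ne_of_deg (by rw [C.d45, C.dth']; norm_num)
  have e5 : C.c54 ≠ C.c120 := C.ne_of_deg (by rw [C.d54, C.d120]; norm_num)
  have e6 : C.c54 ≠ C.th := C.ne_of_deg (by rw [C.d54, C.dth]; norm_num)
  have e7 : C.c54 ≠ C.th' := C.ne_of_deg (by rw [C.d54, C.dth']; norm_num)
  have e8 : C.c120 ≠ C.th := C.ne_of_deg (by rw [C.d120, C.dth]; norm_num)
  have e9 : C.c120 ≠ C.th' := C.ne_of_deg (by rw [C.d120, C.dth']; norm_num)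
  let K : Finset I := {C.c45, C.c54, C.c120, C.th, C.th'}
  have hK : ∀ g : I → ℤ, ∑ i ∈ K, g i = g C.c45 + g C.c54 + g C.c120 + g C.th + g C.th' := by
    intro g
    simp only [K]
    rw [Finset.sum_insert (by simp [e1, e2, e3, e4]), Finset.sum_insert (by simp [e5, e6, e7]),
      Finset.sum_insert (by simp [e8, e9]), Finset.sum_insert (by simp [C.th_ne]),
      Finset.sum_singleton]
    ring
  have hKS : K ⊆ C.Sᶜ := by
    intro i hi
    rw [Finset.mem_compl]
    simp only [K, Finset.mem_insert, Finset.mem_singleton] at hi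
    rcases hi with rfl | rfl | rfl | rfl | rfl
    · exact C.c45_notMem
    · exact C.c54_notMem
    · exact C.c120_notMem
    · exact hth
    · exact hth'
  have hsplit : ∀ g : I → ℤ, ∑ i ∈ C.Sᶜ \ K, g i =
      ∑ i ∈ C.Sᶜ, g i - (g C.c45 + g C.c54 + g C.c120 + g C.th + g C.th') := by
    intro g
    rw [← hK g, ← Finset.sum_sdiff hKS]
    ring
  have hdeg11 : ∀ i ∈ C.Sᶜ \ K, 11 ∣ C.deg i := by
    intro i hi
    rw [Finset.mem_sdiff, Finset.mem_compl] at hi
    obtain ⟨hiS, hiK⟩ := hi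
    simp only [K, Finset.mem_insert, Finset.mem_singleton, not_or] at hiK
    rcases C.rest i with h | h | h | h | h | h | h | h
    · exact absurd (C.mem_S.2 (Or.inl h)) hiS
    · exact absurd h hiK.1
    · exact absurd h hiK.2.1
    · exact absurd h hiK.2.2.1
    · exact absurd (h ▸ h144) hiS
    · exact absurd h hiK.2.2.2.1
    · exact absurd h hiK.2.2.2.2
    · exact h
  have hvv : ∑ i ∈ C.Sᶜ \ K, C.v i * C.v i = 2 := by
    rw [hsplit fun i => C.v i * C.v i, C.sum_compl_vv, C.v45, C.v54, C.v120, vth, vth']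
    norm_num
  have hvd : ∑ i ∈ C.Sᶜ \ K, C.v i * C.deg i = 22 := by
    rw [hsplit fun i => C.v i * C.deg i, C.sum_compl_vd, C.v45, C.v54, C.v120, vth, vth', C.d54,
      C.dth, C.dth']
    norm_num
  let R : Finset I := (C.Sᶜ \ K).filter fun i => C.v i ≠ 0
  have hv1 : ∀ i ∈ R, C.v i = 1 ∨ C.v i = -1 := by
    intro i hi
    rw [Finset.mem_filter] at hi
    have h1 : C.v i * C.v i ≤ 2 := by
      rw [← hvv]
      exact Finset.single_le_sum (f := fun i => C.v i * C.v i) (fun j _ => mul_self_nonneg _) hi.1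
    have h2 : -1 ≤ C.v i ∧ C.v i ≤ 1 := by constructor <;> nlinarith
    have h3 := hi.2
    omega
  have hRsum : ∀ g : I → ℤ, (∀ i, C.v i = 0 → g i = 0) →
      ∑ i ∈ R, g i = ∑ i ∈ C.Sᶜ \ K, g i := by
    intro g hg
    refine Finset.sum_filter_of_ne fun i _ hi => ?_
    intro h0
    exact hi (hg i h0)
  have hRcard : R.card = 2 := by
    have h1 := hRsum (fun i => C.v i * C.v i) (fun i hi => by rw [hi]; norm_num)
    rw [hvv, Finset.sum_congr rfl fun i hi => show C.v i * C.v i = 1 by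
      rcases hv1 i hi with h | h <;> rw [h] <;> norm_num] at h1
    simp at h1
    exact_mod_cast h1
  obtain ⟨r, hrinj, hr, hrmono⟩ := exists_enum R C.deg hRcard
  have hrR : ∀ i, r i ∈ R := fun i => (hr _).2 ⟨i, rfl⟩
  have hrimg : R = Finset.univ.image r := by
    ext i
    rw [hr, Finset.mem_image]
    simp
  have hrsum : ∀ g : I → ℤ, ∑ i ∈ R, g i = g (r 0) + g (r 1) := by
    intro g
    rw [hrimg, Finset.sum_image fun i _ j _ h => hrinj h, Fin.sum_univ_two]
  have hrO : ∀ i, r i ∈ C.Sᶜ \ K := fun i => (Finset.mem_filter.1 (hrR i)).1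
  have hrne : ∀ i, r i ≠ C.o := by
    intro i h
    have h1 := hrO i
    rw [Finset.mem_sdiff, Finset.mem_compl] at h1
    exact h1.1 (C.mem_S.2 (Or.inl h))
  refine ⟨r 0, r 1, fun h => absurd (hrinj h) (by decide), ?_, ?_⟩
  · have h1 := hRsum (fun i => C.v i * C.deg i) (fun i hi => by rw [hi]; norm_num)
    rw [hvd, hrsum, (C.deg_mod (hv1 _ (hrR 0))).2, (C.deg_mod (hv1 _ (hrR 1))).2] at h1
    exact arith_two (C.hpool _ (hrne 0)) (C.hpool _ (hrne 1)) (hdeg11 _ (hrO 0))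
      (hdeg11 _ (hrO 1)) (C.deg_mod (hv1 _ (hrR 0))).1 (C.deg_mod (hv1 _ (hrR 1))).1
      (hrmono (by decide : (0 : Fin 2) ≤ 1)) h1
  · intro g hg
    rw [C.sum_eq g]
    have h1 := hsplit g
    have h2 : g (r 0) + g (r 1) ≤ ∑ i ∈ C.Sᶜ \ K, g i := by
      rw [← hrsum g]
      refine Finset.sum_le_sum_of_subset_of_nonneg (Finset.filter_subset _ _) ?_
      intro i hi hiR
      apply hg
      have h3 := hdeg11 i hi
      have h4 : C.v i = 0 := by
        by_contra h5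
        exact hiR (Finset.mem_filter.2 ⟨hi, h5⟩)
      have h6 := C.dvd_v i
      rw [h4, sub_zero] at h6
      have h7 : 5 ∣ C.deg i := by exact_mod_cast h6
      omega
    linarith

/-- Case B: the principal 5-block contains the two characters of degree `16`, but none of
degree `144`. -/
theorem caseB (hth : C.th ∈ C.S) (hth' : C.th' ∈ C.S) (h144 : ∀ j, C.deg (C.c j) ≠ 144) :
    ∃ r : Fin 3 → I, Function.Injective r ∧
      ((C.deg (r 0) = 11 ∧ C.deg (r 1) = 11 ∧ C.deg (r 2) = 176) ∨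
       (C.deg (r 0) = 44 ∧ C.deg (r 1) = 66 ∧ C.deg (r 2) = 176) ∨
       (C.deg (r 0) = 66 ∧ C.deg (r 1) = 66 ∧ C.deg (r 2) = 66)) ∧
      (∀ i, C.v (r i) = sgn (C.deg (r i))) ∧ (∀ i, C.w (r i) = -C.v (r i)) ∧
      (∑ i, C.v (r i) * C.s (r i) = C.s C.c54 + C.s C.c144) ∧
      (∀ g : I → ℤ, (∀ i, 55 ∣ C.deg i → 0 ≤ g i) →
        g C.o + ∑ j, g (C.c j) + (g C.c45 + g C.c54 + g C.c120 + g C.c144) +
          (g (r 0) + g (r 1) + g (r 2)) ≤ ∑ i, g i) := by
  have h144S : C.c144 ∉ C.S := C.notMem_S (by rw [C.d144]; norm_num) fun j => by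
    rw [C.d144]; exact h144 j
  have v144 : C.v C.c144 = -1 := by
    have h1 := C.v_abs_le h144S
    have h2 := C.dvd_v C.c144
    rw [C.d144] at h2
    push_cast at h2
    omega
  -- the known characters outside
  have e1 : C.c45 ≠ C.c54 := C.ne_of_deg (by rw [C.d45, C.d54]; norm_num)
  have e2 : C.c45 ≠ C.c120 := C.ne_of_deg (by rw [C.d45, C.d120]; norm_num)
  have e3 : C.c45 ≠ C.c144 := C.ne_of_deg (by rw [C.d45, C.d144]; norm_num)
  have e5 : C.c54 ≠ C.c120 := C.ne_of_deg (by rw [C.d54, C.d120]; norm_num)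
  have e6 : C.c54 ≠ C.c144 := C.ne_of_deg (by rw [C.d54, C.d144]; norm_num)
  have e8 : C.c120 ≠ C.c144 := C.ne_of_deg (by rw [C.d120, C.d144]; norm_num)
  let K : Finset I := {C.c45, C.c54, C.c120, C.c144}
  have hK : ∀ g : I → ℤ, ∑ i ∈ K, g i = g C.c45 + g C.c54 + g C.c120 + g C.c144 := by
    intro g
    simp only [K]
    rw [Finset.sum_insert (by simp [e1, e2, e3]), Finset.sum_insert (by simp [e5, e6]),
      Finset.sum_insert (by simp [e8]), Finset.sum_singleton]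
    ring
  have hKS : K ⊆ C.Sᶜ := by
    intro i hi
    rw [Finset.mem_compl]
    simp only [K, Finset.mem_insert, Finset.mem_singleton] at hi
    rcases hi with rfl | rfl | rfl | rfl
    · exact C.c45_notMem
    · exact C.c54_notMem
    · exact C.c120_notMem
    · exact h144S
  have hsplit : ∀ g : I → ℤ, ∑ i ∈ C.Sᶜ \ K, g i =
      ∑ i ∈ C.Sᶜ, g i - (g C.c45 + g C.c54 + g C.c120 + g C.c144) := by
    intro g
    rw [← hK g, ← Finset.sum_sdiff hKS]
    ring
  have hdeg11 : ∀ i ∈ C.Sᶜ \ K, 11 ∣ C.deg i := by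
    intro i hi
    rw [Finset.mem_sdiff, Finset.mem_compl] at hi
    obtain ⟨hiS, hiK⟩ := hi
    simp only [K, Finset.mem_insert, Finset.mem_singleton, not_or] at hiK
    rcases C.rest i with h | h | h | h | h | h | h | h
    · exact absurd (C.mem_S.2 (Or.inl h)) hiS
    · exact absurd h hiK.1
    · exact absurd h hiK.2.1
    · exact absurd h hiK.2.2.1
    · exact absurd h hiK.2.2.2
    · exact absurd (h ▸ hth) hiS
    · exact absurd (h ▸ hth') hiS
    · exact h
  have hvv : ∑ i ∈ C.Sᶜ \ K, C.v i * C.v i = 3 := by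
    rw [hsplit fun i => C.v i * C.v i, C.sum_compl_vv, C.v45, C.v54, C.v120, v144]
    norm_num
  have hvd : ∑ i ∈ C.Sᶜ \ K, C.v i * C.deg i = 198 := by
    rw [hsplit fun i => C.v i * C.deg i, C.sum_compl_vd, C.v45, C.v54, C.v120, v144, C.d54,
      C.d144]
    norm_num
  have hvs : ∑ i ∈ C.Sᶜ \ K, C.v i * C.s i = C.s C.c54 + C.s C.c144 := by
    rw [hsplit fun i => C.v i * C.s i, C.sum_compl_vs, C.v45, C.v54, C.v120, v144]
    ring
  let R : Finset I := (C.Sᶜ \ K).filter fun i => C.v i ≠ 0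
  have hv1 : ∀ i ∈ R, C.v i = 1 ∨ C.v i = -1 := by
    intro i hi
    rw [Finset.mem_filter] at hi
    have h1 : C.v i * C.v i ≤ 3 := by
      rw [← hvv]
      exact Finset.single_le_sum (f := fun i => C.v i * C.v i) (fun j _ => mul_self_nonneg _) hi.1
    have h2 : -1 ≤ C.v i ∧ C.v i ≤ 1 := by constructor <;> nlinarith
    have h3 := hi.2
    omega
  have hRsum : ∀ g : I → ℤ, (∀ i, C.v i = 0 → g i = 0) →
      ∑ i ∈ R, g i = ∑ i ∈ C.Sᶜ \ K, g i := by
    intro g hg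
    refine Finset.sum_filter_of_ne fun i _ hi => ?_
    intro h0
    exact hi (hg i h0)
  have hRcard : R.card = 3 := by
    have h1 := hRsum (fun i => C.v i * C.v i) (fun i hi => by rw [hi]; norm_num)
    rw [hvv, Finset.sum_congr rfl fun i hi => show C.v i * C.v i = 1 by
      rcases hv1 i hi with h | h <;> rw [h] <;> norm_num] at h1
    simp at h1
    exact_mod_cast h1
  obtain ⟨r, hrinj, hr, hrmono⟩ := exists_enum R C.deg hRcard
  have hrR : ∀ i, r i ∈ R := fun i => (hr _).2 ⟨i, rfl⟩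
  have hrimg : R = Finset.univ.image r := by
    ext i
    rw [hr, Finset.mem_image]
    simp
  have hrsum' : ∀ g : I → ℤ, ∑ i ∈ R, g i = ∑ i, g (r i) := by
    intro g
    rw [hrimg, Finset.sum_image fun i _ j _ h => hrinj h]
  have hrsum : ∀ g : I → ℤ, ∑ i ∈ R, g i = g (r 0) + g (r 1) + g (r 2) := by
    intro g
    rw [hrsum', Fin.sum_univ_three]
  have hrO : ∀ i, r i ∈ C.Sᶜ \ K := fun i => (Finset.mem_filter.1 (hrR i)).1
  have hrS : ∀ i, r i ∉ C.S := by
    intro i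
    have h1 := hrO i
    rw [Finset.mem_sdiff, Finset.mem_compl] at h1
    exact h1.1
  have hrne : ∀ i, r i ≠ C.o := fun i h => hrS i (C.mem_S.2 (Or.inl h))
  refine ⟨r, hrinj, ?_, fun i => (C.deg_mod (hv1 _ (hrR i))).2, fun i => C.w_eq (hrS i), ?_, ?_⟩
  · have h1 := hRsum (fun i => C.v i * C.deg i) (fun i hi => by rw [hi]; norm_num)
    rw [hvd, hrsum, (C.deg_mod (hv1 _ (hrR 0))).2, (C.deg_mod (hv1 _ (hrR 1))).2,
      (C.deg_mod (hv1 _ (hrR 2))).2] at h1
    exact arith_three (C.hpool _ (hrne 0)) (C.hpool _ (hrne 1)) (C.hpool _ (hrne 2))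
      (hdeg11 _ (hrO 0)) (hdeg11 _ (hrO 1)) (hdeg11 _ (hrO 2)) (C.deg_mod (hv1 _ (hrR 0))).1
      (C.deg_mod (hv1 _ (hrR 1))).1 (C.deg_mod (hv1 _ (hrR 2))).1
      (hrmono (by decide : (0 : Fin 3) ≤ 1)) (hrmono (by decide : (1 : Fin 3) ≤ 2)) h1
  · rw [← hvs, ← hRsum (fun i => C.v i * C.s i) (fun i hi => by rw [hi]; norm_num), hrsum']
  · intro g hg
    rw [C.sum_eq g]
    have h1 := hsplit g
    have h2 : g (r 0) + g (r 1) + g (r 2) ≤ ∑ i ∈ C.Sᶜ \ K, g i := by
      rw [← hrsum g]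
      refine Finset.sum_le_sum_of_subset_of_nonneg (Finset.filter_subset _ _) ?_
      intro i hi hiR
      apply hg
      have h3 := hdeg11 i hi
      have h4 : C.v i = 0 := by
        by_contra h5
        exact hiR (Finset.mem_filter.2 ⟨hi, h5⟩)
      have h6 := C.dvd_v i
      rw [h4, sub_zero] at h6
      have h7 : 5 ∣ C.deg i := by exact_mod_cast h6
      omega
    linarith

theorem eq_th {i : I} (h : C.deg i = 16) : i = C.th ∨ i = C.th' := by
  rcases C.rest i with h1 | h1 | h1 | h1 | h1 | h1 | h1 | h1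
  · rw [h1, C.deg_o] at h; omega
  · rw [h1, C.d45] at h; omega
  · rw [h1, C.d54] at h; omega
  · rw [h1, C.d120] at h; omega
  · rw [h1, C.d144] at h; omega
  · exact Or.inl h1
  · exact Or.inr h1
  · omega

theorem eq_c144 {i : I} (h : C.deg i = 144) : i = C.c144 := by
  rcases C.rest i with h1 | h1 | h1 | h1 | h1 | h1 | h1 | h1
  · rw [h1, C.deg_o] at h; omega
  · rw [h1, C.d45] at h; omega
  · rw [h1, C.d54] at h; omega
  · rw [h1, C.d120] at h; omega
  · exact h1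
  · rw [h1, C.dth] at h; omega
  · rw [h1, C.dth'] at h; omega
  · omega

theorem f_ge_of_deg {i : I} {n : ℕ} (h : C.deg i = n) : (n : ℤ) * n - 55 * n ≤ C.f i := by
  rw [← h]
  exact C.f_ge i

/-- **STEP 5.** There is a real character of degree eleven. -/
theorem exists_real : ∃ i, C.deg i = 11 ∧ C.cj i = i := by
  have hf := C.sum_f_le
  have fo := C.f_ge_of_deg C.deg_o
  have f45 := C.f_ge_of_deg C.d45
  have f54 := C.f_ge_of_deg C.d54
  have f120 := C.f_ge_of_deg C.d120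
  have f144 := C.f_ge_of_deg C.d144
  have fth := C.f_th
  have fth' := C.f_th'
  rcases C.cases with ⟨h0, h1, h2, h3⟩ | ⟨h0, h1, h2, h3⟩ | ⟨h0, h1, h2, h3⟩ |
    ⟨h0, h1, h2, h3⟩ | ⟨h0, h1, h2, h3⟩
  · refine C.real_of_unique 0 h0 fun k hk => ?_
    fin_cases k <;> simp only [Fin.zero_eta, Fin.mk_one, Fin.reduceFinMk] at hk ⊢ <;> omega
  · refine C.real_of_unique 0 h0 fun k hk => ?_
    fin_cases k <;> simp only [Fin.zero_eta, Fin.mk_one, Fin.reduceFinMk] at hk ⊢ <;> omega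
  · refine C.real_of_unique 0 h0 fun k hk => ?_
    fin_cases k <;> simp only [Fin.zero_eta, Fin.mk_one, Fin.reduceFinMk] at hk ⊢ <;> omega
  · -- degrees 16, 16, 66, 99
    have h01 : C.c 0 ≠ C.c 1 := fun h => absurd (C.c_inj h) (by decide)
    have key : C.th ∈ C.S ∧ C.th' ∈ C.S ∧ C.f (C.c 0) = 256 ∧ C.f (C.c 1) = 256 := by
      rcases C.eq_th h0 with a0 | a0 <;> rcases C.eq_th h1 with a1 | a1
      · exact absurd (a0.trans a1.symm) h01
      · exact ⟨C.mem_S.2 (Or.inr ⟨0, a0⟩), C.mem_S.2 (Or.inr ⟨1, a1⟩), by rw [a0, fth],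
          by rw [a1, fth']⟩
      · exact ⟨C.mem_S.2 (Or.inr ⟨1, a1⟩), C.mem_S.2 (Or.inr ⟨0, a0⟩), by rw [a0, fth'],
          by rw [a1, fth]⟩
      · exact absurd (a0.trans a1.symm) h01
    obtain ⟨hth, hth', g0, g1⟩ := key
    have g2 := C.f_ge_of_deg h2
    have g3 := C.f_ge_of_deg h3
    obtain ⟨r, hrinj, hcases, hrv, hrw, hrs, hsum⟩ := C.caseB hth hth' (by
      intro j
      fin_cases j <;> simp only [Fin.zero_eta, Fin.mk_one, Fin.reduceFinMk] <;> omega)
    have hF := hsum C.f (fun i hi => C.f_nonneg hi)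
    rw [Fin.sum_univ_four, g0, g1] at hF
    rcases hcases with ⟨a0, a1, a2⟩ | ⟨a0, a1, a2⟩ | ⟨a0, a1, a2⟩
    · refine ⟨r 0, a0, ?_⟩
      by_contra hn
      have b0 := C.f_eleven a0 hn
      have b1 := C.f_ge_of_deg a1
      have b2 := C.f_ge_of_deg a2
      push_cast at fo f45 f54 f120 f144 g2 g3 b1 b2
      linarith
    · exfalso
      have b0 := C.f_ge_of_deg a0
      have b1 := C.f_ge_of_deg a1
      have b2 := C.f_ge_of_deg a2
      push_cast at fo f45 f54 f120 f144 g2 g3 b0 b1 b2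
      linarith
    · exfalso
      obtain ⟨c54, c144, css, -⟩ := C.col'
      have h66 : sgn 66 = 1 := by decide
      have hS := hsum (fun i => C.s i * C.s i) (fun i _ => mul_self_nonneg _)
      rw [Fin.sum_univ_four] at hS
      rw [Fin.sum_univ_three, hrv 0, hrv 1, hrv 2, a0, a1, a2, h66, c54] at hrs
      have hmod : ∀ i, C.deg (r i) = 66 → C.s (r i) % 20 = 14 := by
        intro i hi
        have k1 := C.dvd_w (r i)
        have k2 := C.dvd_s (r i)
        rw [hrw i, hrv i, hi, h66] at k1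
        rw [hi] at k2
        push_cast at k2
        omega
      have m0 := hmod 0 a0
      have m1 := hmod 1 a1
      have m2 := hmod 2 a2
      have n1 := mul_self_nonneg (C.s C.o)
      have n2 := mul_self_nonneg (C.s (C.c 0))
      have n3 := mul_self_nonneg (C.s (C.c 1))
      have n4 := mul_self_nonneg (C.s (C.c 2))
      have n5 := mul_self_nonneg (C.s (C.c 3))
      have n6 := mul_self_nonneg (C.s C.c45)
      have n7 := mul_self_nonneg (C.s C.c54)
      have n8 := mul_self_nonneg (C.s C.c120)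
      have n9 := mul_self_nonneg (C.s C.c144)
      have hsq : C.s (r 0) * C.s (r 0) + C.s (r 1) * C.s (r 1) + C.s (r 2) * C.s (r 2) ≤ 240 := by
        linarith
      exact arith_sixty_six m0 m1 m2 hsq (by linarith) c144
  · -- degrees 66, 99, 144, 176
    have g0 := C.f_ge_of_deg h0
    have g1 := C.f_ge_of_deg h1
    have g2 := C.f_ge_of_deg h2
    have g3 := C.f_ge_of_deg h3
    obtain ⟨a, b, hab, hcases, hsum⟩ := C.caseA
      (C.mem_S.2 (Or.inr ⟨2, C.eq_c144 h2⟩)) (by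
      intro j
      fin_cases j <;> simp only [Fin.zero_eta, Fin.mk_one, Fin.reduceFinMk] <;> omega)
    have hF := hsum C.f (fun i hi => C.f_nonneg hi)
    rw [Fin.sum_univ_four, fth, fth'] at hF
    rcases hcases with ⟨a0, a1⟩ | ⟨a0, a1⟩
    · refine ⟨a, a0, ?_⟩
      by_contra hn
      have b0 := C.f_eleven a0 hn
      have b1 := C.f_ge_of_deg a1
      push_cast at fo f45 f54 f120 g0 g1 g2 g3 b1
      linarith
    · exfalso
      have b0 := C.f_ge_of_deg a0
      have b1 := C.f_ge_of_deg a1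
      push_cast at fo f45 f54 f120 g0 g1 g2 g3 b0 b1
      linarith

end Ctx

end Cfsg.Agent.MTwelve.DegreeEleven
end

-- part: MTwelve/ArithSix
section
/-!
# Involution columns of the family with degrees `45, 54, 120, 144, 16`
-/

set_option autoImplicit false

namespace Cfsg.Agent.MTwelve.ArithSix

/-- even divisors of 8640 -/
def cs : List ℕ := [2, 4, 6, 8, 10, 12, 16, 18, 20, 24, 30, 32, 36, 40, 48, 54, 60, 64, 72, 80, 90,
  96, 108, 120, 144, 160, 180, 192, 216, 240, 270, 288, 320, 360, 432, 480, 540, 576, 720, 864,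
  960, 1080, 1440, 1728, 2160, 2880, 4320, 8640]

theorem mem_cs {c : ℕ} (h : c ∣ 8640) (h2 : 2 ∣ c) : c ∈ cs := by
  have h1 : c ∈ Nat.divisors 8640 := Nat.mem_divisors.2 ⟨h, by norm_num⟩
  have h3 : ∀ c ∈ Nat.divisors 8640, 2 ∣ c → c ∈ cs := by decide +kernel
  exact h3 c h1 h2

def W0 (j : ℕ) : ℤ := 4 * j - 120
def W1 (j : ℕ) : ℤ := 4 * j - 54
def W2 (j : ℕ) : ℤ := 4 * j - 43
def W3 (j : ℕ) : ℤ := 4 * j - 144

theorem aux : ∀ c ∈ cs, ∀ j₀ ∈ List.range 61, (120 : ℤ) ∣ ((95040 / c : ℕ) : ℤ) * W0 j₀ →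
    W0 j₀ ^ 2 < c → ∀ j₁ ∈ List.range 28, (54 : ℤ) ∣ ((95040 / c : ℕ) : ℤ) * W1 j₁ →
    W1 j₁ ^ 2 < c → ∀ j₂ ∈ List.range 23, (45 : ℤ) ∣ ((95040 / c : ℕ) : ℤ) * W2 j₂ →
    W2 j₂ ^ 2 < c → ∀ j₃ ∈ List.range 73, (144 : ℤ) ∣ ((95040 / c : ℕ) : ℤ) * W3 j₃ →
    W3 j₃ ^ 2 < c →
    |1 + W0 j₀ + W1 j₁ + W2 j₂ + W3 j₃| < 16 →
    (16 : ℤ) ∣ ((95040 / c : ℕ) : ℤ) * (1 + W0 j₀ + W1 j₁ + W2 j₂ + W3 j₃) →
    1 + W0 j₀ ^ 2 + W1 j₁ ^ 2 + W2 j₂ ^ 2 + W3 j₃ ^ 2 +
      2 * (1 + W0 j₀ + W1 j₁ + W2 j₂ + W3 j₃) ^ 2 ≤ c →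
    8640 - 72 * W0 j₀ ^ 2 - 160 * W1 j₁ ^ 2 + 192 * W2 j₂ ^ 2 + 60 * W3 j₃ ^ 2 =
      540 * (1 + W0 j₀ + W1 j₁ + W2 j₂ + W3 j₃) ^ 2 →
    (c, W0 j₀, W1 j₁, W2 j₂, W3 j₃) ∈ ([(120, 0, -6, 5, -4), (120, 0, -6, 5, 4),
      (192, 8, -6, -3, 0), (240, 0, -6, 5, -4), (240, 0, -6, 5, 4),
      (1440, 0, -18, -15, 24)] : List (ℕ × ℤ × ℤ × ℤ × ℤ)) := by
  decide +kernel

theorem columns {c : ℕ} (hc : c ∣ 8640) (h2 : 2 ∣ c) {w₀ w₁ w₂ w₃ : ℤ}
    (l₀ : |w₀| < 120) (l₁ : |w₁| < 54) (l₂ : |w₂| < 45) (l₃ : |w₃| < 144)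
    (m₀ : (4 : ℤ) ∣ -120 - w₀) (m₁ : (4 : ℤ) ∣ -54 - w₁) (m₂ : (4 : ℤ) ∣ 45 - w₂)
    (m₃ : (4 : ℤ) ∣ 144 - w₃)
    (d₀ : (120 : ℤ) ∣ ((95040 / c : ℕ) : ℤ) * w₀) (d₁ : (54 : ℤ) ∣ ((95040 / c : ℕ) : ℤ) * w₁)
    (d₂ : (45 : ℤ) ∣ ((95040 / c : ℕ) : ℤ) * w₂) (d₃ : (144 : ℤ) ∣ ((95040 / c : ℕ) : ℤ) * w₃)
    (lT : |1 + w₀ + w₁ + w₂ + w₃| < 16)
    (dT : (16 : ℤ) ∣ ((95040 / c : ℕ) : ℤ) * (1 + w₀ + w₁ + w₂ + w₃))
    (hn : 1 + w₀ ^ 2 + w₁ ^ 2 + w₂ ^ 2 + w₃ ^ 2 + 2 * (1 + w₀ + w₁ + w₂ + w₃) ^ 2 ≤ c)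
    (hR : 8640 - 72 * w₀ ^ 2 - 160 * w₁ ^ 2 + 192 * w₂ ^ 2 + 60 * w₃ ^ 2 =
      540 * (1 + w₀ + w₁ + w₂ + w₃) ^ 2) :
    (c, w₀, w₁, w₂, w₃) ∈ ([(120, 0, -6, 5, -4), (120, 0, -6, 5, 4),
      (192, 8, -6, -3, 0), (240, 0, -6, 5, -4), (240, 0, -6, 5, 4),
      (1440, 0, -18, -15, 24)] : List (ℕ × ℤ × ℤ × ℤ × ℤ)) := by
  rw [abs_lt] at l₀ l₁ l₂ l₃
  have e₀ : w₀ = W0 ((w₀ + 120) / 4).toNat := by unfold W0; omega
  have e₁ : w₁ = W1 ((w₁ + 54) / 4).toNat := by unfold W1; omega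
  have e₂ : w₂ = W2 ((w₂ + 43) / 4).toNat := by unfold W2; omega
  have e₃ : w₃ = W3 ((w₃ + 144) / 4).toNat := by unfold W3; omega
  have r₀ : ((w₀ + 120) / 4).toNat ∈ List.range 61 := by rw [List.mem_range]; omega
  have r₁ : ((w₁ + 54) / 4).toNat ∈ List.range 28 := by rw [List.mem_range]; omega
  have r₂ : ((w₂ + 43) / 4).toNat ∈ List.range 23 := by rw [List.mem_range]; omega
  have r₃ : ((w₃ + 144) / 4).toNat ∈ List.range 73 := by rw [List.mem_range]; omega
  have s₀ : w₀ ^ 2 < c := by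
    nlinarith [sq_nonneg w₁, sq_nonneg w₂, sq_nonneg w₃,
    sq_nonneg (1 + w₀ + w₁ + w₂ + w₃)]
  have s₁ : w₁ ^ 2 < c := by
    nlinarith [sq_nonneg w₀, sq_nonneg w₂, sq_nonneg w₃,
    sq_nonneg (1 + w₀ + w₁ + w₂ + w₃)]
  have s₂ : w₂ ^ 2 < c := by
    nlinarith [sq_nonneg w₀, sq_nonneg w₁, sq_nonneg w₃,
    sq_nonneg (1 + w₀ + w₁ + w₂ + w₃)]
  have s₃ : w₃ ^ 2 < c := by
    nlinarith [sq_nonneg w₀, sq_nonneg w₁, sq_nonneg w₂,
    sq_nonneg (1 + w₀ + w₁ + w₂ + w₃)]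
  have := aux c (mem_cs hc h2) _ r₀ (e₀ ▸ d₀) (e₀ ▸ s₀) _ r₁ (e₁ ▸ d₁) (e₁ ▸ s₁) _ r₂
    (e₂ ▸ d₂) (e₂ ▸ s₂) _ r₃ (e₃ ▸ d₃) (e₃ ▸ s₃)
  rw [← e₀, ← e₁, ← e₂, ← e₃] at this
  exact this lT dT hn hR

end Cfsg.Agent.MTwelve.ArithSix
end

-- part: MTwelve/ElevenMain
section
/-!
# The principal 11-block of a simple group of order 95040, final form

* `exists_pblock`: `PBlock G 11 5 2 P`;
* `main`: degrees and the column of a 2-central involution;
* `columns`: all involution columns for the degrees `45, 54, 120, 144, 16`.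
-/

set_option autoImplicit false
set_option linter.unusedSectionVars false

namespace Cfsg.Agent.MTwelve.ElevenMain

open Cfsg Subgroup Cfsg.Agent.Characters.Core
open scoped ComplexConjugate
open Cfsg.Agent.SmallSimple.InvolColumn
open Cfsg.Agent.MTwelve Cfsg.Agent.MTwelve.BlockData Cfsg.Agent.MTwelve.ElevenBlock

universe u
variable {G : Type u} [Group G]

/-- Brauer's theorem for a self-centralising Sylow `p`-subgroup of order `p`. -/
theorem exists_pblock [Finite G] (p : ℕ) [Fact p.Prime] (hp2 : p ≠ 2) (P : Sylow p G)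
    (hP : Nat.card P = p) (hC : centralizer (P : Set G) = (P : Subgroup G)) (e t : ℕ)
    (ht0 : 0 < t)
    (he : (centralizer (P : Set G)).relIndex (normalizer (P : Set G)) = e) (ht : e * t = p - 1) :
    ∃ B : PBlock G p e t (P : Subgroup G), ∀ χ : IrrCharacter G, χ ∉ B.NE → χ ∉ B.X →
      (∀ x ∈ P, x ≠ 1 → (χ : G → ℂ) x = 0) ∧ p ∣ deg χ := by
  have hp : p.Prime := Fact.out
  obtain ⟨NE, X, ε, d, S, h1, h2, h3, h4, h5, ⟨one, h6, h6', h6''⟩, h7, h8, h9, h10, h11⟩ :=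
    Cfsg.Agent.SmallSimple.TheoremBCor.theoremB_selfCent p hp2 P hP hC e t he ht
  have hX : X.Nonempty := by rw [← Finset.card_pos, h3]; exact ht0
  obtain ⟨Θ, hΘ⟩ := hX
  have hone : one = triv G := Subtype.ext h6'
  subst hone
  have hone' : ¬ p ∣ orderOf (1 : G) := by
    rw [orderOf_one]; exact fun h => hp.one_lt.ne' (Nat.dvd_one.1 h)
  have hyone : ∀ y ∈ centralizer (P : Set G), ¬ p ∣ orderOf y → y = 1 := by
    intro y hy hyp
    rw [hC] at hy
    have h12 : orderOf y ∣ p := by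
      have := orderOf_dvd_natCard (⟨y, hy⟩ : (P : Subgroup G))
      rw [show Nat.card (P : Subgroup G) = p from hP] at this
      simpa using this
    rcases (Nat.dvd_prime hp).1 h12 with h | h
    · exact orderOf_eq_one_iff.1 h
    · exact absurd (dvd_of_eq h.symm) hyp
  have hrel : ∀ x ∈ P, x ≠ 1 → Rel x (fun g => ¬ p ∣ orderOf g) NE X ε d := fun x hx hx1 =>
    ⟨h1, fun χ hχ => h7 χ hχ x hx hx1, fun χ hχ hχ' => (h11 χ hχ hχ').1 x hx hx1, h5, h10,
      hone', hx1⟩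
  refine ⟨⟨NE, X, ε, d, h1, h2, h3, h4, h5, h6, h6'', ?_, ?_, h10⟩, ?_⟩
  · intro χ hχ x hx hx1 y hy hyp
    rw [hyone y hy hyp, mul_one]
    exact h7 χ hχ x hx hx1
  · intro x hx hx1 y hy hyp
    rw [hyone y hy hyp, mul_one]
    have h12 := (hrel x hx hx1).sum_exc hΘ
    rw [← map_sum] at h12
    have h13 := congrArg conj h12
    rw [Complex.conj_conj, map_neg, map_intCast] at h13
    exact h13
  · intro χ hχ hχ'
    refine ⟨(h11 χ hχ hχ').1, ?_⟩
    have h12 := (h11 χ hχ hχ').2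
    have h13 : charDegree (χ : G → ℂ) = deg χ := by
      have h14 := Cfsg.Agent.Blocks.Basic.irr_one_eq_charDegree χ.2
      exact (deg_eq_of h14).symm
    rwa [h13] at h12

theorem charDegree_eq_deg (χ : IrrCharacter G) : charDegree (χ : G → ℂ) = deg χ :=
  (deg_eq_of (Cfsg.Agent.Blocks.Basic.irr_one_eq_charDegree χ.2)).symm

/-- The bridge between the two forms. -/
theorem data_of_pblock [Finite G] {P : Subgroup G} (hP : Nat.card P = 11) (B : PBlock G 11 5 2 P)
    (hrest : ∀ χ : IrrCharacter G, χ ∉ B.NE → χ ∉ B.X →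
      (∀ x ∈ P, x ≠ 1 → (χ : G → ℂ) x = 0) ∧ 11 ∣ deg χ) {x : G} (hx : x ∈ P) (hx1 : x ≠ 1) :
    ∃ Θ : IrrCharacter G, Data x B.NE B.X B.ε B.d (triv G) Θ := by
  have hX : B.X.Nonempty := by rw [← Finset.card_pos, B.card_X]; norm_num
  obtain ⟨Θ, hΘ⟩ := hX
  have hone : ¬ 11 ∣ orderOf (1 : G) := by rw [orderOf_one]; norm_num
  refine ⟨Θ, ⟨⟨B.disjoint, ?_, fun χ hχ hχ' => (hrest χ hχ hχ').1 x hx hx1, B.d_eq, B.rel, hone,
    hx1⟩, B.card_NE, B.card_X, B.ε_eq, B.triv_mem, rfl, B.ε_triv, hΘ, ?_, ?_⟩⟩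
  · intro χ hχ
    have := B.apply_NE χ hχ x hx hx1 1 (one_mem _) hone
    rwa [mul_one] at this
  · intro χ hχ
    have h1 := B.dvd_deg_sub hP (by norm_num) hχ
    have h2 := eps_sq (B.ε_eq χ hχ)
    rw [charDegree_eq_deg]
    obtain ⟨c, hc⟩ := h1
    refine ⟨B.ε χ * c, ?_⟩
    push_cast at hc
    linear_combination B.ε χ * hc + h2
  · intro χ hχ hχ'
    rw [charDegree_eq_deg]
    exact (hrest χ hχ hχ').2

/-- **Summary** (STEPS 2 and 3 of the blueprint). -/
theorem main [Finite G] [IsSimpleGroup G] (hc : Nat.card G = 95040)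
    (h11 : ∀ P : Sylow 11 G, centralizer (P : Set G) = (P : Subgroup G)) (P : Sylow 11 G)
    (hN : Nat.card (normalizer (P : Set G)) = 55) :
    ∃ (B : PBlock G 11 5 2 (P : Subgroup G)) (t : G) (χ : Fin 4 → IrrCharacter G)
      (D w : Fin 4 → ℤ) (k : ℕ),
      (∀ χ : IrrCharacter G, χ ∉ B.NE → χ ∉ B.X →
        (∀ x ∈ P, x ≠ 1 → (χ : G → ℂ) x = 0) ∧ 11 ∣ deg χ) ∧
      (∀ x ∈ P, x ≠ 1 → ∀ u v : G, u ^ 2 = 1 → v ^ 2 = 1 → u * v ≠ x) ∧
      orderOf t = 2 ∧ Nat.card (centralizer ({t} : Set G)) = 64 * k ∧ k ∈ Arith.ks ∧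
      Function.Injective χ ∧ (∀ i, χ i ≠ triv G) ∧
      (∀ ψ : IrrCharacter G, ψ ∈ B.NE ↔ ψ = triv G ∨ ∃ i, χ i = ψ) ∧
      (∀ i, B.ε (χ i) * (deg (χ i) : ℤ) = D i) ∧ (∀ i, (χ i : G → ℂ) t = B.ε (χ i) * w i) ∧
      Column t B.ε χ D w ∧
      (k, (D 0, w 0), (D 1, w 1), (D 2, w 2), (D 3, w 3)) ∈ Arith.rows := by
  have : Fact (Nat.Prime 11) := ⟨by norm_num⟩
  have hG : commutator G = ⊤ := SmallDegree.commutator_eq_top_of_card (by rw [hc]; norm_num)
  have hP : Nat.card P = 11 :=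
    Cfsg.Agent.SmallSimple.PrimeLocal.card_of_not_sq_dvd (by rw [hc]; norm_num)
      (by rw [hc]; norm_num) P
  have hP' : Nat.card (P : Subgroup G) = 11 := hP
  have he : (centralizer (P : Set G)).relIndex (normalizer (P : Set G)) = 5 := by
    have h1 := Subgroup.relIndex_mul_relIndex (⊥ : Subgroup G) (centralizer (P : Set G))
      (normalizer (P : Set G)) bot_le
      (Cfsg.Agent.SmallSimple.SylowPrimeCount.centralizer_le_normalizer' _)
    rw [Subgroup.relIndex_bot_left, Subgroup.relIndex_bot_left, hN, h11 P] at h1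
    rw [hP'] at h1
    rw [h11 P]
    omega
  obtain ⟨B, hB⟩ := exists_pblock 11 (by norm_num) P hP (h11 P) 5 2 (by norm_num) he (by norm_num)
  have hx : ∀ x ∈ P, x ≠ 1 → ∀ u v : G, u ^ 2 = 1 → v ^ 2 = 1 → u * v ≠ x :=
    fun x hxP hx1 u v hu hv => ne_mul_of_odd he (by decide)
      (zpowers_eq_of_card_prime (by norm_num) hP') (by rw [hP']; decide) hxP hx1 hu hv
  have hnt : Nontrivial (P : Subgroup G) := by
    rw [← Finite.one_lt_card_iff_nontrivial, hP']; norm_num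
  obtain ⟨x, hx1⟩ := exists_ne (1 : (P : Subgroup G))
  have hx1' : (x : G) ≠ 1 := fun h => hx1 (Subtype.ext h)
  obtain ⟨Θ, hD⟩ := data_of_pblock hP' B hB x.2 hx1'
  obtain ⟨t, ht, h64⟩ := exists_involution hc
  obtain ⟨χ, D, w, k, h1, h2, h3, h4, h5, h6⟩ :=
    exists_row hG hc h11 hD (hx x x.2 hx1') ht h64
  refine ⟨B, t, χ, D, w, k, hB, hx, ht, h4, h5, h1.inj, h1.ne, ?_, ?_, h3.val, h3, h6⟩
  · intro ψ
    constructor
    · intro hψ
      rcases h1.cases ψ hψ with h7 | ⟨i, h7⟩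
      · exact Or.inl h7
      · exact Or.inr ⟨i, h7.symm⟩
    · rintro (rfl | ⟨i, rfl⟩)
      · exact B.triv_mem
      · exact h1.mem i
  · intro i
    rw [h2 i, charDegree_eq_deg]

theorem enum_of [Finite G] {P : Subgroup G} (B : PBlock G 11 5 2 P) {χ : Fin 4 → IrrCharacter G}
    (hinj : Function.Injective χ) (hne : ∀ i, χ i ≠ triv G)
    (hNE : ∀ ψ : IrrCharacter G, ψ ∈ B.NE ↔ ψ = triv G ∨ ∃ i, χ i = ψ) :
    Enum B.NE (triv G) χ := by
  classical
  have h1 : B.NE = insert (triv G) (Finset.univ.image χ) := by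
    ext ψ
    rw [hNE]
    simp
  have h2 : triv G ∉ Finset.univ.image χ := by
    simp only [Finset.mem_image, not_exists, not_and]
    exact fun i _ => hne i
  refine ⟨hinj, fun i => (hNE _).2 (Or.inr ⟨i, rfl⟩), hne, ?_, ?_, ?_⟩
  · intro ψ hψ
    rcases (hNE ψ).1 hψ with h | ⟨i, h⟩
    · exact Or.inl h
    · exact Or.inr ⟨i, h.symm⟩
  · intro f
    rw [h1, Finset.sum_insert h2, Finset.sum_image fun i _ j _ h => hinj h]
  · intro f
    rw [h1, Finset.sum_insert h2, Finset.sum_image fun i _ j _ h => hinj h]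

/-- All involution columns for the degrees of `M₁₂`: the characters `χ 0, …, χ 3` have signed
degrees `-120, -54, 45, 144`. The list gives `|C(t)|` and the signed values `w i = ε χ(t)`. -/
theorem columns [Finite G] [IsSimpleGroup G] (hc : Nat.card G = 95040)
    (h11 : ∀ P : Sylow 11 G, centralizer (P : Set G) = (P : Subgroup G)) {P : Sylow 11 G}
    (B : PBlock G 11 5 2 (P : Subgroup G))
    (hrest : ∀ χ : IrrCharacter G, χ ∉ B.NE → χ ∉ B.X →
      (∀ x ∈ P, x ≠ 1 → (χ : G → ℂ) x = 0) ∧ 11 ∣ deg χ)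
    (hx : ∀ x ∈ P, x ≠ 1 → ∀ u v : G, u ^ 2 = 1 → v ^ 2 = 1 → u * v ≠ x)
    {χ : Fin 4 → IrrCharacter G} (hinj : Function.Injective χ) (hne : ∀ i, χ i ≠ triv G)
    (hNE : ∀ ψ : IrrCharacter G, ψ ∈ B.NE ↔ ψ = triv G ∨ ∃ i, χ i = ψ)
    (h0 : B.ε (χ 0) * (deg (χ 0) : ℤ) = -120) (h1 : B.ε (χ 1) * (deg (χ 1) : ℤ) = -54)
    (h2 : B.ε (χ 2) * (deg (χ 2) : ℤ) = 45) (h3 : B.ε (χ 3) * (deg (χ 3) : ℤ) = 144)
    {t : G} (ht : orderOf t = 2) :
    ∃ w : Fin 4 → ℤ, (∀ i, (χ i : G → ℂ) t = B.ε (χ i) * w i) ∧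
      (∀ Θ ∈ B.X, (Θ : G → ℂ) t = ((B.d * (1 + ∑ i, w i) : ℤ) : ℂ)) ∧
      (Nat.card (centralizer ({t} : Set G)), w 0, w 1, w 2, w 3) ∈
        ([(120, 0, -6, 5, -4), (120, 0, -6, 5, 4), (192, 8, -6, -3, 0), (240, 0, -6, 5, -4),
          (240, 0, -6, 5, 4), (1440, 0, -18, -15, 24)] : List (ℕ × ℤ × ℤ × ℤ × ℤ)) := by
  have : Fact (Nat.Prime 11) := ⟨by norm_num⟩
  have hG : commutator G = ⊤ := SmallDegree.commutator_eq_top_of_card (by rw [hc]; norm_num)
  have hP : Nat.card P = 11 :=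
    Cfsg.Agent.SmallSimple.PrimeLocal.card_of_not_sq_dvd (by rw [hc]; norm_num)
      (by rw [hc]; norm_num) P
  have hP' : Nat.card (P : Subgroup G) = 11 := hP
  have hnt : Nontrivial (P : Subgroup G) := by
    rw [← Finite.one_lt_card_iff_nontrivial, hP']; norm_num
  obtain ⟨x, hx1⟩ := exists_ne (1 : (P : Subgroup G))
  have hx1' : (x : G) ≠ 1 := fun h => hx1 (Subtype.ext h)
  obtain ⟨Θ, hD⟩ := data_of_pblock hP' B hrest x.2 hx1'
  have hE := enum_of B hinj hne hNE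
  have ht2 : t ^ 2 = 1 := by rw [← ht]; exact pow_orderOf_eq_one t
  have ht1 : t ≠ 1 := by
    rintro rfl
    rw [orderOf_one] at ht
    norm_num at ht
  have hconj : ∀ u : G, IsConj t u → u ^ 2 = 1 := by
    intro u hu
    obtain ⟨c, rfl⟩ := isConj_iff.1 hu
    rw [conj_pow, ht2, mul_one, mul_inv_cancel]
  obtain ⟨w, hw⟩ := exists_column hG hD hE ht2 ht1
    (fun u v hu hv => hx x x.2 hx1' u v (hconj u hu) (hconj v hv))
    (D := ![-120, -54, 45, 144]) (by
      intro i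
      rw [charDegree_eq_deg]
      fin_cases i
      · exact h0.symm
      · exact h1.symm
      · exact h2.symm
      · exact h3.symm)
  have hreg : ¬ 11 ∣ orderOf t := by rw [ht]; norm_num
  refine ⟨w, hw.val, ?_, ?_⟩
  · intro Θ' hΘ'
    rw [hD.rel.eq_of_mem hΘ' hD.mem_X hreg]
    exact theta_apply hD hE hreg hw.val
  · -- the order of the centralizer
    set c := Nat.card (centralizer ({t} : Set G)) with hcdef
    have hc1 : c ∣ 11 * 8640 := by
      have : (95040 : ℕ) = 11 * 8640 := by norm_num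
      rw [← this, ← hc]; exact card_subgroup_dvd_card _
    have hc11 : ¬ 11 ∣ c := by
      intro h
      obtain ⟨y, hy⟩ := exists_prime_orderOf_dvd_card' 11 h
      have h2 := mem_centralizer_singleton_iff.1 y.2
      have h3 := SylowFive.orderOf_dvd_of_commute hc h11 (x := (y : G)) (y := t)
        (by rw [orderOf_coe]; exact hy) h2
      rw [ht] at h3
      norm_num at h3
    have hc2 : c ∣ 8640 :=
      (Nat.Coprime.dvd_mul_left
        (((Nat.Prime.coprime_iff_not_dvd (by norm_num)).2 hc11).symm)).1 hc1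
    have hc3 : 2 ∣ c := by
      have h4 : t ∈ centralizer ({t} : Set G) := mem_centralizer_singleton_iff.2 rfl
      have h5 := orderOf_dvd_natCard (⟨t, h4⟩ : centralizer ({t} : Set G))
      rw [Subgroup.orderOf_mk, ht] at h5
      exact h5
    have hidx : (centralizer ({t} : Set G)).index = 95040 / c := by
      have h4 := (centralizer ({t} : Set G)).card_mul_index
      rw [hc] at h4
      rw [← h4, hcdef, Nat.mul_div_cancel_left _ Nat.card_pos]
    have hl := hw.lt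
    have h4 := hw.four
    have hd := hw.dvd
    have hlT := hw.ltT
    have hdT := hw.dvdT
    have hn := hw.norm
    have htwo := hw.two
    rw [hidx] at hdT
    simp only [hidx] at hd
    simp only [Fin.sum_univ_four, ← add_assoc] at hlT hdT hn htwo
    have e0 := hl 0
    have e1 := hl 1
    have e2 := hl 2
    have e3 := hl 3
    have f0 := h4 0
    have f1 := h4 1
    have f2 := h4 2
    have f3 := h4 3
    have g0 := hd 0
    have g1 := hd 1
    have g2 := hd 2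
    have g3 := hd 3
    simp only [Matrix.cons_val_zero, Matrix.cons_val_one, Matrix.cons_val] at e0 e1 e2 e3 f0 f1 f2 f3 g0 g1 g2 g3 hlT hdT htwo
    norm_num at e0 e1 e2 e3 f0 f1 f2 f3 g0 g1 g2 g3 hlT hdT htwo
    refine ArithSix.columns hc2 hc3 e0 e1 e2 e3 ?_ ?_ f2 f3 ?_ ?_ g2 g3 hlT ?_ ?_ ?_
    · exact f0
    · exact f1
    · push_cast; exact g0
    · push_cast; exact g1
    · push_cast; exact hdT
    · exact hn
    · have h5 : ((8640 - 72 * w 0 ^ 2 - 160 * w 1 ^ 2 + 192 * w 2 ^ 2 + 60 * w 3 ^ 2 : ℤ) : ℚ) =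
          ((540 * (1 + w 0 + w 1 + w 2 + w 3) ^ 2 : ℤ) : ℚ) := by
        push_cast
        linear_combination 8640 * htwo
      exact_mod_cast h5

end Cfsg.Agent.MTwelve.ElevenMain
end

-- part: MTwelve/Assembly5
section
/-!
# The family of degrees of a simple group of order 95040

Combination of the principal 11-block (`ElevenMain.main`), the local data of a Sylow 5-subgroup
(`SylowFive.cases`) and the principal 5-block (`FiveBlock`).
-/

set_option autoImplicit false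
set_option linter.unusedSectionVars false

namespace Cfsg.Agent.MTwelve.Assembly5

open Cfsg Subgroup Cfsg.Agent.Characters.Core
open scoped ComplexConjugate
open Cfsg.Agent.SmallSimple.InvolColumn Cfsg.Agent.SmallSimple.PrimeLocal
open Cfsg.Agent.MTwelve Cfsg.Agent.MTwelve.BlockData Cfsg.Agent.MTwelve.ElevenBlock

universe u
variable {G : Type u} [Group G]

/-- The output of `ElevenMain.main` as a structure. -/
structure Main (P : Sylow 11 G) (B : PBlock G 11 5 2 (P : Subgroup G)) (t : G)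
    (χ : Fin 4 → IrrCharacter G) (D w : Fin 4 → ℤ) (k : ℕ) : Prop where
  rest : ∀ χ : IrrCharacter G, χ ∉ B.NE → χ ∉ B.X →
        (∀ x ∈ P, x ≠ 1 → (χ : G → ℂ) x = 0) ∧ 11 ∣ deg χ
  nonreal : ∀ x ∈ P, x ≠ 1 → ∀ u v : G, u ^ 2 = 1 → v ^ 2 = 1 → u * v ≠ x
  order : orderOf t = 2
  card : Nat.card (centralizer ({t} : Set G)) = 64 * k
  mem_ks : k ∈ Arith.ks
  inj : Function.Injective χ
  ne : ∀ i, χ i ≠ triv G
  mem : ∀ ψ : IrrCharacter G, ψ ∈ B.NE ↔ ψ = triv G ∨ ∃ i, χ i = ψ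
  deg : ∀ i, B.ε (χ i) * (deg (χ i) : ℤ) = D i
  val : ∀ i, (χ i : G → ℂ) t = B.ε (χ i) * w i
  col : Column t B.ε χ D w
  row : (k, (D 0, w 0), (D 1, w 1), (D 2, w 2), (D 3, w 3)) ∈ Arith.rows

theorem exists_main [Finite G] [IsSimpleGroup G] (hc : Nat.card G = 95040)
    (h11 : ∀ P : Sylow 11 G, centralizer (P : Set G) = (P : Subgroup G)) (P : Sylow 11 G)
    (hN : Nat.card (normalizer (P : Set G)) = 55) :
    ∃ (B : PBlock G 11 5 2 (P : Subgroup G)) (t : G) (χ : Fin 4 → IrrCharacter G)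
      (D w : Fin 4 → ℤ) (k : ℕ), Main P B t χ D w k := by
  obtain ⟨B, t, χ, D, w, k, h1, h2, h3, h4, h5, h6, h7, h8, h9, h10, h12, h13⟩ :=
    ElevenMain.main hc h11 P hN
  exact ⟨B, t, χ, D, w, k, h1, h2, h3, h4, h5, h6, h7, h8, h9, h10, h12, h13⟩

section

variable [Finite G] {P : Sylow 11 G} {B : PBlock G 11 5 2 (P : Subgroup G)} {t : G}
  {χ : Fin 4 → IrrCharacter G} {D w : Fin 4 → ℤ} {k : ℕ}

theorem card_eleven (hc : Nat.card G = 95040) (P : Sylow 11 G) :
    Nat.card (P : Subgroup G) = 11 := by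
  have : Fact (Nat.Prime 11) := ⟨by norm_num⟩
  exact card_of_not_sq_dvd (by rw [hc]; norm_num) (by rw [hc]; norm_num) P

theorem card_five (hc : Nat.card G = 95040) (P : Sylow 5 G) :
    Nat.card (P : Subgroup G) = 5 := by
  have : Fact (Nat.Prime 5) := ⟨by norm_num⟩
  exact card_of_not_sq_dvd (by rw [hc]; norm_num) (by rw [hc]; norm_num) P

/-- The degree of the exceptional characters. -/
theorem Main.theta_deg (hc : Nat.card G = 95040) (h : Main P B t χ D w k) {Θ : IrrCharacter G}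
    (hΘ : Θ ∈ B.X) : (BlockData.deg Θ : ℤ) = B.d * (1 + D 0 + D 1 + D 2 + D 3) := by
  have hP := card_eleven hc P
  have hnt : Nontrivial (P : Subgroup G) := by
    rw [← Finite.one_lt_card_iff_nontrivial, hP]; norm_num
  obtain ⟨x, hx1⟩ := exists_ne (1 : (P : Subgroup G))
  have hx1' : (x : G) ≠ 1 := fun h => hx1 (Subtype.ext h)
  obtain ⟨Θ', hD⟩ := ElevenMain.data_of_pblock hP B h.rest x.2 hx1'
  have hE := ElevenMain.enum_of B h.inj h.ne h.mem
  have h1 := theta_degree hD hE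
  rw [ElevenMain.charDegree_eq_deg, B.deg_X_eq (by norm_num) hD.mem_X hΘ] at h1
  rw [h1, Fin.sum_univ_four]
  have h2 : ∀ i, B.ε (χ i) * (charDegree (χ i : G → ℂ) : ℤ) = D i := fun i => by
    rw [ElevenMain.charDegree_eq_deg]; exact h.deg i
  rw [h2, h2, h2, h2]
  ring

/-- Characters of degree prime to 11 congruent to `±1` are the `χ i`. -/
theorem Main.exists_eq (hc : Nat.card G = 95040) (h : Main P B t χ D w k) {ψ : IrrCharacter G}
    (hψ : ψ ≠ triv G) (hm : BlockData.deg ψ % 11 = 1 ∨ BlockData.deg ψ % 11 = 10) :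
    ∃ i, χ i = ψ := by
  have hP := card_eleven hc P
  have h1 : ψ ∈ B.NE := by
    by_contra h2
    by_cases h3 : ψ ∈ B.X
    · have h4 := B.dvd_deg_X_sub hP (by norm_num) (by norm_num) h3
      rcases B.d_eq with h5 | h5 <;> rw [h5] at h4 <;> push_cast at h4 <;> omega
    · have h4 := (h.rest ψ h2 h3).2
      omega
  rcases (h.mem ψ).1 h1 with h2 | h2
  · exact absurd h2 hψ
  · exact h2

/-- Characters of degree `±5` modulo 11 are exceptional. -/
theorem Main.mem_X (hc : Nat.card G = 95040) (h : Main P B t χ D w k) {ψ : IrrCharacter G}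
    (hm : BlockData.deg ψ % 11 = 5 ∨ BlockData.deg ψ % 11 = 6) : ψ ∈ B.X := by
  have hP := card_eleven hc P
  by_contra h3
  by_cases h2 : ψ ∈ B.NE
  · have h4 := B.dvd_deg_sub hP (by norm_num) h2
    rcases B.ε_eq ψ h2 with h5 | h5 <;> rw [h5] at h4 <;> push_cast at h4 <;> omega
  · have h4 := (h.rest ψ h2 h3).2
    omega

/-- No exceptional characters of degree 5. -/
theorem Main.T_ne_five [IsSimpleGroup G] (hc : Nat.card G = 95040) (h : Main P B t χ D w k)
    {Q : Sylow 5 G} {e : ℕ} {K : Subgroup G} (hQ : IsLocal 5 Q e K) (hK : 1 < Nat.card K) :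
    1 + D 0 + D 1 + D 2 + D 3 ≠ 5 := by
  intro h5
  have : Fact (Nat.Prime 5) := ⟨by norm_num⟩
  have hG : commutator G = ⊤ := SmallDegree.commutator_eq_top_of_card (by rw [hc]; norm_num)
  have hX : B.X.Nonempty := by rw [← Finset.card_pos, B.card_X]; norm_num
  obtain ⟨Θ, hΘ⟩ := hX
  have h1 := h.theta_deg hc hΘ
  rw [h5] at h1
  have h2 : BlockData.deg Θ = 5 := by
    rcases B.d_eq with h6 | h6 <;> rw [h6] at h1 <;> omega
  have h3 := SmallDegree.centralizer_eq_of_degree_eq hG Q (card_five hc Q) Θ.2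
    (by rw [apply_one, h2])
  have h4 := hQ.card_centralizer
  have h7 : Nat.card (centralizer (Q : Set G)) = 5 := by
    rw [show centralizer (Q : Set G) = (Q : Subgroup G) from h3]; exact card_five hc Q
  omega

/-- No characters of degree 10 if `|K|` is even. -/
theorem Main.D_ne [IsSimpleGroup G] (hc : Nat.card G = 95040) (h : Main P B t χ D w k)
    {Q : Sylow 5 G} {e : ℕ} {K : Subgroup G} (hQ : IsLocal 5 Q e K) (hK : 2 ∣ Nat.card K)
    (i : Fin 4) : D i ≠ -10 := by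
  intro h10
  have : Fact (Nat.Prime 5) := ⟨by norm_num⟩
  have hG : commutator G = ⊤ := SmallDegree.commutator_eq_top_of_card (by rw [hc]; norm_num)
  have h1 := h.deg i
  rw [h10] at h1
  have h2 : BlockData.deg (χ i) = 10 := by
    rcases B.ε_eq (χ i) ((h.mem _).2 (Or.inr ⟨i, rfl⟩)) with h6 | h6 <;> rw [h6] at h1 <;> omega
  apply SmallDegree.not_two_dvd_of_degree_eq hG (by norm_num) Q (card_five hc Q) (χ i).2
    (by rw [apply_one, h2]; norm_num)
  have h4 := hQ.card_centralizer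
  rw [show Nat.card (centralizer ((Q : Subgroup G) : Set G)) =
    Nat.card (centralizer (Q : Set G)) from rfl, h4]
  exact hK.mul_left _

/-- The case `e = 4`. -/
theorem Main.case_four [IsSimpleGroup G] (hc : Nat.card G = 95040) (h : Main P B t χ D w k)
    {Q : Sylow 5 G} {K : Subgroup G} (hQ : IsLocal 5 Q 4 K)
    (hK : Nat.card K = 2 ∨ Nat.card K = 12 ∨ Nat.card K = 72)
    (B5 : PBlock G 5 4 1 (Q : Subgroup G)) :
    k = 3 ∧ D 0 = -120 ∧ w 0 = 8 ∧ D 1 = -54 ∧ w 1 = -6 ∧ D 2 = 45 ∧ w 2 = -3 ∧ D 3 = 144 ∧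
      w 3 = 0 := by
  have hpool := FiveBlock.deg_mem_pool hc (card_eleven hc P) B fun ψ h1 h2 => (h.rest ψ h1 h2).2
  obtain ⟨c, -, hcne, -, -, -, hcdeg⟩ := FiveBlock.exists_five B5 (card_five hc Q) hpool
  have hT := h.T_ne_five hc hQ (by omega)
  have hn := h.D_ne hc hQ (by omega)
  have n0 := hn 0
  have n1 := hn 1
  have n2 := hn 2
  have n3 := hn 3
  have h16 : ∀ ψ : IrrCharacter G, BlockData.deg ψ = 16 →
      (1 + D 0 + D 1 + D 2 + D 3 = 16 ∨ 1 + D 0 + D 1 + D 2 + D 3 = -16) := by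
    intro ψ hψ
    have h1 := h.theta_deg hc (h.mem_X hc (ψ := ψ) (by rw [hψ]; norm_num))
    rw [hψ] at h1
    rcases B.d_eq with h6 | h6 <;> rw [h6] at h1 <;> omega
  have h144 : ∀ ψ : IrrCharacter G, BlockData.deg ψ = 144 →
      (D 0 = 144 ∨ D 1 = 144 ∨ D 2 = 144 ∨ D 3 = 144) := by
    intro ψ hψ
    obtain ⟨i, hi⟩ := h.exists_eq hc (ψ := ψ)
      (by rintro rfl; rw [deg_triv] at hψ; norm_num at hψ) (by rw [hψ]; norm_num)
    have h1 := h.deg i
    rw [hi, hψ] at h1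
    have h2 : D i = 144 := by
      have h3 := B.dvd_deg_sub (card_eleven hc P) (by norm_num) ((h.mem _).2 (Or.inr ⟨i, hi⟩))
      rw [hψ] at h3
      rcases B.ε_eq ψ ((h.mem _).2 (Or.inr ⟨i, hi⟩)) with h6 | h6
      · rw [h6] at h1; omega
      · rw [h6] at h3; norm_num at h3
    fin_cases i
    · exact Or.inl h2
    · exact Or.inr (Or.inl h2)
    · exact Or.inr (Or.inr (Or.inl h2))
    · exact Or.inr (Or.inr (Or.inr h2))
  have hmain : (1 + D 0 + D 1 + D 2 + D 3 = 16 ∨ 1 + D 0 + D 1 + D 2 + D 3 = -16) ∨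
      (D 0 = 144 ∨ D 1 = 144 ∨ D 2 = 144 ∨ D 3 = 144) := by
    rcases hcdeg with h1 | h1 | h1 | h1 | h1
    · exact Or.inl (h16 _ h1.2.1)
    · exact Or.inr (h144 _ h1.2.2.1)
    · exact Or.inr (h144 _ h1.2.2.2)
    · exact Or.inl (h16 _ h1.1)
    · exact Or.inr (h144 _ h1.2.2.1)
  have hrow := h.row
  simp only [Arith.rows, List.mem_cons, List.not_mem_nil, Prod.mk.injEq, or_false] at hrow
  omega

theorem rows_two : ∀ r ∈ Arith.rows,
    1 + r.2.1.1 + r.2.2.1.1 + r.2.2.2.1.1 + r.2.2.2.2.1 ≠ 5 →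
    ((r.2.1.1 = 12 ∧ r.2.2.1.1 = 12) ∨ (r.2.1.1 = 12 ∧ r.2.2.2.1.1 = 12) ∨
      (r.2.1.1 = 12 ∧ r.2.2.2.2.1 = 12) ∨ (r.2.2.1.1 = 12 ∧ r.2.2.2.1.1 = 12) ∨
      (r.2.2.1.1 = 12 ∧ r.2.2.2.2.1 = 12) ∨ (r.2.2.2.1.1 = 12 ∧ r.2.2.2.2.1 = 12)) →
    r.2.1.1 = -10 ∧ r.2.2.1.1 = 12 ∧ r.2.2.2.1.1 = 12 ∧ r.2.2.2.2.1 = 45 ∧
    ((r.2.2.1.2 = -4 ∧ r.2.2.2.1.2 = 4) ∨ (r.1 = 3 ∧ r.2.2.1.2 = -4) ∨
      (r.1 = 9 ∧ r.2.2.1.2 = -4) ∨ (r.1 = 9 ∧ r.2.2.1.2 = 0) ∨ (r.1 = 27 ∧ r.2.2.1.2 = 0)) := by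
  decide +kernel

theorem pair_cases {D : Fin 4 → ℤ} {a : ℤ} {i j : Fin 4} (hij : i ≠ j) (hi : D i = a)
    (hj : D j = a) : (D 0 = a ∧ D 1 = a) ∨ (D 0 = a ∧ D 2 = a) ∨ (D 0 = a ∧ D 3 = a) ∨
      (D 1 = a ∧ D 2 = a) ∨ (D 1 = a ∧ D 3 = a) ∨ (D 2 = a ∧ D 3 = a) := by
  fin_cases i <;> fin_cases j <;> simp_all

/-- The case `e = 2` does not occur. -/
theorem Main.case_two [IsSimpleGroup G] (hc : Nat.card G = 95040) (h : Main P B t χ D w k)
    {Q : Sylow 5 G} {K : Subgroup G} (hQ : IsLocal 5 Q 2 K)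
    (hK : Nat.card K = 4 ∨ Nat.card K = 9 ∨ Nat.card K = 24 ∨ Nat.card K = 54 ∨ Nat.card K = 144)
    (B5 : PBlock G 5 2 2 (Q : Subgroup G)) : False := by
  classical
  have : Fact (Nat.Prime 5) := ⟨by norm_num⟩
  have hpool := FiveBlock.deg_mem_pool hc (card_eleven hc P) B fun ψ h1 h2 => (h.rest ψ h1 h2).2
  obtain ⟨ψ, Θ, Θ', -, hX, hne, -, -, hΘ, hΘ', -, hd⟩ :=
    FiveBlock.exists_two B5 (card_five hc Q) hpool
  have hT := h.T_ne_five hc hQ (by omega)
  -- the characters of degree 12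
  have key : ∀ ψ : IrrCharacter G, BlockData.deg ψ = 12 →
      ∃ i, χ i = ψ ∧ B.ε (χ i) = 1 ∧ D i = 12 := by
    intro ψ hψ
    obtain ⟨i, hi⟩ := h.exists_eq hc (ψ := ψ)
      (by rintro rfl; rw [deg_triv] at hψ; norm_num at hψ) (by rw [hψ]; norm_num)
    have h1 := h.deg i
    have h3 := B.dvd_deg_sub (card_eleven hc P) (by norm_num) ((h.mem _).2 (Or.inr ⟨i, hi⟩))
    rw [hψ] at h3
    have h4 : B.ε ψ = 1 := by
      rcases B.ε_eq ψ ((h.mem _).2 (Or.inr ⟨i, hi⟩)) with h6 | h6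
      · exact h6
      · rw [h6] at h3; norm_num at h3
    rw [hi, hψ, h4] at h1
    exact ⟨i, hi, by rw [hi]; exact h4, by rw [← h1]; norm_num⟩
  obtain ⟨i, hi, hεi, hDi⟩ := key Θ hΘ
  obtain ⟨j, hj, hεj, hDj⟩ := key Θ' hΘ'
  have hij : i ≠ j := by
    rintro rfl
    exact hne (hi.symm.trans hj)
  -- equal values at `t`
  have ht5 : ¬ 5 ∣ orderOf t := by rw [h.order]; norm_num
  have hwij : w i = w j := by
    have h1 := B5.apply_X_eq ((hX Θ).2 (Or.inl rfl)) ((hX Θ').2 (Or.inr rfl)) ht5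
    rw [← hi, ← hj, h.val, h.val, hεi, hεj] at h1
    simpa using h1
  have hrow := h.row
  obtain ⟨h0, h1, h2, h3, hkw⟩ := rows_two _ hrow hT (pair_cases hij hDi hDj)
  simp only at h0 h1 h2 h3 hkw
  have hij' : (i = 1 ∧ j = 2) ∨ (i = 2 ∧ j = 1) := by
    have hi0 : i ≠ 0 := by rintro rfl; omega
    have hi3 : i ≠ 3 := by rintro rfl; omega
    have hj0 : j ≠ 0 := by rintro rfl; omega
    have hj3 : j ≠ 3 := by rintro rfl; omega
    omega
  have hw12 : w 2 = w 1 := by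
    rcases hij' with ⟨rfl, rfl⟩ | ⟨rfl, rfl⟩
    · exact hwij.symm
    · exact hwij
  have hn := fun hK' => h.D_ne hc hQ hK' 0
  have hK9 : Nat.card K = 9 := by omega
  -- the element of order 5
  have hQ5 := card_five hc Q
  have hnt : Nontrivial (Q : Subgroup G) := by
    rw [← Finite.one_lt_card_iff_nontrivial, hQ5]; norm_num
  obtain ⟨y, hy1⟩ := exists_ne (1 : (Q : Subgroup G))
  have hy1' : (y : G) ≠ 1 := fun h => hy1 (Subtype.ext h)
  have hyo : orderOf (y : G) = 5 := by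
    have h4 := orderOf_dvd_natCard y
    rw [hQ5, ← orderOf_coe] at h4
    rcases (Nat.dvd_prime (by norm_num)).1 h4 with h5 | h5
    · exact absurd (orderOf_eq_one_iff.1 h5) hy1'
    · exact h5
  have hCy : Nat.card (centralizer ({(y : G)} : Set G)) = 45 := by
    rw [Cfsg.Agent.Blocks.CyclicOrtho.centralizer_eq Q hQ5 y.2 hy1']
    have h4 := hQ.card_centralizer
    rw [hK9] at h4
    exact h4
  have hidxy : (centralizer ({(y : G)} : Set G)).index = 2112 := by
    have h4 := (centralizer ({(y : G)} : Set G)).card_mul_index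
    rw [hCy, hc] at h4
    omega
  -- vanishing
  have hvan : ∀ ψ : IrrCharacter G, 5 ∣ BlockData.deg ψ → (ψ : G → ℂ) y = 0 := by
    intro ψ ⟨m, hm⟩
    have := SmallDegree.apply_mul_eq_zero Q hQ5 ψ.2 (m := m) (x := y) (y := 1)
      (by rw [apply_one, hm]; push_cast; ring) y.2 hy1' (by simp) (by rw [orderOf_one]; norm_num)
    rwa [mul_one] at this
  have hdeg : ∀ i, (D i = -10 ∨ D i = 45) → (χ i : G → ℂ) y = 0 := by
    intro i hi
    apply hvan
    have h4 := h.deg i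
    rcases B.ε_eq (χ i) ((h.mem _).2 (Or.inr ⟨i, rfl⟩)) with h6 | h6 <;> rw [h6] at h4 <;> omega
  have hv0 := hdeg 0 (Or.inl h0)
  have hv3 := hdeg 3 (Or.inr h3)
  have hsum : (χ 1 : G → ℂ) y + (χ 2 : G → ℂ) y = -1 := by
    have h4 := B5.sum_X y y.2 hy1' 1 (one_mem _) (by rw [orderOf_one]; norm_num)
    rw [mul_one, hd] at h4
    have h5 : B5.X = {Θ, Θ'} := by
      ext ψ; rw [hX]; simp
    rw [h5, Finset.sum_pair hne, ← hi, ← hj] at h4
    rcases hij' with ⟨rfl, rfl⟩ | ⟨rfl, rfl⟩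
    · rw [h4]; norm_num
    · rw [add_comm, h4]; norm_num
  -- the class multiplication constant
  have hP := card_eleven hc P
  have hnt : Nontrivial (P : Subgroup G) := by
    rw [← Finite.one_lt_card_iff_nontrivial, hP]; norm_num
  obtain ⟨x, hx1⟩ := exists_ne (1 : (P : Subgroup G))
  have hx1' : (x : G) ≠ 1 := fun h => hx1 (Subtype.ext h)
  obtain ⟨Θ₁, hD⟩ := ElevenMain.data_of_pblock hP B h.rest x.2 hx1'
  have hE := ElevenMain.enum_of B h.inj h.ne h.mem
  have hRy : ¬ 11 ∣ orderOf (y : G) := by rw [hyo]; norm_num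
  have hRt : ¬ 11 ∣ orderOf t := by rw [h.order]; norm_num
  obtain ⟨n, hn1, -⟩ := hD.rel.exists_nat_classMul hD.mem_X hRy hRt
  have hTh : (Θ₁ : G → ℂ) y = 0 := by
    apply hvan
    have h4 := h.theta_deg hc hD.mem_X
    rw [h0, h1, h2, h3] at h4
    rcases B.d_eq with h6 | h6 <;> rw [h6] at h4 <;> omega
  have hε : ∀ i, D i = 12 → B.ε (χ i) = 1 ∧ BlockData.deg (χ i) = 12 := by
    intro i hi
    have h4 := h.deg i
    rcases B.ε_eq (χ i) ((h.mem _).2 (Or.inr ⟨i, rfl⟩)) with h6 | h6 <;> rw [h6] at h4 ⊢ <;> omega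
  have he1 := hε 1 h1
  have he2 := hε 2 h2
  have hkpos : 0 < k := by omega
  have hidxt : (centralizer ({t} : Set G)).index * (64 * k) = 95040 := by
    have h4 := (centralizer ({t} : Set G)).card_mul_index
    rw [h.card, hc] at h4
    rw [mul_comm]; exact h4
  rw [hE.sum, Fin.sum_univ_four, hv0, hv3, hTh, hidxy, hc] at hn1
  have ht1 : (χ 1 : G → ℂ) t = w 1 := by rw [h.val, he1.1]; simp
  have ht2 : (χ 2 : G → ℂ) t = w 2 := by rw [h.val, he2.1]; simp
  have hd1 : (χ 1 : G → ℂ) 1 = 12 := by rw [apply_one, he1.2]; norm_num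
  have hd2 : (χ 2 : G → ℂ) 1 = 12 := by rw [apply_one, he2.2]; norm_num
  rw [ht1, ht2, hw12, he1.1, he2.1, hd1, hd2, B.ε_triv,
    triv_apply, triv_apply, triv_apply] at hn1
  have hfin : (2112 : ℂ) * ((centralizer ({t} : Set G)).index : ℂ) * (12 - w 1) =
      12 * (95040 * n) := by
    push_cast at hn1
    linear_combination 12 * hn1 - 2112 * ((centralizer ({t} : Set G)).index : ℂ) * w 1 * hsum
  have hfin' : (2112 : ℤ) * ((centralizer ({t} : Set G)).index : ℤ) * (12 - w 1) =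
      12 * (95040 * n) := by exact_mod_cast hfin
  rcases hkw with ⟨hw1, hw2⟩ | ⟨rfl, hw1⟩ | ⟨rfl, hw1⟩ | ⟨rfl, hw1⟩ | ⟨rfl, hw1⟩
  · omega
  all_goals rw [hw1] at hfin'; omega

end

theorem IsLocal.relIndex_eq [Finite G] {p : ℕ} {Q : Sylow p G} {e : ℕ} {K : Subgroup G}
    (hp : 0 < p) (h : IsLocal p Q e K) :
    (centralizer (Q : Set G)).relIndex (normalizer (Q : Set G)) = e := by
  have h1 := Subgroup.relIndex_mul_relIndex (⊥ : Subgroup G) (centralizer (Q : Set G))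
    (normalizer (Q : Set G)) bot_le
    (Cfsg.Agent.SmallSimple.SylowPrimeCount.centralizer_le_normalizer' _)
  rw [Subgroup.relIndex_bot_left, Subgroup.relIndex_bot_left, h.card_normalizer,
    h.card_centralizer] at h1
  have h2 : 0 < Nat.card K := Nat.card_pos
  have h3 : p * Nat.card K * (centralizer (Q : Set G)).relIndex (normalizer (Q : Set G)) =
      p * Nat.card K * e := by rw [h1]; ring
  exact Nat.eq_of_mul_eq_mul_left (by positivity) h3

/-- **The family of degrees** (end of STEP 4). -/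
theorem family [Finite G] [IsSimpleGroup G] (hc : Nat.card G = 95040)
    (h11 : ∀ P : Sylow 11 G, centralizer (P : Set G) = (P : Subgroup G)) (P : Sylow 11 G)
    (hN : Nat.card (normalizer (P : Set G)) = 55) (Q : Sylow 5 G)
    (hB : ∀ e t : ℕ, 0 < t →
      (centralizer (Q : Set G)).relIndex (normalizer (Q : Set G)) = e → e * t = 5 - 1 →
      Nonempty (PBlock G 5 e t (Q : Subgroup G))) :
    ∃ (B : PBlock G 11 5 2 (P : Subgroup G)) (_ : PBlock G 5 4 1 (Q : Subgroup G))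
      (K : Subgroup G) (χ : Fin 4 → IrrCharacter G) (t : G),
      IsLocal 5 Q 4 K ∧ (Nat.card K = 2 ∨ Nat.card K = 12 ∨ Nat.card K = 72) ∧
      Main P B t χ ![-120, -54, 45, 144] ![8, -6, -3, 0] 3 := by
  obtain ⟨B, t, χ, D, w, k, h⟩ := exists_main hc h11 P hN
  obtain ⟨e, K, hloc, ⟨rfl, hK⟩ | ⟨rfl, hK⟩⟩ := SylowFive.cases hc h11 Q
  · obtain ⟨B5⟩ := hB 2 2 (by norm_num) (IsLocal.relIndex_eq (by norm_num) hloc) (by norm_num)
    exact (h.case_two hc hloc hK B5).elim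
  · obtain ⟨B5⟩ := hB 4 1 (by norm_num) (IsLocal.relIndex_eq (by norm_num) hloc) (by norm_num)
    obtain ⟨hk, h0, h1, h2, h3, h4, h5, h6, h7⟩ := h.case_four hc hloc hK B5
    refine ⟨B, B5, K, χ, t, hloc, hK, ?_⟩
    have hD : D = ![-120, -54, 45, 144] := by
      funext i; fin_cases i
      · exact h0
      · exact h2
      · exact h4
      · exact h6
    have hw : w = ![8, -6, -3, 0] := by
      funext i; fin_cases i
      · exact h1
      · exact h3
      · exact h5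
      · exact h7
    rw [← hD, ← hw, ← hk]
    exact h

end Cfsg.Agent.MTwelve.Assembly5
end

-- part: MTwelve/IndexTwelve
section
set_option autoImplicit false

open scoped ComplexConjugate
open Cfsg Subgroup

namespace Cfsg.Agent.MTwelve.IndexTwelve

open Characters.Core MTwelve.SymSquare

universe u

theorem sum_normalizer_eq {G : Type u} [Group G] [Fintype G] {P N : Subgroup G} [Fintype P]
    [Fintype N] (hPN : P ≤ N) (hP : Nat.card P = 11) (hN : Nat.card N = 55) (F : G → ℂ) (c : ℂ)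
    (h0 : ∀ x ∈ P, x ≠ 1 → F x = 0) (hc : ∀ g ∈ N, g ∉ P → F g = c) :
    ∑ x : N, F x = F 1 + 44 * c := by
  classical
  have hsumP : ∑ x : P, F x = F 1 := by
    rw [Finset.sum_eq_single 1]
    · rfl
    · intro x _ hx
      exact h0 x x.2 (fun h => hx (Subtype.ext h))
    · intro h
      exact absurd (Finset.mem_univ _) h
  rw [← hsumP, sum_subgroup_eq, sum_subgroup_eq]
  have hsub : Finset.univ.filter (fun g : G => g ∈ P) ⊆ Finset.univ.filter (fun g : G => g ∈ N) := by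
    intro g hg
    simp only [Finset.mem_filter, Finset.mem_univ, true_and] at hg ⊢
    exact hPN hg
  rw [← Finset.sum_sdiff hsub, add_comm]
  congr 1
  have hcard : ((Finset.univ.filter (fun g : G => g ∈ N)) \
      (Finset.univ.filter (fun g : G => g ∈ P))).card = 44 := by
    rw [Finset.card_sdiff_of_subset hsub, ← Fintype.card_subtype, ← Fintype.card_subtype]
    have h1 : Fintype.card {x // x ∈ N} = 55 := by rw [← Nat.card_eq_fintype_card]; exact hN
    have h2 : Fintype.card {x // x ∈ P} = 11 := by rw [← Nat.card_eq_fintype_card]; exact hP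
    rw [h1, h2]
  rw [Finset.sum_congr rfl (g := fun _ => c), Finset.sum_const, hcard, nsmul_eq_mul]
  · norm_num
  · intro g hg
    simp only [Finset.mem_sdiff, Finset.mem_filter, Finset.mem_univ, true_and] at hg
    exact hc g hg.1 hg.2

/-- **STEP 6 + STEP 7.** -/
theorem exists_index_twelve {G : Type u} [Group G] [Fintype G] (P : Sylow 11 G)
    (hP : Nat.card P = 11) (hC : centralizer ((P : Subgroup G) : Set G) = P)
    (hN : Nat.card (normalizer ((P : Subgroup G) : Set G)) = 55)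
    (h5 : ∀ y z : G, orderOf y = 5 → orderOf z = 5 → IsConj y z)
    (NE X : Finset (IrrCharacter G)) (ε : IrrCharacter G → ℤ) (d : ℤ)
    (S : IrrCharacter G → Finset (P →* ℂˣ))
    (hNE : ∀ ψ ∈ NE, ∀ x ∈ P, x ≠ 1 → (ψ : G → ℂ) x = ε ψ)
    (hNEdeg : ∀ ψ ∈ NE, (ψ : G → ℂ) = 1 ∨ (charDegree (ψ : G → ℂ) = 45 ∧ ε ψ = 1) ∨
      (charDegree (ψ : G → ℂ) = 54 ∧ ε ψ = -1) ∨ 66 < charDegree (ψ : G → ℂ))
    (hX : X.card = 2) (hXdeg : ∀ Θ ∈ X, charDegree (Θ : G → ℂ) = 16) (hd : d = 1 ∨ d = -1)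
    (hXval : ∀ Θ ∈ X, (S Θ).card = 5 ∧ 1 ∉ S Θ ∧
      ∀ x : P, x ≠ 1 → (Θ : G → ℂ) x = d * ∑ l ∈ S Θ, (l x : ℂ))
    (hXdisj : ∀ Θ ∈ X, ∀ Θ' ∈ X, Θ ≠ Θ' → Disjoint (S Θ) (S Θ'))
    (hoth : ∀ ψ : IrrCharacter G, ψ ∉ NE → ψ ∉ X →
      (∀ x ∈ P, x ≠ 1 → (ψ : G → ℂ) x = 0) ∧ 11 ∣ charDegree (ψ : G → ℂ))
    (hex : ∃ χ : G → ℂ, IsIrrCharacter G χ ∧ (∀ g, conj (χ g) = χ g) ∧ χ 1 = 11) :
    ∃ H : Subgroup G, normalizer ((P : Subgroup G) : Set G) ≤ H ∧ H.index = 12 := by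
  classical
  have : Fintype P := Fintype.ofFinite _
  have : Fintype (P : Subgroup G) := Fintype.ofFinite _
  set N := normalizer ((P : Subgroup G) : Set G) with hNdef
  have hPN : (P : Subgroup G) ≤ N := Subgroup.le_normalizer
  obtain ⟨y, hyN, hyP⟩ : ∃ y : G, y ∈ N ∧ y ∉ P := by
    by_contra h
    push Not at h
    have h1 : N ≤ (P : Subgroup G) := h
    have h2 := Subgroup.card_dvd_of_le h1
    rw [hN, hP] at h2
    omega
  have h5N : ∀ g ∈ N, g ∉ P → orderOf g = 5 := fun g hg hgP => orderOf_eq_five P hP hC hN hg hgP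
  -- vanishing on `P`
  have hvan : ∀ χ : G → ℂ, IsIrrCharacter G χ → χ 1 = 11 → ∀ x ∈ P, x ≠ 1 → χ x = 0 := by
    intro χ hχ hdeg
    have hχdeg : charDegree χ = 11 := by
      have h := apply_one_eq hχ
      rw [hdeg] at h
      exact_mod_cast h.symm
    have hχNE : (⟨χ, hχ⟩ : IrrCharacter G) ∉ NE := by
      intro h
      rcases hNEdeg _ h with h1 | h1 | h1 | h1
      · have : χ 1 = 1 := congrFun h1 1
        rw [hdeg] at this
        norm_num at this
      · have := h1.1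
        simp only [hχdeg] at this
        omega
      · have := h1.1
        simp only [hχdeg] at this
        omega
      · simp only [hχdeg] at h1
        omega
    have hχX : (⟨χ, hχ⟩ : IrrCharacter G) ∉ X := by
      intro h
      have := hXdeg _ h
      simp only [hχdeg] at this
      omega
    exact (hoth _ hχNE hχX).1
  -- values on `N \ P`
  have hval : ∀ χ : G → ℂ, IsIrrCharacter G χ → χ 1 = 11 → ∀ g ∈ N, g ∉ P → χ g = 1 := by
    intro χ hχ hdeg g hg hgP
    have hcl : ∀ h ∈ N, h ∉ (P : Subgroup G) → χ h = χ g := by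
      intro h hh hhP
      obtain ⟨c, hc⟩ := isConj_iff.1 (h5 g h (h5N g hg hgP) (h5N h hh hhP))
      rw [← hc]
      exact isIrr_isClassFunction hχ g c
    have h := apply_eq_of_le_three hPN hP hN (isIrr_isCharacter hχ) g hcl 1 (by
      rw [Finset.sum_eq_single 1]
      · rw [OneMemClass.coe_one, hdeg]; norm_num
      · intro x _ hx
        exact hvan χ hχ hdeg x x.2 (fun h => hx (Subtype.ext h))
      · intro h
        exact absurd (Finset.mem_univ _) h) (by norm_num)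
    rw [h]; norm_num
  have hsq : ∀ g ∈ N, g ∉ P → g * g ∉ P := by
    intro g hg hgP h
    apply hgP
    have h1 : g ^ 5 = 1 := by rw [← h5N g hg hgP]; exact pow_orderOf_eq_one g
    have h3 : g = (g * g) ^ 3 := by
      rw [← sq, ← pow_mul]
      calc g = g ^ 5 * g := by rw [h1, one_mul]
        _ = g ^ (2 * 3) := by rw [← pow_succ]
    rw [h3]
    exact (P : Subgroup G).pow_mem h 3
  have hsqP : ∀ x ∈ P, x ≠ 1 → x * x ∈ P ∧ x * x ≠ 1 := by
    intro x hx hx1
    refine ⟨(P : Subgroup G).mul_mem hx hx, fun h => hx1 ?_⟩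
    have h2 : x ^ 11 = 1 := by
      have h3 : (⟨x, hx⟩ : (P : Subgroup G)) ^ Nat.card P = 1 := pow_card_eq_one'
      rw [hP] at h3
      exact congrArg Subtype.val h3
    have h1 : x ^ 2 = 1 := by rw [sq]; exact h
    calc x = x ^ 11 * (x ^ 2)⁻¹ ^ 5 := by group
      _ = 1 := by rw [h1, h2]; simp
  have : Fintype N := Fintype.ofFinite _
  have key := SporadicA.NortonTrick.exists_subgroup_index (N := N) 11 (by norm_num)
    {χ : G → ℂ | IsIrrCharacter G χ ∧ (∀ g, conj (χ g) = χ g) ∧ χ 1 = 11} hex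
    (fun χ h => h.1) (fun χ h => h.2.1) (fun χ h => by rw [h.2.2]; norm_num) ?_ ?_ ?_
  · exact key
  · rintro χ ⟨hχ, hreal, hdeg⟩
    rw [sum_normalizer_eq hPN hP hN χ 1 (hvan χ hχ hdeg) (hval χ hχ hdeg), hdeg, hN]
    norm_num
  · rintro χ ⟨hχ, hreal, hdeg⟩
    rw [sum_normalizer_eq hPN hP hN (fun m => χ m ^ 2 + χ (m * m)) 2 ?_ ?_]
    · rw [mul_one, hdeg, hN]
      norm_num
    · intro x hx hx1
      rw [hvan χ hχ hdeg x hx hx1, hvan χ hχ hdeg _ (hsqP x hx hx1).1 (hsqP x hx hx1).2]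
      norm_num
    · intro g hg hgP
      rw [hval χ hχ hdeg g hg hgP, hval χ hχ hdeg (g * g) (mul_mem hg hg) (hsq g hg hgP)]
      norm_num
  · rintro χ ⟨hχ, hreal, hdeg⟩
    obtain ⟨ψ, h1, h2, h3, h4, h5'⟩ := exists_real_eleven P hP hC hN h5 NE X ε d S hNE hNEdeg hX hXdeg
      hd hXval hXdisj hoth hχ hreal hdeg
    exact ⟨ψ, ⟨h1, h2, h3⟩, h5'⟩

end Cfsg.Agent.MTwelve.IndexTwelve
end

-- part: MTwelve/Final
section
/-!
# Assembly for the characterisation of `M₁₂` by its order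

`exists_index`: a simple group of order 95040 with self-centralising Sylow 11-subgroups with
normaliser of order 55 and a real irreducible character of degree 11 has a subgroup of index 12.
-/

set_option autoImplicit false
set_option linter.unusedSectionVars false

namespace Cfsg.Agent.MTwelve.Final

open Cfsg Subgroup Cfsg.Agent.Characters.Core
open scoped ComplexConjugate
open Cfsg.Agent.SmallSimple.PrimeLocal
open Cfsg.Agent.MTwelve Cfsg.Agent.MTwelve.BlockData Cfsg.Agent.MTwelve.Assembly5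

universe u
variable {G : Type u} [Group G]

theorem relIndex_eleven [Finite G] (hc : Nat.card G = 95040)
    (h11 : ∀ P : Sylow 11 G, centralizer (P : Set G) = (P : Subgroup G)) (P : Sylow 11 G)
    (hN : Nat.card (normalizer (P : Set G)) = 55) :
    (centralizer (P : Set G)).relIndex (normalizer (P : Set G)) = 5 := by
  have hP' := card_eleven hc P
  have h1 := Subgroup.relIndex_mul_relIndex (⊥ : Subgroup G) (centralizer (P : Set G))
    (normalizer (P : Set G)) bot_le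
    (Cfsg.Agent.SmallSimple.SylowPrimeCount.centralizer_le_normalizer' _)
  rw [Subgroup.relIndex_bot_left, Subgroup.relIndex_bot_left, hN, h11 P] at h1
  rw [hP'] at h1
  rw [h11 P]
  omega

/-- The family, with Brauer's theorem for `p = 5` supplied. -/
theorem family [Finite G] [IsSimpleGroup G] (hc : Nat.card G = 95040)
    (h11 : ∀ P : Sylow 11 G, centralizer (P : Set G) = (P : Subgroup G)) (P : Sylow 11 G)
    (hN : Nat.card (normalizer (P : Set G)) = 55) (Q : Sylow 5 G) :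
    ∃ (B : PBlock G 11 5 2 (P : Subgroup G)) (_ : PBlock G 5 4 1 (Q : Subgroup G))
      (K : Subgroup G) (χ : Fin 4 → IrrCharacter G) (t : G),
      IsLocal 5 Q 4 K ∧ (Nat.card K = 2 ∨ Nat.card K = 12 ∨ Nat.card K = 72) ∧
      Main P B t χ ![-120, -54, 45, 144] ![8, -6, -3, 0] 3 := by
  have : Fact (Nat.Prime 5) := ⟨by norm_num⟩
  exact Assembly5.family hc h11 P hN Q fun e t _ he ht =>
    BlockExists.exists_pBlock (by norm_num) Q (card_five hc Q) he ht

/-- All elements of order five are conjugate. -/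
theorem isConj_five [Finite G] (hc : Nat.card G = 95040) {Q : Sylow 5 G} {K : Subgroup G}
    (hQ : IsLocal 5 Q 4 K) (y z : G) (hy : orderOf y = 5) (hz : orderOf z = 5) : IsConj y z := by
  have : Fact (Nat.Prime 5) := ⟨by norm_num⟩
  have hQ5 := card_five hc Q
  have he := Assembly5.IsLocal.relIndex_eq (by norm_num) hQ
  have key : ∀ y : G, orderOf y = 5 → ∃ g : G, g * y * g⁻¹ ∈ (Q : Subgroup G) := by
    intro y hy
    have hpg : IsPGroup 5 (zpowers y) := IsPGroup.of_card (n := 1)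
      (by rw [Nat.card_zpowers, hy, pow_one])
    obtain ⟨R, hR⟩ := hpg.exists_le_sylow
    obtain ⟨g, hg⟩ := MulAction.exists_smul_eq G R Q
    refine ⟨g, ?_⟩
    rw [← hg]
    rw [Sylow.coe_subgroup_smul]
    exact Subgroup.smul_mem_pointwise_smul _ _ _ (hR (mem_zpowers y))
  obtain ⟨g, hg⟩ := key y hy
  obtain ⟨h, hh⟩ := key z hz
  have hne : ∀ (y g : G), orderOf y = 5 → g * y * g⁻¹ ≠ 1 := by
    intro y g hy h
    rw [conj_eq_one_iff] at h
    rw [h, orderOf_one] at hy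
    norm_num at hy
  obtain ⟨n, -, hn⟩ := FiveLocal.exists_conj_of_relIndex (by norm_num) (Q : Subgroup G) hQ5 he
    hg (hne y g hy) hh (hne z h hz)
  have h1 : IsConj y (g * y * g⁻¹) := isConj_iff.2 ⟨g, rfl⟩
  have h2 : IsConj (g * y * g⁻¹) (h * z * h⁻¹) := isConj_iff.2 ⟨n, hn⟩
  have h3 : IsConj z (h * z * h⁻¹) := isConj_iff.2 ⟨h, rfl⟩
  exact (h1.trans h2).trans h3.symm

/-- A subgroup of index 12. -/
theorem exists_index [Fintype G] [IsSimpleGroup G] (hc : Nat.card G = 95040)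
    (h11 : ∀ P : Sylow 11 G, centralizer (P : Set G) = (P : Subgroup G))
    (hN : ∀ P : Sylow 11 G, Nat.card (normalizer (P : Set G)) = 55)
    (hex : ∃ χ : G → ℂ, IsIrrCharacter G χ ∧ (∀ g, conj (χ g) = χ g) ∧ χ 1 = 11) :
    ∃ H : Subgroup G, H.index = 12 := by
  have : Fact (Nat.Prime 11) := ⟨by norm_num⟩
  have : Fact (Nat.Prime 5) := ⟨by norm_num⟩
  obtain ⟨P⟩ : Nonempty (Sylow 11 G) := inferInstance
  obtain ⟨Q⟩ : Nonempty (Sylow 5 G) := inferInstance
  obtain ⟨B, B5, K, χ, t, hQ, -, hM⟩ := family hc h11 P (hN P) Q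
  have hP' := card_eleven hc P
  have he := relIndex_eleven hc h11 P (hN P)
  obtain ⟨NE, X, ε, d, S, h1, h2, h3, h4, h5, h6, h7, h8, h9, h10, h12⟩ :=
    Cfsg.Agent.SmallSimple.TheoremBCor.theoremB_selfCent 11 (by norm_num) P hP' (h11 P) 5 2 he
      (by norm_num)
  have hdegNE : ∀ ψ ∈ NE, (11 : ℤ) ∣ (deg ψ : ℤ) - ε ψ := fun ψ hψ =>
    dvd_sub_of_const (isIrr_isCharacter ψ.2) (P : Subgroup G) hP' (by norm_num)
      (by rw [apply_one]; norm_cast) fun x hx hx1 => h7 ψ hψ x hx hx1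
  have hcd : ∀ ψ : IrrCharacter G, charDegree (ψ : G → ℂ) = deg ψ :=
    ElevenMain.charDegree_eq_deg
  have hD : ∀ i, B.ε (χ i) * (deg (χ i) : ℤ) = ![-120, -54, 45, 144] i := hM.deg
  have hcases : ∀ ψ : IrrCharacter G, ψ ≠ triv G → (deg ψ % 11 = 1 ∨ deg ψ % 11 = 10) →
      deg ψ = 120 ∨ deg ψ = 54 ∨ deg ψ = 45 ∨ deg ψ = 144 := by
    intro ψ hψ hm
    obtain ⟨i, rfl⟩ := hM.exists_eq hc hψ hm
    have h13 := hD i
    have h14 := B.ε_eq (χ i) ((hM.mem _).2 (Or.inr ⟨i, rfl⟩))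
    fin_cases i <;> simp at h13 h14 ⊢ <;> rcases h14 with h14 | h14 <;> rw [h14] at h13 <;> omega
  have hA : ∀ ψ ∈ NE, (ψ : G → ℂ) = 1 ∨ (charDegree (ψ : G → ℂ) = 45 ∧ ε ψ = 1) ∨
      (charDegree (ψ : G → ℂ) = 54 ∧ ε ψ = -1) ∨ 66 < charDegree (ψ : G → ℂ) := by
    intro ψ hψ
    by_cases htriv : ψ = triv G
    · exact Or.inl (by rw [htriv]; rfl)
    right
    have h13 := hdegNE ψ hψ
    have h14 := h4 ψ hψ
    have h15 := hcases ψ htriv (by
      rcases h14 with h14 | h14 <;> rw [h14] at h13 <;> omega)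
    rw [hcd]
    omega
  have hB : ∀ Θ ∈ X, charDegree (Θ : G → ℂ) = 16 := by
    intro Θ hΘ
    obtain ⟨m, hm⟩ := Cfsg.Agent.SmallSimple.TheoremBCor.degree_exc (P := (P : Subgroup G)) hP'
      (isIrr_isCharacter Θ.2) (d := d) (S := S Θ) (h8 Θ hΘ).2.1 (h8 Θ hΘ).2.2
    rw [(h8 Θ hΘ).1, apply_one] at hm
    have hm' : (deg Θ : ℤ) = d * 5 + 11 * m := by exact_mod_cast hm
    have h13 := hM.theta_deg hc (hM.mem_X hc (ψ := Θ) (by
      rcases h5 with h5 | h5 <;> rw [h5] at hm' <;> omega))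
    rw [hcd]
    have h14 : (1 : ℤ) + ![-120, -54, 45, 144] 0 + ![-120, -54, 45, 144] 1 +
      ![-120, -54, 45, 144] 2 + ![-120, -54, 45, 144] 3 = 16 := by
      show (1 : ℤ) + -120 + -54 + 45 + 144 = 16
      norm_num
    rw [h14] at h13
    rcases B.d_eq with h15 | h15 <;> rw [h15] at h13 <;> omega
  have hC : ∀ ψ : IrrCharacter G, ψ ∉ NE → ψ ∉ X →
      (∀ x ∈ P, x ≠ 1 → (ψ : G → ℂ) x = 0) ∧ 11 ∣ charDegree (ψ : G → ℂ) := h12
  have hH := IndexTwelve.exists_index_twelve P hP' (h11 P) (hN P)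
    (isConj_five hc hQ) NE X ε d S h7 hA h3 hB h5 h8 h9 hC hex
  obtain ⟨H, -, hH⟩ := hH
  exact ⟨H, hH⟩

end Cfsg.Agent.MTwelve.Final
end

-- part: MTwelve/DegreeElevenMain
section
/-!
# A real irreducible character of degree eleven in a simple group of order 95040

`exists_real_eleven`: the numerical data of `DegreeEleven.Ctx` exist, hence there is a real
irreducible character of degree eleven.
-/

set_option autoImplicit false
set_option linter.unusedSectionVars false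

open scoped ComplexConjugate
open Cfsg

namespace Cfsg.Agent.MTwelve.DegreeElevenMain

open Subgroup
open Cfsg.Agent.Characters
open Cfsg.Agent.SmallSimple
open Cfsg.Agent.SmallSimple.PrimeLocal
open Cfsg.Agent.MTwelve
open Cfsg.Agent.MTwelve.BlockData
open Cfsg.Agent.MTwelve.FiveBlock
open Cfsg.Agent.MTwelve.FiveLocal
open Cfsg.Agent.MTwelve.DegreeEleven
open Cfsg.Agent.MTwelve.Assembly5

universe u

variable {G : Type u} [Group G]

/-- The exceptional characters of the principal 11-block are not real. -/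
theorem exc_im_ne [Finite G] {P : Subgroup G} (B : PBlock G 11 5 2 P)
    (hrest : ∀ χ : IrrCharacter G, χ ∉ B.NE → χ ∉ B.X → ∀ x ∈ P, x ≠ 1 → (χ : G → ℂ) x = 0)
    {x : G} (hx : x ∈ P) (hx1 : x ≠ 1) (hinv : ¬ IsConj x x⁻¹) {Θ : IrrCharacter G}
    (hΘ : Θ ∈ B.X) : ((Θ : G → ℂ) x).im ≠ 0 := by
  classical
  have := Core.finite_irr (G := G)
  have := Fintype.ofFinite (IrrCharacter G)
  have h1 := (Cfsg.Agent.S0145.result x x⁻¹).2 hinv
  rw [finsum_eq_sum_of_fintype] at h1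
  have h2 : ∀ χ : IrrCharacter G, (χ : G → ℂ) x * conj ((χ : G → ℂ) x⁻¹) =
      (χ : G → ℂ) x * (χ : G → ℂ) x := by
    intro χ
    rw [Core.isCharacter_apply_inv (Core.isIrr_isCharacter χ.2), Complex.conj_conj]
  rw [Finset.sum_congr rfl fun χ _ => h2 χ, ← Finset.sum_subset (Finset.subset_univ (B.NE ∪ B.X))
    (fun χ _ hχ => by
      rw [Finset.mem_union, not_or] at hχ
      rw [hrest χ hχ.1 hχ.2 x hx hx1, mul_zero]), Finset.sum_union B.disjoint] at h1
  have hone : ¬ 11 ∣ orderOf (1 : G) := by rw [orderOf_one]; norm_num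
  have h3 : ∑ χ ∈ B.NE, (χ : G → ℂ) x * (χ : G → ℂ) x = 5 := by
    have hNE : ∀ χ ∈ B.NE, (χ : G → ℂ) x * (χ : G → ℂ) x = 1 := by
      intro χ hχ
      have h4 := B.apply_NE χ hχ x hx hx1 1 (one_mem _) hone
      rw [mul_one] at h4
      rw [h4]
      rcases B.ε_eq χ hχ with h5 | h5 <;> rw [h5] <;> norm_num
    rw [Finset.sum_congr rfl hNE, Finset.sum_const, B.card_NE]
    norm_num
  obtain ⟨a, b, hab, hX⟩ := Finset.card_eq_two.1 B.card_X
  have h4 := B.sum_X x hx hx1 1 (one_mem _) hone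
  rw [mul_one, hX, Finset.sum_pair hab] at h4
  rw [h3, hX, Finset.sum_pair hab] at h1
  -- real values are impossible
  have key : ∀ z w : ℂ, z + w = -B.d → 5 + (z * z + w * w) = 0 → z.im ≠ 0 := by
    intro z w hs hq hz
    have hd : (-(B.d : ℂ)).im = 0 := by simp
    have hw : w.im = 0 := by
      have := congrArg Complex.im hs
      rw [Complex.add_im, hz, hd] at this
      linarith
    have hre := congrArg Complex.re hq
    simp only [Complex.add_re, Complex.mul_re, hz, hw, Complex.zero_re] at hre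
    have h5 : (5 : ℂ).re = 5 := by norm_num
    rw [h5] at hre
    nlinarith [mul_self_nonneg z.re, mul_self_nonneg w.re]
  rw [hX, Finset.mem_insert, Finset.mem_singleton] at hΘ
  rcases hΘ with rfl | rfl
  · exact key _ _ h4 h1
  · exact key _ _ (by rw [add_comm]; exact h4) (by rw [add_comm ((Θ : G → ℂ) x * _)]; exact h1)

/-- A Sylow 5-subgroup normalising a Sylow 11-subgroup. -/
theorem exists_sylow_five [Finite G] (hc : Nat.card G = 95040) (R : Sylow 11 G)
    (hN : Nat.card (normalizer (R : Set G)) = 55) :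
    ∃ Q : Sylow 5 G, (Q : Subgroup G) ≤ normalizer (R : Set G) := by
  have : Fact (Nat.Prime 5) := ⟨by norm_num⟩
  obtain ⟨y, hy⟩ := exists_prime_orderOf_dvd_card' (G := normalizer (R : Set G)) 5
    (by rw [hN]; norm_num)
  obtain ⟨Q, hQ⟩ := PrimeSylowAut.exists_sylow_eq_zpowers (fun P => card_five hc P)
    (v := (y : G)) (by rw [orderOf_coe, hy])
  refine ⟨Q, ?_⟩
  rw [hQ, zpowers_le]
  exact y.2

open scoped Classical in
/-- The number of square roots of one. -/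
theorem card_sq_roots [Fintype G] (hc : Nat.card G = 95040) {t z : G} (ht : orderOf t = 2)
    (hz : orderOf z = 2) (htc : Nat.card (centralizer ({t} : Set G)) ≤ 240)
    (hzc : Nat.card (centralizer ({z} : Set G)) = 192)
    (hne : Nat.card (centralizer ({t} : Set G)) ≠ 192) :
    892 ≤ Nat.card {s : G // s * s = 1} := by
  have ht2 : t * t = 1 := by
    have := pow_orderOf_eq_one t
    rwa [ht, pow_two] at this
  have hz2 : z * z = 1 := by
    have := pow_orderOf_eq_one z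
    rwa [hz, pow_two] at this
  have hcls : ∀ a s : G, a * a = 1 → IsConj a s → s * s = 1 := by
    intro a s ha h
    obtain ⟨c, rfl⟩ := isConj_iff.1 h
    have : c * a * c⁻¹ * (c * a * c⁻¹) = c * (a * a) * c⁻¹ := by group
    rw [this, ha, mul_one, mul_inv_cancel]
  have hone : ∀ a s : G, orderOf a = 2 → IsConj a s → s ≠ 1 := by
    rintro a s ha h rfl
    have h1 := isConj_one_left.1 h
    rw [h1, orderOf_one] at ha
    norm_num at ha
  have hcard : ∀ a b : G, IsConj a b → Nat.card (centralizer ({a} : Set G)) =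
      Nat.card (centralizer ({b} : Set G)) := by
    intro a b h
    have h1 := ClassMul.card_filter_isConj a
    have h2 := ClassMul.card_filter_isConj b
    have h3 : (Finset.univ.filter (IsConj a)) = Finset.univ.filter (IsConj b) := by
      ext x
      simp only [Finset.mem_filter, Finset.mem_univ, true_and]
      exact ⟨fun h' => h.symm.trans h', fun h' => h.trans h'⟩
    rw [h3, h2] at h1
    have h4 := (centralizer ({a} : Set G)).card_mul_index
    have h5 := (centralizer ({b} : Set G)).card_mul_index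
    rw [← h1, ← h5] at h4
    refine Nat.eq_of_mul_eq_mul_right ?_ h4
    rw [Nat.pos_iff_ne_zero]
    exact Subgroup.index_ne_zero_of_finite
  rw [Nat.card_eq_fintype_card, Fintype.card_subtype]
  have hsub : insert (1 : G) (Finset.univ.filter (IsConj t) ∪ Finset.univ.filter (IsConj z)) ⊆
      Finset.univ.filter fun s : G => s * s = 1 := by
    intro s hs
    simp only [Finset.mem_insert, Finset.mem_union, Finset.mem_filter, Finset.mem_univ,
      true_and] at hs ⊢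
    rcases hs with rfl | h | h
    · rw [mul_one]
    · exact hcls t s ht2 h
    · exact hcls z s hz2 h
  have hle := Finset.card_le_card hsub
  rw [Finset.card_insert_of_notMem, Finset.card_union_of_disjoint, ClassMul.card_filter_isConj,
    ClassMul.card_filter_isConj] at hle
  · have h4 := (centralizer ({t} : Set G)).card_mul_index
    have h5 := (centralizer ({z} : Set G)).card_mul_index
    rw [hc] at h4 h5
    rw [hzc] at h5
    have h6 : 396 ≤ (centralizer ({t} : Set G)).index := by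
      by_contra h
      push Not at h
      have : Nat.card (centralizer ({t} : Set G)) * (centralizer ({t} : Set G)).index ≤
          240 * 395 := Nat.mul_le_mul htc (by omega)
      omega
    omega
  · rw [Finset.disjoint_left]
    intro s hs hs'
    rw [Finset.mem_filter] at hs hs'
    apply hne
    rw [← hzc]
    exact hcard _ _ (hs.2.trans hs'.2.symm)
  · intro h
    rw [Finset.mem_union, Finset.mem_filter, Finset.mem_filter] at h
    rcases h with h | h
    · exact hone t 1 ht h.2 rfl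
    · exact hone z 1 hz h.2 rfl

/-- The involution commuting with an element of order five. -/
theorem column_cases [Finite G] [IsSimpleGroup G] (hc : Nat.card G = 95040)
    (h11 : ∀ P : Sylow 11 G, centralizer (P : Set G) = (P : Subgroup G)) {R : Sylow 11 G}
    {B : PBlock G 11 5 2 (R : Subgroup G)} {z : G} {χ : Fin 4 → IrrCharacter G}
    (hM : Main R B z χ ![-120, -54, 45, 144] ![8, -6, -3, 0] 3) {Q : Subgroup G} {y t : G}
    (hyt : YT Q y t) :
    (Nat.card (centralizer ({t} : Set G)) ≤ 240 ∧ Nat.card (centralizer ({t} : Set G)) ≠ 192 ∧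
      (χ 1 : G → ℂ) t = 6 ∧ ((χ 3 : G → ℂ) t = 4 ∨ (χ 3 : G → ℂ) t = -4)) ∨
    ∀ Θ ∈ B.X, (Θ : G → ℂ) t = -8 := by
  have h0 : B.ε (χ 0) * (deg (χ 0) : ℤ) = -120 := hM.deg 0
  have h1 : B.ε (χ 1) * (deg (χ 1) : ℤ) = -54 := hM.deg 1
  have h2 : B.ε (χ 2) * (deg (χ 2) : ℤ) = 45 := hM.deg 2
  have h3 : B.ε (χ 3) * (deg (χ 3) : ℤ) = 144 := hM.deg 3
  have hε1 : B.ε (χ 1) = -1 := by
    rcases B.ε_eq (χ 1) ((hM.mem _).2 (Or.inr ⟨1, rfl⟩)) with h | h
    · rw [h] at h1; omega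
    · exact h
  have hε3 : B.ε (χ 3) = 1 := by
    rcases B.ε_eq (χ 3) ((hM.mem _).2 (Or.inr ⟨3, rfl⟩)) with h | h
    · exact h
    · rw [h] at h3; omega
  obtain ⟨w, hw, hΘ, hlist⟩ := ElevenMain.columns hc h11 B hM.rest hM.nonreal hM.inj hM.ne hM.mem
    h0 h1 h2 h3 hyt.t_ord
  have h5 : 5 ∣ Nat.card (centralizer ({t} : Set G)) := by
    have h4 : y ∈ centralizer ({t} : Set G) := mem_centralizer_singleton_iff.2 hyt.comm
    have h5 := orderOf_dvd_natCard (⟨y, h4⟩ : centralizer ({t} : Set G))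
    rwa [Subgroup.orderOf_mk, hyt.y_ord] at h5
  have hw1 := hw 1
  have hw3 := hw 3
  rw [hε1] at hw1
  rw [hε3] at hw3
  simp only [List.mem_cons, List.not_mem_nil, Prod.mk.injEq, or_false] at hlist
  rcases hlist with ⟨a, b0, b1, b2, b3⟩ | ⟨a, b0, b1, b2, b3⟩ | ⟨a, b0, b1, b2, b3⟩ |
    ⟨a, b0, b1, b2, b3⟩ | ⟨a, b0, b1, b2, b3⟩ | ⟨a, b0, b1, b2, b3⟩
  · left
    rw [b1] at hw1
    rw [b3] at hw3
    exact ⟨by omega, by omega, by rw [hw1]; norm_num, Or.inr (by rw [hw3]; norm_num)⟩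
  · left
    rw [b1] at hw1
    rw [b3] at hw3
    exact ⟨by omega, by omega, by rw [hw1]; norm_num, Or.inl (by rw [hw3]; norm_num)⟩
  · omega
  · left
    rw [b1] at hw1
    rw [b3] at hw3
    exact ⟨by omega, by omega, by rw [hw1]; norm_num, Or.inr (by rw [hw3]; norm_num)⟩
  · left
    rw [b1] at hw1
    rw [b3] at hw3
    exact ⟨by omega, by omega, by rw [hw1]; norm_num, Or.inl (by rw [hw3]; norm_num)⟩
  · right
    intro Θ hmem
    have h4 := hM.theta_deg hc hmem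
    have h6 : (1 : ℤ) + ![-120, -54, 45, 144] 0 + ![-120, -54, 45, 144] 1 +
      ![-120, -54, 45, 144] 2 + ![-120, -54, 45, 144] 3 = 16 := by
      show (1 : ℤ) + -120 + -54 + 45 + 144 = 16
      norm_num
    rw [h6] at h4
    have hd : B.d = 1 := by
      rcases B.d_eq with h | h
      · exact h
      · rw [h] at h4; omega
    rw [hΘ Θ hmem, hd, Fin.sum_univ_four, b0, b1, b2, b3]
    norm_num

/-- **The existence of a real character of degree eleven.** -/
theorem exists_real_eleven [Fintype G] [IsSimpleGroup G] (hc : Nat.card G = 95040)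
    (h11 : ∀ P : Sylow 11 G, centralizer (P : Set G) = (P : Subgroup G))
    (hN : ∀ P : Sylow 11 G, Nat.card (normalizer (P : Set G)) = 55) :
    ∃ χ : G → ℂ, IsIrrCharacter G χ ∧ (∀ g, conj (χ g) = χ g) ∧ χ 1 = 11 := by
  classical
  have hf11 : Fact (Nat.Prime 11) := ⟨by norm_num⟩
  have hf5 : Fact (Nat.Prime 5) := ⟨by norm_num⟩
  have hG : commutator G = ⊤ := SmallDegree.commutator_eq_top_of_card (by rw [hc]; norm_num)
  obtain ⟨R⟩ : Nonempty (Sylow 11 G) := inferInstance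
  obtain ⟨Q, hQR⟩ := exists_sylow_five hc R (hN R)
  have hR := card_eleven hc R
  have hQ := card_five hc Q
  obtain ⟨B, B5, K, χ, z, hloc, hK, hM⟩ := Final.family hc h11 R (hN R) Q
  have h0 : B.ε (χ 0) * (deg (χ 0) : ℤ) = -120 := hM.deg 0
  have h1 : B.ε (χ 1) * (deg (χ 1) : ℤ) = -54 := hM.deg 1
  have h2 : B.ε (χ 2) * (deg (χ 2) : ℤ) = 45 := hM.deg 2
  have h3 : B.ε (χ 3) * (deg (χ 3) : ℤ) = 144 := hM.deg 3
  have hmem : ∀ i, χ i ∈ B.NE := fun i => (hM.mem _).2 (Or.inr ⟨i, rfl⟩)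
  have d120 : deg (χ 0) = 120 := by
    rcases B.ε_eq (χ 0) (hmem 0) with h | h <;> rw [h] at h0 <;> omega
  have hε1 : B.ε (χ 1) = -1 := by
    rcases B.ε_eq (χ 1) (hmem 1) with h | h
    · rw [h] at h1; omega
    · exact h
  have d54 : deg (χ 1) = 54 := by rw [hε1] at h1; omega
  have d45 : deg (χ 2) = 45 := by
    rcases B.ε_eq (χ 2) (hmem 2) with h | h <;> rw [h] at h2 <;> omega
  have d144 : deg (χ 3) = 144 := by
    rcases B.ε_eq (χ 3) (hmem 3) with h | h <;> rw [h] at h3 <;> omega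
  have hone11 : ¬ 11 ∣ orderOf (1 : G) := by rw [orderOf_one]; norm_num
  have hone5 : ¬ 5 ∣ orderOf (1 : G) := by rw [orderOf_one]; norm_num
  -- the exceptional characters
  have dX : ∀ Θ ∈ B.X, deg Θ = 16 := by
    intro Θ hΘ
    have h4 := hM.theta_deg hc hΘ
    have h6 : (1 : ℤ) + ![-120, -54, 45, 144] 0 + ![-120, -54, 45, 144] 1 +
      ![-120, -54, 45, 144] 2 + ![-120, -54, 45, 144] 3 = 16 := by
      show (1 : ℤ) + -120 + -54 + 45 + 144 = 16
      norm_num
    rw [h6] at h4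
    rcases B.d_eq with h | h <;> rw [h] at h4 <;> omega
  obtain ⟨th, th', hne, hX⟩ := Finset.card_eq_two.1 B.card_X
  have hthX : th ∈ B.X := by rw [hX]; simp
  have hthX' : th' ∈ B.X := by rw [hX]; simp
  -- an element of order eleven
  have hnt : Nontrivial (R : Subgroup G) := by
    rw [← Finite.one_lt_card_iff_nontrivial, hR]; norm_num
  obtain ⟨x, hx1⟩ := exists_ne (1 : (R : Subgroup G))
  have hx1' : (x : G) ≠ 1 := fun h => hx1 (Subtype.ext h)
  have hinv : ¬ IsConj (x : G) (x : G)⁻¹ := by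
    intro h
    obtain ⟨u, hu⟩ := isConj_iff.1 h
    exact InvolColumn.conj_ne_inv_of_odd (Final.relIndex_eleven hc h11 R (hN R)) (by decide)
      (InvolColumn.zpowers_eq_of_card_prime (by norm_num) hR) (by rw [hR]; decide) x.2 hx1' u hu
  -- |K| = 2
  have h3K : ¬ 3 ∣ Nat.card K := by
    refine not_three_dvd hc (R : Subgroup G) hR (h11 R) Q hQR hloc (χ 1).2
      (by rw [apply_one, d54]; norm_num) ?_
    intro x hx hx1
    have h4 := B.apply_NE (χ 1) (hmem 1) x hx hx1 1 (one_mem _) hone11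
    rw [mul_one, hε1] at h4
    rw [h4]
    norm_num
  have hK2 : Nat.card K = 2 := by
    rcases hK with h | h | h
    · exact h
    · rw [h] at h3K; norm_num at h3K
    · rw [h] at h3K; norm_num at h3K
  -- elements of order five and two
  have hnt5 : Nontrivial (Q : Subgroup G) := by
    rw [← Finite.one_lt_card_iff_nontrivial, hQ]; norm_num
  obtain ⟨y, hy1⟩ := exists_ne (1 : (Q : Subgroup G))
  have hy1' : (y : G) ≠ 1 := fun h => hy1 (Subtype.ext h)
  obtain ⟨t, hyt⟩ := exists_yt Q hQ hloc hK2 y.2 hy1'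
  have ht2 : t ^ 2 = 1 := by rw [← hyt.t_ord]; exact pow_orderOf_eq_one t
  have hty5 : ¬ 5 ∣ orderOf t := by rw [hyt.t_ord]; norm_num
  -- the principal 5-block
  have hpool := FiveBlock.deg_mem_pool hc hR B fun ψ h1 h2 => (hM.rest ψ h1 h2).2
  obtain ⟨c, cinj, cne, -, cval, crel, ccases⟩ := exists_five B5 hQ hpool
  -- the set of all irreducible characters
  have := Core.finite_irr (G := G)
  have := Fintype.ofFinite (IrrCharacter G)
  have hs : ∀ ψ : IrrCharacter G, ∃ s : ℤ, (ψ : G → ℂ) t = s ∧ (4 : ℤ) ∣ deg ψ - s := by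
    intro ψ
    obtain ⟨k, hk⟩ := SmallDegree.character_eq_add_four_mul hG (Core.isIrr_isCharacter ψ.2) ht2
    refine ⟨deg ψ - 4 * k, ?_, ⟨k, by ring⟩⟩
    rw [apply_one] at hk
    push_cast
    rw [hk]
    ring
  choose s hs1 hs2 using hs
  have hvw : ∀ ψ : IrrCharacter G, ∃ v w : ℤ, (ψ : G → ℂ) y = v ∧ (ψ : G → ℂ) (y * t) = w ∧
      (5 : ℤ) ∣ deg ψ - v ∧ (5 : ℤ) ∣ s ψ - w := fun ψ =>
    hyt.exists_int (Core.isIrr_isCharacter ψ.2) (by rw [apply_one]; norm_cast) (hs1 ψ)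
  choose v w hv1 hw1 hv5 hw5 using hvw
  have hν : ∀ ψ : IrrCharacter G, ∃ n : ℤ, (n = 0 ∨ n = 1 ∨ n = -1) ∧
      (Nat.card G : ℂ)⁻¹ * ∑ s : G, (ψ : G → ℂ) (s * s) = n ∧
      (n = 0 ↔ ∃ g, ((ψ : G → ℂ) g).im ≠ 0) := fun ψ =>
    CharactersDeep.FeitOddAux.exists_indicator ψ.2
  choose ν hν1 hν2 hν3 using hν
  have hdeg1 : ∀ ψ : IrrCharacter G, (ψ : G → ℂ) 1 = ((deg ψ : ℤ) : ℂ) := fun ψ => by
    rw [apply_one]; norm_cast
  have hndvd : ∀ a b : G, orderOf a ≠ orderOf b → ¬ IsConj a b := by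
    intro a b hab h
    obtain ⟨g, rfl⟩ := isConj_iff.1 h
    apply hab
    rw [← MulAut.conj_apply]
    exact (orderOf_injective (MulAut.conj g).toMonoidHom (MulAut.conj g).injective a).symm
  have hyto : orderOf ((y : G) * t) = 10 := by
    rw [(show Commute (y : G) t from hyt.comm).orderOf_mul_eq_mul_orderOf_of_coprime
      (by rw [hyt.y_ord, hyt.t_ord]; norm_num), hyt.y_ord, hyt.t_ord]
  -- the numerical data
  let C : Ctx (IrrCharacter G) :=
    { deg := deg
      v := v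
      w := w
      s := s
      ν := ν
      cj := fun ψ => ⟨fun g => conj ((ψ : G → ℂ) g), Core.isIrr_conj ψ.2⟩
      o := triv G
      c45 := χ 2
      c54 := χ 1
      c120 := χ 0
      c144 := χ 3
      th := th
      th' := th'
      c := c
      deg_o := deg_triv
      hpool := hpool
      d45 := d45
      d54 := d54
      d120 := d120
      d144 := d144
      dth := dX _ hthX
      dth' := dX _ hthX'
      th_ne := hne
      rest := by
        intro ψ
        by_cases h4 : ψ ∈ B.NE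
        · rcases (hM.mem ψ).1 h4 with h5 | ⟨i, h5⟩
          · exact Or.inl h5
          · subst h5
            fin_cases i
            · exact Or.inr (Or.inr (Or.inr (Or.inl rfl)))
            · exact Or.inr (Or.inr (Or.inl rfl))
            · exact Or.inr (Or.inl rfl)
            · exact Or.inr (Or.inr (Or.inr (Or.inr (Or.inl rfl))))
        · by_cases h5 : ψ ∈ B.X
          · rw [hX, Finset.mem_insert, Finset.mem_singleton] at h5
            rcases h5 with h5 | h5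
            · exact Or.inr (Or.inr (Or.inr (Or.inr (Or.inr (Or.inl h5)))))
            · exact Or.inr (Or.inr (Or.inr (Or.inr (Or.inr (Or.inr (Or.inl h5))))))
          · exact Or.inr (Or.inr (Or.inr (Or.inr (Or.inr (Or.inr (Or.inr
              (hM.rest ψ h4 h5).2))))))
      v_o := by
        have h4 := hv1 (triv G)
        rw [triv_apply] at h4
        exact_mod_cast h4.symm
      w_o := by
        have h4 := hw1 (triv G)
        rw [triv_apply] at h4
        exact_mod_cast h4.symm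
      s_o := by
        have h4 := hs1 (triv G)
        rw [triv_apply] at h4
        exact_mod_cast h4.symm
      dvd_v := hv5
      dvd_w := hw5
      dvd_s := hs2
      sum_dd := by
        have h4 := sum_deg_sq (G := G)
        rw [hc] at h4
        have h5 : ((∑ ψ : IrrCharacter G, deg ψ ^ 2 : ℕ) : ℤ) = 95040 := by rw [h4]; rfl
        rw [← h5]
        push_cast
        exact Finset.sum_congr rfl fun ψ _ => by ring
      sum_vv := by
        rw [sum_mul_of_isConj hv1 hv1 (IsConj.refl _), hyt.card_cy]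
        rfl
      sum_ww := by
        rw [sum_mul_of_isConj hw1 hw1 (IsConj.refl _), hyt.card_cyt]
        rfl
      sum_vw := sum_mul_of_not_isConj hv1 hw1 (hndvd _ _ (by rw [hyt.y_ord, hyto]; norm_num))
      sum_vd := sum_mul_of_not_isConj hv1 hdeg1
        (hndvd _ _ (by rw [hyt.y_ord, orderOf_one]; norm_num))
      sum_vs := sum_mul_of_not_isConj hv1 hs1
        (hndvd _ _ (by rw [hyt.y_ord, hyt.t_ord]; norm_num))
      col := by
        rcases column_cases hc h11 hM hyt with ⟨h4, h5, h6, h7⟩ | h4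
        · left
          refine ⟨?_, ?_, ?_, ?_⟩
          · have h8 := hs1 (χ 1)
            rw [h6] at h8
            exact_mod_cast h8.symm
          · have h8 := hs1 (χ 3)
            rcases h7 with h7 | h7
            · left
              rw [h7] at h8
              exact_mod_cast h8.symm
            · right
              rw [h7] at h8
              exact_mod_cast h8.symm
          · rw [sum_mul_of_isConj hs1 hs1 (IsConj.refl _)]
            exact_mod_cast h4
          · rw [sum_indicator hν2]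
            have h8 := card_sq_roots hc hyt.t_ord hM.order h4 (by rw [hM.card]) h5
            exact_mod_cast h8
        · right
          have h8 := hs1 th
          rw [h4 th hthX] at h8
          exact_mod_cast h8.symm
      c_inj := cinj
      c_ne := cne
      c_v := by
        intro i
        have h4 := cval i y y.2 hy1' 1 (one_mem _) hone5
        rw [mul_one, hv1] at h4
        exact_mod_cast h4
      c_w := by
        intro i
        have h4 := cval i y y.2 hy1' t hyt.t_mem hty5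
        rw [hw1] at h4
        exact_mod_cast h4
      rel_d := by
        have h4 := crel 1 hone5
        rw [Finset.sum_congr rfl fun i _ => by rw [hdeg1 (c i)]] at h4
        exact_mod_cast h4
      rel_s := by
        have h4 := crel t hty5
        rw [Finset.sum_congr rfl fun i _ => by rw [hs1 (c i)]] at h4
        exact_mod_cast h4
      cases := ccases
      cj_deg := by
        intro ψ
        apply deg_eq_of
        show conj ((ψ : G → ℂ) 1) = _
        rw [apply_one, Complex.conj_natCast]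
      cj_v := by
        intro ψ
        have h4 := hv1 ⟨fun g => conj ((ψ : G → ℂ) g), Core.isIrr_conj ψ.2⟩
        change conj ((ψ : G → ℂ) y) = _ at h4
        rw [hv1, map_intCast] at h4
        exact_mod_cast h4.symm
      cj_w := by
        intro ψ
        have h4 := hw1 ⟨fun g => conj ((ψ : G → ℂ) g), Core.isIrr_conj ψ.2⟩
        change conj ((ψ : G → ℂ) (y * t)) = _ at h4
        rw [hw1, map_intCast] at h4
        exact_mod_cast h4.symm
      ν_le := by
        intro ψ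
        rcases hν1 ψ with h | h | h <;> rw [h] <;> norm_num
      ν_th := (hν3 th).2 ⟨x, exc_im_ne B (fun ψ h4 h5 => (hM.rest ψ h4 h5).1) x.2 hx1' hinv hthX⟩
      ν_th' := (hν3 th').2
        ⟨x, exc_im_ne B (fun ψ h4 h5 => (hM.rest ψ h4 h5).1) x.2 hx1' hinv hthX'⟩
      ν_cj := by
        intro ψ hψ
        rw [hν3]
        by_contra h4
        push Not at h4
        apply hψ
        apply Subtype.ext
        funext g
        exact Complex.conj_eq_iff_im.2 (h4 g) }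
  obtain ⟨ψ, hψ1, hψ2⟩ := C.exists_real
  refine ⟨ψ, ψ.2, ?_, ?_⟩
  · intro g
    exact congrFun (congrArg Subtype.val hψ2) g
  · rw [apply_one, show deg ψ = 11 from hψ1]
    norm_num

end Cfsg.Agent.MTwelve.DegreeElevenMain
end
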