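import Mathlib.Data.Int.Basic
import Mathlib.Tactic
import Mathlib
import Cfsg.Agent.SmallSimple.InvolColumn
import Cfsg.Agent.SmallSimple.TheoremBCor
import Cfsg.Agent.MTwelve.SylowFive
import Cfsg.Agent.SmallSimple.SylowPrimeCount
import Cfsg.Agent.S0135
import Cfsg.Agent.MTwelve.BlockData
set_option linter.all false

-- part: MTwelve/Arith
section
/-!
# Arithmetic for the characterisation of `M₁₂` by its order, prime 11

All numbers are signed: `D = ε χ(1)`, `w = ε χ(z)` where `ε = χ(x)` for `x` of order 11.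
-/

set_option autoImplicit false

namespace Cfsg.Agent.MTwelve.Arith

/-- Possible signed degrees of non-exceptional nontrivial characters of the principal 11-block. -/
def L : List ℤ := [-120, -54, -32, -10, 12, 45, 144]

/-- `|C(z)| = 64 k`. -/
def ks : List ℕ := [1, 3, 5, 9, 15, 27, 45, 135]

/-- The solutions of the degree equation. -/
def sols : List (ℤ × ℤ × ℤ × ℤ) :=
  [(-120, -54, -32, 45),
   (-120, -54, 45, 144),
   (-120, -32, 12, 144),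
   (-120, -10, -10, 144),
   (-120, -10, 12, 45),
   (-120, -10, 12, 144),
   (-120, -10, 45, 144),
   (-120, 45, 45, 45),
   (-54, -54, -32, 144),
   (-54, -54, -10, 45),
   (-54, -54, -10, 144),
   (-54, -32, -32, 45),
   (-54, -32, -32, 144),
   (-54, -32, 45, 45),
   (-54, -10, 12, 45),
   (-54, -10, 45, 45),
   (-54, 12, 12, 45),
   (-32, -32, 12, 45),
   (-32, -32, 45, 45),
   (-32, -10, -10, 45),
   (-32, -10, 12, 45),
   (-32, 12, 12, 12),
   (-10, -10, -10, 45),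
   (-10, -10, 12, 12),
   (-10, 12, 12, 12),
   (-10, 12, 12, 45)]

def tab : List (ℕ × ℤ × List ℤ) :=
  [(1, -120, [-8, 0, 8]),
   (1, -54, [-6, -2, 2, 6]),
   (1, -32, [0]),
   (1, -10, [-6, -2, 2, 6]),
   (1, 12, [-8, -4, 0, 4, 8]),
   (1, 45, [-7, -3, 1, 5]),
   (1, 144, [0]),
   (3, -120, [-8, 0, 8]),
   (3, -54, [-6, 6]),
   (3, -32, [0]),
   (3, -10, [-6, -2, 2, 6]),
   (3, 12, [-8, -4, 0, 4, 8]),
   (3, 45, [-11, -7, -3, 1, 5, 9, 13]),
   (3, 144, [0]),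
   (5, -120, [0]),
   (5, -54, [-14, -10, -6, -2, 2, 6, 10, 14]),
   (5, -32, [0]),
   (5, 12, [-8, -4, 0, 4, 8]),
   (5, 45, [-15, 5]),
   (5, 144, [-16, 0, 16]),
   (9, -120, [-24, -16, -8, 0, 8, 16, 24]),
   (9, -54, [-18, 18]),
   (9, -32, [0]),
   (9, -10, [-6, -2, 2, 6]),
   (9, 12, [-8, -4, 0, 4, 8]),
   (9, 45, [-15, -3, 9, 21]),
   (9, 144, [0]),
   (15, -120, [0]),
   (15, -54, [-30, -18, -6, 6, 18, 30]),
   (15, -32, [0]),
   (15, 12, [-8, -4, 0, 4, 8]),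
   (15, 45, [-15, 5, 25]),
   (15, 144, [-16, 0, 16]),
   (27, -120, [-24, 0, 24]),
   (27, -32, [0]),
   (27, -10, [-6, -2, 2, 6]),
   (27, 12, [0]),
   (27, 45, [-27, 9]),
   (27, 144, [0]),
   (45, -120, [-40, 0, 40]),
   (45, -54, [-18, 18]),
   (45, -32, [0]),
   (45, 12, [-8, -4, 0, 4, 8]),
   (45, 45, [-15]),
   (45, 144, [-48, 0, 48]),
   (135, -120, [0]),
   (135, -32, [0]),
   (135, 12, [0]),
   (135, 144, [0])]

/-- All solutions: `(k, (D₁, w₁), …, (D₄, w₄))`. -/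
def rows : List (ℕ × (ℤ × ℤ) × (ℤ × ℤ) × (ℤ × ℤ) × (ℤ × ℤ)) :=
  [(3, (-120, 8), (-54, -6), (-32, 0), (45, -3)),
   (3, (-120, 8), (-54, -6), (45, -3), (144, 0)),
   (3, (-120, -8), (-32, 0), (12, 4), (144, 0)),
   (9, (-120, -8), (-32, 0), (12, 4), (144, 0)),
   (1, (-120, 0), (-10, -2), (-10, 2), (144, 0)),
   (3, (-120, 0), (-10, -2), (-10, 2), (144, 0)),
   (9, (-120, 0), (-10, -2), (-10, 2), (144, 0)),
   (27, (-120, 0), (-10, -2), (-10, 2), (144, 0)),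
   (9, (-120, -8), (-10, -6), (12, 4), (45, 9)),
   (3, (-120, 8), (-10, -2), (45, -3), (144, 0)),
   (9, (-120, -16), (-10, 2), (45, 9), (144, 0)),
   (9, (-120, 0), (-10, 2), (45, 9), (144, 0)),
   (9, (-120, 8), (-10, -2), (45, -3), (144, 0)),
   (9, (-120, 16), (-10, -6), (45, -15), (144, 0)),
   (27, (-120, 0), (-10, 2), (45, 9), (144, 0)),
   (9, (-54, 18), (-32, 0), (45, -15), (45, -3)),
   (3, (-54, 6), (-10, 2), (45, -3), (45, -3)),
   (1, (-10, -2), (-10, 2), (-10, 2), (45, -3)),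
   (3, (-10, -2), (-10, 2), (-10, 2), (45, -3)),
   (9, (-10, -2), (-10, 2), (-10, 2), (45, -3)),
   (1, (-10, -2), (-10, 2), (12, 0), (12, 0)),
   (3, (-10, -2), (-10, 2), (12, 0), (12, 0)),
   (9, (-10, -2), (-10, 2), (12, 0), (12, 0)),
   (27, (-10, -2), (-10, 2), (12, 0), (12, 0)),
   (3, (-10, 6), (12, -4), (12, -4), (45, -3)),
   (3, (-10, 6), (12, -4), (12, 4), (45, -3)),
   (9, (-10, 2), (12, 0), (12, 0), (45, 9)),
   (9, (-10, 6), (12, -4), (12, -4), (45, -3)),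
   (9, (-10, 6), (12, -4), (12, 4), (45, -3)),
   (27, (-10, 2), (12, 0), (12, 0), (45, 9))]


def cand (k : ℕ) (D : ℤ) : List ℤ :=
  match tab.find? (fun r => r.1 == k && r.2.1 == D) with
  | some r => r.2.2
  | none => []

/-- The conditions on a single signed value. -/
def Val (k : ℕ) (D w : ℤ) : Prop :=
  |w| < |D| ∧ (4 : ℤ) ∣ D - w ∧ D ∣ ((1485 / k : ℕ) : ℤ) * w ∧ w ^ 2 ≤ 64 * k

instance (k : ℕ) (D w : ℤ) : Decidable (Val k D w) := by
  unfold Val; infer_instance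

theorem mem_cand_aux : ∀ k ∈ ks, ∀ D ∈ L, ∀ n ∈ List.range 287,
    Val k D ((n : ℤ) - 143) → ((n : ℤ) - 143) ∈ cand k D := by
  decide +kernel

theorem abs_le_of_mem_L : ∀ D ∈ L, |D| ≤ 144 := by decide

theorem mem_cand {k : ℕ} (hk : k ∈ ks) {D : ℤ} (hD : D ∈ L) {w : ℤ} (h : Val k D w) :
    w ∈ cand k D := by
  have h1 := abs_le_of_mem_L D hD
  have h2 := abs_lt.1 h.1
  have h3 : w = ((w + 143).toNat : ℤ) - 143 := by omega
  rw [h3]
  apply mem_cand_aux k hk D hD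
  · rw [List.mem_range]; omega
  · rw [← h3]; exact h

theorem mem_sols_aux : ∀ D₁ ∈ L, ∀ D₂ ∈ L, D₁ ≤ D₂ → ∀ D₃ ∈ L, D₂ ≤ D₃ → ∀ D₄ ∈ L, D₃ ≤ D₄ →
    (1 + D₁ + D₂ + D₃ + D₄) ∣ 8640 →
    1 + D₁ ^ 2 + D₂ ^ 2 + D₃ ^ 2 + D₄ ^ 2 + 2 * (1 + D₁ + D₂ + D₃ + D₄) ^ 2 ≤ 95040 →
    (D₁, D₂, D₃, D₄) ∈ sols := by
  decide +kernel

/-- the main check -/
def leaf (k : ℕ) (D₁ D₂ D₃ D₄ w₁ w₂ w₃ w₄ : ℤ) : Prop :=
  let T := 1 + D₁ + D₂ + D₃ + D₄
  let T₀ := 1 + w₁ + w₂ + w₃ + w₄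
  1 + w₁ ^ 2 + w₂ ^ 2 + w₃ ^ 2 + w₄ ^ 2 + 2 * T₀ ^ 2 ≤ 64 * k ∧
  8640 + (8640 / D₁) * w₁ ^ 2 + (8640 / D₂) * w₂ ^ 2 + (8640 / D₃) * w₃ ^ 2 +
    (8640 / D₄) * w₄ ^ 2 = (8640 / T) * T₀ ^ 2 ∧
  |T₀| < |T| ∧ (4 : ℤ) ∣ T - T₀ ∧ T ∣ ((1485 / k : ℕ) : ℤ) * T₀

instance (k : ℕ) (D₁ D₂ D₃ D₄ w₁ w₂ w₃ w₄ : ℤ) :
    Decidable (leaf k D₁ D₂ D₃ D₄ w₁ w₂ w₃ w₄) := by
  unfold leaf; infer_instance

theorem rows_aux : ∀ k ∈ ks, ∀ s ∈ sols, ∀ w₁ ∈ cand k s.1, ∀ w₂ ∈ cand k s.2.1,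
    (s.1 = s.2.1 → w₁ ≤ w₂) → 1 + w₁ ^ 2 + w₂ ^ 2 ≤ 64 * k → ∀ w₃ ∈ cand k s.2.2.1,
    (s.2.1 = s.2.2.1 → w₂ ≤ w₃) → 1 + w₁ ^ 2 + w₂ ^ 2 + w₃ ^ 2 ≤ 64 * k →
    ∀ w₄ ∈ cand k s.2.2.2, (s.2.2.1 = s.2.2.2 → w₃ ≤ w₄) →
    leaf k s.1 s.2.1 s.2.2.1 s.2.2.2 w₁ w₂ w₃ w₄ →
    (k, (s.1, w₁), (s.2.1, w₂), (s.2.2.1, w₃), (s.2.2.2, w₄)) ∈ rows := by
  decide +kernel

/-- The degrees of the principal 11-block and the column of a 2-central involution. -/
theorem mem_rows {k : ℕ} (hk : k ∈ ks) {D₁ D₂ D₃ D₄ w₁ w₂ w₃ w₄ : ℤ}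
    (h₁ : D₁ ∈ L) (h₂ : D₂ ∈ L) (h₃ : D₃ ∈ L) (h₄ : D₄ ∈ L)
    (h₁₂ : D₁ ≤ D₂) (h₂₃ : D₂ ≤ D₃) (h₃₄ : D₃ ≤ D₄)
    (e₁₂ : D₁ = D₂ → w₁ ≤ w₂) (e₂₃ : D₂ = D₃ → w₂ ≤ w₃) (e₃₄ : D₃ = D₄ → w₃ ≤ w₄)
    (hT : (1 + D₁ + D₂ + D₃ + D₄) ∣ 8640)
    (hsq : 1 + D₁ ^ 2 + D₂ ^ 2 + D₃ ^ 2 + D₄ ^ 2 + 2 * (1 + D₁ + D₂ + D₃ + D₄) ^ 2 ≤ 95040)
    (v₁ : Val k D₁ w₁) (v₂ : Val k D₂ w₂) (v₃ : Val k D₃ w₃) (v₄ : Val k D₄ w₄)
    (hl : leaf k D₁ D₂ D₃ D₄ w₁ w₂ w₃ w₄) :
    (k, (D₁, w₁), (D₂, w₂), (D₃, w₃), (D₄, w₄)) ∈ rows := by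
  have hs := mem_sols_aux D₁ h₁ D₂ h₂ h₁₂ D₃ h₃ h₂₃ D₄ h₄ h₃₄ hT hsq
  have hn := hl.1
  refine rows_aux k hk _ hs w₁ (mem_cand hk h₁ v₁) w₂ (mem_cand hk h₂ v₂) e₁₂ ?_ w₃
    (mem_cand hk h₃ v₃) e₂₃ ?_ w₄ (mem_cand hk h₄ v₄) e₃₄ hl
  · nlinarith [sq_nonneg w₃, sq_nonneg w₄, sq_nonneg (1 + w₁ + w₂ + w₃ + w₄)]
  · nlinarith [sq_nonneg w₄, sq_nonneg (1 + w₁ + w₂ + w₃ + w₄)]

end Cfsg.Agent.MTwelve.Arith
end

-- part: MTwelve/ElevenBlock
section
/-!
# The principal 11-block of a simple group of order 95040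
-/

set_option autoImplicit false
set_option linter.unusedSectionVars false

namespace Cfsg.Agent.MTwelve.ElevenBlock

open Cfsg Subgroup Cfsg.Agent.Characters.Core
open scoped ComplexConjugate
open Cfsg.Agent.SmallSimple.InvolColumn
open Cfsg.Agent.MTwelve

universe u
variable {G : Type u} [Group G]

/-! ### General facts -/

theorem charDegree_dvd [Finite G] {χ : G → ℂ} (hχ : IsIrrCharacter G χ) :
    charDegree χ ∣ Nat.card G := by
  have hdeg := Cfsg.Agent.Blocks.Basic.irr_one_eq_charDegree hχ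
  obtain ⟨n, ρ, hρ, rfl⟩ := hχ
  have h1 := Cfsg.Agent.S0135.result ρ
  rw [ρ.char_one] at hdeg
  have h2 : charDegree ρ.character = Module.finrank ℂ (Fin n → ℂ) := by exact_mod_cast hdeg.symm
  rw [h2]; exact h1

theorem one_lt_charDegree [Finite G] [IsSimpleGroup G] (hG : commutator G = ⊤) {χ : G → ℂ}
    (hχ : IsIrrCharacter G χ) (hχ1 : χ ≠ 1) : 1 < charDegree χ := by
  have hdeg := Cfsg.Agent.Blocks.Basic.irr_one_eq_charDegree hχ
  have hpos : charDegree χ ≠ 0 := by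
    intro h
    rw [h] at hdeg
    exact Cfsg.Agent.Blocks.Basic.irr_one_ne_zero hχ (by rw [hdeg]; simp)
  by_contra hcon
  have h1 : charDegree χ = 1 := by omega
  obtain ⟨g, hg⟩ := exists_ne (1 : G)
  apply hg
  refine SmallDegree.eq_one_of_norm_eq hG hχ hχ1 ?_
  rw [hdeg, h1]
  obtain ⟨n, ρ, hρ, rfl⟩ := hχ
  rw [Cfsg.Agent.Characters.Values.character_eq_sum_roots]
  have h2 : Multiset.card (ρ g).charpoly.roots = 1 := by
    rw [Cfsg.Agent.Characters.Values.card_roots_charpoly]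
    rw [ρ.char_one, h1] at hdeg
    exact_mod_cast hdeg
  obtain ⟨a, ha⟩ := Multiset.card_eq_one.1 h2
  rw [ha, Multiset.sum_singleton]
  have := Cfsg.Agent.Characters.Values.rep_root_norm ρ g (z := a) (by rw [ha]; simp)
  rw [this]; simp

/-! ### The prime 11 -/

/-- Data for the principal 11-block: `one`, `χ 0, …, χ 3` are the non-exceptional characters. -/
structure Data (x : G) (NE X : Finset (IrrCharacter G)) (ε : IrrCharacter G → ℤ) (d : ℤ)
    (one : IrrCharacter G) (Θ : IrrCharacter G) : Prop where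
  rel : Rel x (fun g => ¬ 11 ∣ orderOf g) NE X ε d
  cardNE : NE.card = 5
  cardX : X.card = 2
  sign : ∀ χ ∈ NE, ε χ = 1 ∨ ε χ = -1
  one_mem : one ∈ NE
  one_eq : (one : G → ℂ) = 1
  sign_one : ε one = 1
  mem_X : Θ ∈ X
  degNE : ∀ χ ∈ NE, (11 : ℤ) ∣ ε χ * charDegree (χ : G → ℂ) - 1
  degOut : ∀ χ : IrrCharacter G, χ ∉ NE → χ ∉ X → 11 ∣ charDegree (χ : G → ℂ)

theorem mem_L {D : ℤ} (h1 : D.natAbs ∣ 95040) (h2 : 1 < D.natAbs) (h3 : (11 : ℤ) ∣ D - 1)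
    (h4 : D ^ 2 ≤ 95040) : D ∈ Arith.L := by
  have key : ∀ n ∈ List.range 618, ((n : ℤ) - 309).natAbs ∣ 95040 → 1 < ((n : ℤ) - 309).natAbs →
      (11 : ℤ) ∣ ((n : ℤ) - 309) - 1 → ((n : ℤ) - 309) ∈ Arith.L := by
    decide +kernel
  have h5 : -309 ≤ D := by nlinarith
  have h6 : D < 309 := by nlinarith
  have h7 : D = ((D + 309).toNat : ℤ) - 309 := by omega
  rw [h7]
  rw [h7] at h1 h2 h3
  exact key _ (by rw [List.mem_range]; omega) h1 h2 h3

theorem eps_sq {e : ℤ} (h : e = 1 ∨ e = -1) : e * e = 1 := by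
  rcases h with rfl | rfl <;> rfl

/-- The data exist. -/
theorem exists_data [Finite G] (P : Sylow 11 G) (hP : Nat.card P = 11)
    (hC : centralizer (P : Set G) = (P : Subgroup G))
    (he : (centralizer (P : Set G)).relIndex (normalizer (P : Set G)) = 5)
    {x : G} (hx : x ∈ P) (hx1 : x ≠ 1) :
    ∃ (NE X : Finset (IrrCharacter G)) (ε : IrrCharacter G → ℤ) (d : ℤ)
      (one Θ : IrrCharacter G), Data x NE X ε d one Θ := by
  have : Fact (Nat.Prime 11) := ⟨by norm_num⟩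
  obtain ⟨NE, X, ε, d, S, h1, h2, h3, h4, h5, ⟨one, h6, h6', h6''⟩, h7, h8, h9, h10, h11⟩ :=
    Cfsg.Agent.SmallSimple.TheoremBCor.theoremB_selfCent 11 (by norm_num) P hP hC 5 2 he
      (by norm_num)
  have hX : X.Nonempty := by rw [← Finset.card_pos, h3]; norm_num
  obtain ⟨Θ, hΘ⟩ := hX
  refine ⟨NE, X, ε, d, one, Θ, ⟨⟨h1, fun χ hχ => h7 χ hχ x hx hx1, fun χ hχ hχ' =>
    (h11 χ hχ hχ').1 x hx hx1, h5, h10, ?_, hx1⟩, h2, h3, h4, h6, h6', h6'', hΘ, ?_, ?_⟩⟩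
  · rw [orderOf_one]; norm_num
  · intro χ hχ
    obtain ⟨m, hm⟩ := Cfsg.Agent.SmallSimple.TheoremBCor.degree_nonexc (P := (P : Subgroup G)) hP
      (isIrr_isCharacter χ.2) (ε := ε χ) (fun y hy hy1 => h7 χ hχ y hy hy1)
    rw [Cfsg.Agent.Blocks.Basic.irr_one_eq_charDegree χ.2] at hm
    have h12 : (charDegree (χ : G → ℂ) : ℤ) = ε χ + 11 * (m - ε χ) := by exact_mod_cast hm
    have h13 := eps_sq (h4 χ hχ)
    refine ⟨ε χ * m - 1, ?_⟩
    rw [h12]
    linear_combination (1 - 11) * h13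
  · exact fun χ hχ hχ' => (h11 χ hχ hχ').2

theorem Data.sum_eq [Finite G] {x : G} {NE X : Finset (IrrCharacter G)} {ε : IrrCharacter G → ℤ}
    {d : ℤ} {one Θ : IrrCharacter G} (h : Data x NE X ε d one Θ) :
    ∃ χ : Fin 4 → IrrCharacter G, Function.Injective χ ∧ (∀ i, χ i ∈ NE) ∧ (∀ i, χ i ≠ one) ∧
      (∀ ψ ∈ NE, ψ = one ∨ ∃ i, ψ = χ i) ∧
      ∀ {M : Type} [AddCommMonoid M] (f : IrrCharacter G → M),
        ∑ ψ ∈ NE, f ψ = f one + ∑ i, f (χ i) := by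
  classical
  have hc : (NE.erase one).card = 4 := by
    rw [Finset.card_erase_of_mem h.one_mem, h.cardNE]
  let e := (Finset.equivFinOfCardEq hc).symm
  refine ⟨fun i => (e i : IrrCharacter G), ?_, ?_, ?_, ?_, ?_⟩
  · exact Subtype.val_injective.comp e.injective
  · exact fun i => Finset.mem_of_mem_erase (e i).2
  · exact fun i => Finset.ne_of_mem_erase (e i).2
  · intro ψ hψ
    by_cases h1 : ψ = one
    · exact Or.inl h1
    · right
      refine ⟨e.symm ⟨ψ, Finset.mem_erase.2 ⟨h1, hψ⟩⟩, ?_⟩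
      simp
  · intro M _ f
    rw [← Finset.add_sum_erase NE f h.one_mem]
    congr 1
    rw [← Finset.sum_coe_sort, ← e.sum_comp (fun ψ => f (ψ : IrrCharacter G))]

/-- An enumeration of the nontrivial non-exceptional characters. -/
structure Enum (NE : Finset (IrrCharacter G)) (one : IrrCharacter G)
    (χ : Fin 4 → IrrCharacter G) : Prop where
  inj : Function.Injective χ
  mem : ∀ i, χ i ∈ NE
  ne : ∀ i, χ i ≠ one
  cases : ∀ ψ ∈ NE, ψ = one ∨ ∃ i, ψ = χ i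
  sum : ∀ f : IrrCharacter G → ℂ, ∑ ψ ∈ NE, f ψ = f one + ∑ i, f (χ i)
  sumR : ∀ f : IrrCharacter G → ℝ, ∑ ψ ∈ NE, f ψ = f one + ∑ i, f (χ i)

theorem Data.exists_enum [Finite G] {x : G} {NE X : Finset (IrrCharacter G)}
    {ε : IrrCharacter G → ℤ} {d : ℤ} {one Θ : IrrCharacter G} (h : Data x NE X ε d one Θ) :
    ∃ χ : Fin 4 → IrrCharacter G, Enum NE one χ := by
  obtain ⟨χ, h1, h2, h3, h4, h5⟩ := h.sum_eq
  exact ⟨χ, h1, h2, h3, h4, fun f => h5 f, fun f => h5 f⟩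

theorem Enum.comp {NE : Finset (IrrCharacter G)} {one : IrrCharacter G}
    {χ : Fin 4 → IrrCharacter G} (h : Enum NE one χ) (σ : Equiv.Perm (Fin 4)) :
    Enum NE one (χ ∘ σ) := by
  refine ⟨h.inj.comp σ.injective, fun i => h.mem _, fun i => h.ne _, ?_, ?_, ?_⟩
  · intro ψ hψ
    rcases h.cases ψ hψ with h1 | ⟨i, h1⟩
    · exact Or.inl h1
    · exact Or.inr ⟨σ.symm i, by simp [h1]⟩
  · intro f
    rw [h.sum f]
    congr 1
    exact (Equiv.sum_comp σ fun i => f (χ i)).symm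
  · intro f
    rw [h.sumR f]
    congr 1
    exact (Equiv.sum_comp σ fun i => f (χ i)).symm

section Column

variable [Finite G] {x : G} {NE X : Finset (IrrCharacter G)} {ε : IrrCharacter G → ℤ} {d : ℤ}
  {one Θ : IrrCharacter G} {χ : Fin 4 → IrrCharacter G}

theorem dd (h : Data x NE X ε d one Θ) : (d : ℂ) * d = 1 := by
  have := eps_sq h.rel.hd
  exact_mod_cast this

/-- (R1) the value of the exceptional character. -/
theorem theta_apply (h : Data x NE X ε d one Θ) (hχ : Enum NE one χ) {g : G}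
    (hg : ¬ 11 ∣ orderOf g) {w : Fin 4 → ℤ} (hw : ∀ i, (χ i : G → ℂ) g = ε (χ i) * w i) :
    (Θ : G → ℂ) g = ((d * (1 + ∑ i, w i) : ℤ) : ℂ) := by
  have h1 := h.rel.rel Θ h.mem_X g hg
  rw [hχ.sum, h.one_eq, h.sign_one] at h1
  have h2 : ∑ i, (ε (χ i) : ℂ) * (χ i : G → ℂ) g = ∑ i, (w i : ℂ) := by
    refine Finset.sum_congr rfl fun i _ => ?_
    rw [hw i, ← mul_assoc]
    have := eps_sq (h.sign _ (hχ.mem i))
    have h3 : (ε (χ i) : ℂ) * ε (χ i) = 1 := by exact_mod_cast this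
    rw [h3, one_mul]
  rw [h2] at h1
  have h3 : (Θ : G → ℂ) g = (d : ℂ) * d * (Θ : G → ℂ) g := by rw [dd h, one_mul]
  rw [h3, mul_assoc, ← h1]
  push_cast
  simp

/-- The norm inequality. -/
theorem norm_le (h : Data x NE X ε d one Θ) (hχ : Enum NE one χ) {g : G}
    (hg : ¬ 11 ∣ orderOf g) {w : Fin 4 → ℤ} (hw : ∀ i, (χ i : G → ℂ) g = ε (χ i) * w i) :
    1 + ∑ i, w i ^ 2 + 2 * (1 + ∑ i, w i) ^ 2 ≤ (Nat.card (centralizer ({g} : Set G)) : ℤ) := by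
  classical
  have h1 := sum_norm_sq_le (NE ∪ X) g
  rw [Finset.sum_union h.rel.disj, hχ.sumR] at h1
  have h2 : ∑ ψ ∈ X, ‖(ψ : G → ℂ) g‖ ^ 2 = 2 * ‖(Θ : G → ℂ) g‖ ^ 2 := by
    rw [Finset.sum_congr rfl fun ψ hψ => by rw [h.rel.eq_of_mem hψ h.mem_X hg], Finset.sum_const,
      h.cardX]
    simp
  have h3 : ∀ i, ‖(χ i : G → ℂ) g‖ ^ 2 = ((w i ^ 2 : ℤ) : ℝ) := by
    intro i
    rw [hw i]
    have h4 : (ε (χ i) : ℂ) * (w i : ℂ) = ((ε (χ i) * w i : ℤ) : ℂ) := by push_cast; rfl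
    rw [h4, Complex.norm_intCast, sq_abs]
    have := eps_sq (h.sign _ (hχ.mem i))
    have h5 : (ε (χ i) * w i) ^ 2 = w i ^ 2 := by
      linear_combination (w i ^ 2) * this
    exact_mod_cast h5
  have h4 : ‖(Θ : G → ℂ) g‖ ^ 2 = (((1 + ∑ i, w i) ^ 2 : ℤ) : ℝ) := by
    rw [theta_apply h hχ hg hw, Complex.norm_intCast, sq_abs]
    have := eps_sq h.rel.hd
    have h5 : (d * (1 + ∑ i, w i)) ^ 2 = (1 + ∑ i, w i) ^ 2 := by
      linear_combination ((1 + ∑ i, w i) ^ 2) * this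
    exact_mod_cast h5
  rw [h2, h4, h.one_eq, Finset.sum_congr rfl fun i _ => h3 i] at h1
  have h5 : ((1 + ∑ i, w i ^ 2 + 2 * (1 + ∑ i, w i) ^ 2 : ℤ) : ℝ) ≤
      ((Nat.card (centralizer ({g} : Set G)) : ℤ) : ℝ) := by
    push_cast at h1 ⊢
    simpa using h1
  exact_mod_cast h5

theorem one_regular : ¬ 11 ∣ orderOf (1 : G) := by rw [orderOf_one]; norm_num

theorem deg_eq (h : Data x NE X ε d one Θ) (hχ : Enum NE one χ) (i : Fin 4) :
    (χ i : G → ℂ) 1 = ε (χ i) * ((ε (χ i) * charDegree (χ i : G → ℂ) : ℤ) : ℂ) := by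
  rw [Cfsg.Agent.Blocks.Basic.irr_one_eq_charDegree (χ i).2]
  have := eps_sq (h.sign _ (hχ.mem i))
  have h3 : (ε (χ i) : ℂ) * ε (χ i) = 1 := by exact_mod_cast this
  push_cast
  rw [← mul_assoc, h3, one_mul]

theorem ne_one (h : Data x NE X ε d one Θ) (hχ : Enum NE one χ) (i : Fin 4) :
    (χ i : G → ℂ) ≠ 1 := fun h1 => hχ.ne i (Subtype.ext (h1.trans h.one_eq.symm))

theorem theta_ne_one (h : Data x NE X ε d one Θ) : (Θ : G → ℂ) ≠ 1 := by
  intro h1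
  have h2 : Θ = one := Subtype.ext (h1.trans h.one_eq.symm)
  exact Finset.disjoint_left.1 h.rel.disj h.one_mem (h2 ▸ h.mem_X)

theorem theta_degree (h : Data x NE X ε d one Θ) (hχ : Enum NE one χ) :
    (charDegree (Θ : G → ℂ) : ℤ) = d * (1 + ∑ i, ε (χ i) * charDegree (χ i : G → ℂ)) := by
  have h1 := theta_apply h hχ one_regular (deg_eq h hχ)
  rw [Cfsg.Agent.Blocks.Basic.irr_one_eq_charDegree Θ.2] at h1
  exact_mod_cast h1

/-- The column of an involution `t` in signed values `w i = ε χ(t)`; `D i` are the signed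
degrees. -/
structure Column (t : G) (ε : IrrCharacter G → ℤ) (χ : Fin 4 → IrrCharacter G) (D w : Fin 4 → ℤ) :
    Prop where
  val : ∀ i, (χ i : G → ℂ) t = ε (χ i) * w i
  lt : ∀ i, |w i| < |D i|
  four : ∀ i, (4 : ℤ) ∣ D i - w i
  dvd : ∀ i, D i ∣ ((centralizer ({t} : Set G)).index : ℤ) * w i
  ltT : |1 + ∑ i, w i| < |1 + ∑ i, D i|
  fourT : (4 : ℤ) ∣ (1 + ∑ i, D i) - (1 + ∑ i, w i)
  dvdT : (1 + ∑ i, D i) ∣ ((centralizer ({t} : Set G)).index : ℤ) * (1 + ∑ i, w i)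
  norm : 1 + ∑ i, w i ^ 2 + 2 * (1 + ∑ i, w i) ^ 2 ≤ (Nat.card (centralizer ({t} : Set G)) : ℤ)
  two : (1 : ℚ) + ∑ i, (w i : ℚ) ^ 2 / D i = (1 + ∑ i, (w i : ℚ)) ^ 2 / (1 + ∑ i, (D i : ℚ))

theorem exists_column [IsSimpleGroup G] (hG : commutator G = ⊤) (h : Data x NE X ε d one Θ)
    (hχ : Enum NE one χ) {t : G} (ht : t ^ 2 = 1) (ht1 : t ≠ 1)
    (hx : ∀ u v : G, IsConj t u → IsConj t v → u * v ≠ x) {D : Fin 4 → ℤ}
    (hD : ∀ i, D i = ε (χ i) * charDegree (χ i : G → ℂ)) :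
    ∃ w : Fin 4 → ℤ, Column t ε χ D w := by
  have hreg : ¬ 11 ∣ orderOf t := by
    intro h11
    have h1 := h11.trans (orderOf_dvd_of_pow_eq_one ht)
    norm_num at h1
  have hz : ∀ i, ∃ z : ℤ, (χ i : G → ℂ) t = z ∧ |z| < charDegree (χ i : G → ℂ) ∧
      (4 : ℤ) ∣ charDegree (χ i : G → ℂ) - z := fun i =>
    exists_int hG (χ i).2 (ne_one h hχ i) ht ht1
  choose z hz1 hz2 hz3 using hz
  have hs : ∀ i, ε (χ i) * ε (χ i) = 1 := fun i => eps_sq (h.sign _ (hχ.mem i))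
  have hsabs : ∀ i, |ε (χ i)| = 1 := fun i => by
    rcases h.sign _ (hχ.mem i) with h1 | h1 <;> rw [h1] <;> rfl
  have hdabs : |d| = 1 := by
    rcases h.rel.hd with h1 | h1 <;> rw [h1] <;> rfl
  have hds := eps_sq h.rel.hd
  set w : Fin 4 → ℤ := fun i => ε (χ i) * z i with hwdef
  have hzw : ∀ i, z i = ε (χ i) * w i := fun i => by
    simp only [hwdef]; rw [← mul_assoc, hs, one_mul]
  have hval : ∀ i, (χ i : G → ℂ) t = ε (χ i) * w i := fun i => by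
    rw [hz1, hzw i]; push_cast; rfl
  have hsumD : ∑ i, D i = ∑ i, ε (χ i) * (charDegree (χ i : G → ℂ) : ℤ) :=
    Finset.sum_congr rfl fun i _ => hD i
  have hT := theta_degree h hχ
  rw [← hsumD] at hT
  have hT0 := theta_apply h hχ hreg hval
  obtain ⟨z', hz'1, hz'2, hz'3⟩ := exists_int hG Θ.2 (theta_ne_one h) ht ht1
  have hz' : z' = d * (1 + ∑ i, w i) := by
    rw [hz'1] at hT0; exact_mod_cast hT0
  refine ⟨w, hval, ?_, ?_, ?_, ?_, ?_, ?_, norm_le h hχ hreg hval, ?_⟩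
  · intro i
    have h1 : |w i| = |z i| := by simp only [hwdef]; rw [abs_mul, hsabs, one_mul]
    have h2 : |D i| = (charDegree (χ i : G → ℂ) : ℤ) := by
      rw [hD i, abs_mul, hsabs, one_mul]
      exact abs_of_nonneg (Int.natCast_nonneg _)
    rw [h1, h2]
    exact hz2 i
  · intro i
    rw [hD i]
    simp only [hwdef]
    rw [← mul_sub]
    exact (hz3 i).mul_left _
  · intro i
    have h1 := dvd_index_mul (χ i).2 (hz1 i)
    rw [hD i]
    simp only [hwdef]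
    have h2 : ((centralizer ({t} : Set G)).index : ℤ) * (ε (χ i) * z i) =
      ε (χ i) * (((centralizer ({t} : Set G)).index : ℤ) * z i) := by ring
    rw [h2]
    exact mul_dvd_mul_left _ h1
  · rw [hz', hT, abs_mul, hdabs, one_mul] at hz'2
    exact hz'2.trans_le (by
      have := le_abs_self (d * (1 + ∑ i, D i))
      rwa [abs_mul, hdabs, one_mul] at this)
  · have h1 : (1 + ∑ i, D i) - (1 + ∑ i, w i) = d * (charDegree (Θ : G → ℂ) - z') := by
      rw [hz', hT]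
      linear_combination (-((1 + ∑ i, D i) - (1 + ∑ i, w i))) * hds
    rw [h1]
    exact hz'3.mul_left _
  · have h1 := dvd_index_mul Θ.2 hz'1
    rw [hT, hz'] at h1
    have h2 : ((centralizer ({t} : Set G)).index : ℤ) * (d * (1 + ∑ i, w i)) =
      d * (((centralizer ({t} : Set G)).index : ℤ) * (1 + ∑ i, w i)) := by ring
    rw [h2] at h1
    have hd0 : d ≠ 0 := by
      rcases h.rel.hd with h1 | h1 <;> rw [h1] <;> norm_num
    exact Int.dvd_of_mul_dvd_mul_left hd0 h1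
  · have h1 := h.rel.relTwo h.mem_X hreg hreg hx
    rw [hχ.sum, h.one_eq, h.sign_one] at h1
    have h2 : ∀ i, (ε (χ i) : ℂ) * ((χ i : G → ℂ) t * (χ i : G → ℂ) t / (χ i : G → ℂ) 1) =
        (w i : ℂ) ^ 2 / (D i : ℂ) := by
      intro i
      have hdeg := deg_eq h hχ i
      rw [← hD i] at hdeg
      have hne : (χ i : G → ℂ) 1 ≠ 0 := Cfsg.Agent.Blocks.Basic.irr_one_ne_zero (χ i).2
      rw [hdeg] at hne
      have hε : (ε (χ i) : ℂ) ≠ 0 := left_ne_zero_of_mul hne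
      have hDi : (D i : ℂ) ≠ 0 := right_ne_zero_of_mul hne
      have hs' : (ε (χ i) : ℂ) * ε (χ i) = 1 := by exact_mod_cast hs i
      rw [hval i, hdeg]
      field_simp
      linear_combination (w i : ℂ) ^ 2 * hs'
    have h3 : (Θ : G → ℂ) 1 = ((d * (1 + ∑ i, D i) : ℤ) : ℂ) := by
      rw [Cfsg.Agent.Blocks.Basic.irr_one_eq_charDegree Θ.2, ← hT]; simp
    have hne : (Θ : G → ℂ) 1 ≠ 0 := Cfsg.Agent.Blocks.Basic.irr_one_ne_zero Θ.2
    rw [h3] at hne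
    have hne' : ((1 + ∑ i, D i : ℤ) : ℂ) ≠ 0 := by
      intro h0
      apply hne
      rw [Int.cast_mul, h0, mul_zero]
    rw [hT0, h3, Finset.sum_congr rfl fun i _ => h2 i] at h1
    have hd' : (d : ℂ) * d = 1 := dd h
    have hd0 : (d : ℂ) ≠ 0 := left_ne_zero_of_mul (by rw [hd']; exact one_ne_zero)
    have h4 : (d : ℂ) * (((d * (1 + ∑ i, w i) : ℤ) : ℂ) * ((d * (1 + ∑ i, w i) : ℤ) : ℂ) /
        ((d * (1 + ∑ i, D i) : ℤ) : ℂ)) =
        ((1 + ∑ i, w i : ℤ) : ℂ) ^ 2 / ((1 + ∑ i, D i : ℤ) : ℂ) := by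
      rw [Int.cast_mul, Int.cast_mul]
      field_simp
      linear_combination ((1 + ∑ i, w i : ℤ) : ℂ) ^ 2 * hd'
    rw [h4] at h1
    have h5 : (((1 : ℚ) + ∑ i, (w i : ℚ) ^ 2 / D i : ℚ) : ℂ) =
        (((1 + ∑ i, (w i : ℚ)) ^ 2 / (1 + ∑ i, (D i : ℚ)) : ℚ) : ℂ) := by
      push_cast at h1 ⊢
      rw [← h1]
      simp
    exact_mod_cast h5

theorem Column.comp {t : G} {D w : Fin 4 → ℤ} (h : Column t ε χ D w) (σ : Equiv.Perm (Fin 4)) :
    Column t ε (χ ∘ σ) (D ∘ σ) (w ∘ σ) := by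
  have e1 : ∑ i, (w ∘ σ) i = ∑ i, w i := Equiv.sum_comp σ w
  have e2 : ∑ i, (D ∘ σ) i = ∑ i, D i := Equiv.sum_comp σ D
  have e3 : ∑ i, (w ∘ σ) i ^ 2 = ∑ i, w i ^ 2 := Equiv.sum_comp σ fun i => w i ^ 2
  have e4 : ∑ i, (((w ∘ σ) i : ℤ) : ℚ) ^ 2 / (((D ∘ σ) i : ℤ) : ℚ) =
      ∑ i, (w i : ℚ) ^ 2 / (D i : ℚ) := Equiv.sum_comp σ fun i => (w i : ℚ) ^ 2 / (D i : ℚ)
  have e5 : ∑ i, (((w ∘ σ) i : ℤ) : ℚ) = ∑ i, (w i : ℚ) := Equiv.sum_comp σ fun i => (w i : ℚ)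
  have e6 : ∑ i, (((D ∘ σ) i : ℤ) : ℚ) = ∑ i, (D i : ℚ) := Equiv.sum_comp σ fun i => (D i : ℚ)
  refine ⟨fun i => h.val _, fun i => h.lt _, fun i => h.four _, fun i => h.dvd _, ?_, ?_, ?_, ?_, ?_⟩
  · rw [e1, e2]; exact h.ltT
  · rw [e1, e2]; exact h.fourT
  · rw [e1, e2]; exact h.dvdT
  · rw [e1, e3]; exact h.norm
  · rw [e4, e5, e6]; exact h.two

theorem card_centralizer_one : Nat.card (centralizer ({(1 : G)} : Set G)) = Nat.card G := by
  have : centralizer ({(1 : G)} : Set G) = ⊤ := by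
    rw [eq_top_iff]
    intro g _
    rw [mem_centralizer_singleton_iff]
    simp
  rw [this, Subgroup.card_top]

theorem sq_le (hc : Nat.card G = 95040) (h : Data x NE X ε d one Θ)
    (hχ : Enum NE one χ) {D : Fin 4 → ℤ} (hD : ∀ i, D i = ε (χ i) * charDegree (χ i : G → ℂ)) :
    1 + ∑ i, D i ^ 2 + 2 * (1 + ∑ i, D i) ^ 2 ≤ 95040 := by
  have h1 := norm_le h hχ (g := 1) one_regular (w := D) (fun i => by rw [hD i]; exact deg_eq h hχ i)
  rw [card_centralizer_one, hc] at h1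
  exact_mod_cast h1

theorem D_mem (hc : Nat.card G = 95040) [IsSimpleGroup G] (hG : commutator G = ⊤)
    (h : Data x NE X ε d one Θ)
    (hχ : Enum NE one χ) {D : Fin 4 → ℤ} (hD : ∀ i, D i = ε (χ i) * charDegree (χ i : G → ℂ))
    (i : Fin 4) : D i ∈ Arith.L := by
  have hsabs : (ε (χ i)).natAbs = 1 := by
    rcases h.sign _ (hχ.mem i) with h1 | h1 <;> rw [h1] <;> rfl
  have h1 : (D i).natAbs = charDegree (χ i : G → ℂ) := by
    rw [hD i, Int.natAbs_mul, hsabs, one_mul, Int.natAbs_natCast]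
  refine mem_L ?_ ?_ ?_ ?_
  · rw [h1, ← hc]; exact charDegree_dvd (χ i).2
  · rw [h1]; exact one_lt_charDegree hG (χ i).2 (ne_one h hχ i)
  · rw [hD i]; exact h.degNE _ (hχ.mem i)
  · have h2 := sq_le hc h hχ hD
    have h3 : D i ^ 2 ≤ ∑ j, D j ^ 2 :=
      Finset.single_le_sum (fun j _ => sq_nonneg (D j)) (Finset.mem_univ i)
    nlinarith [sq_nonneg (1 + ∑ i, D i)]

theorem T_dvd (hc : Nat.card G = 95040) (h : Data x NE X ε d one Θ)
    (hχ : Enum NE one χ) {D : Fin 4 → ℤ} (hD : ∀ i, D i = ε (χ i) * charDegree (χ i : G → ℂ)) :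
    (1 + ∑ i, D i) ∣ 8640 := by
  have hsumD : ∑ i, D i = ∑ i, ε (χ i) * (charDegree (χ i : G → ℂ) : ℤ) :=
    Finset.sum_congr rfl fun i _ => hD i
  have hT := theta_degree h hχ
  rw [← hsumD] at hT
  have h1 : (charDegree (Θ : G → ℂ) : ℤ) ∣ 95040 := by
    have := charDegree_dvd Θ.2
    rw [hc] at this
    exact_mod_cast this
  rw [hT] at h1
  have h2 : (1 + ∑ i, D i) ∣ 11 * 8640 := by
    have : (11 * 8640 : ℤ) = 95040 := by norm_num
    rw [this]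
    exact (Dvd.intro_left _ rfl).trans h1
  have h3 : (11 : ℤ) ∣ ∑ i, D i - 4 := by
    have h4 : ∑ i, D i - 4 = ∑ i, (D i - 1) := by
      rw [Finset.sum_sub_distrib]; simp
    rw [h4]
    exact Finset.dvd_sum fun i _ => by rw [hD i]; exact h.degNE _ (hχ.mem i)
  have h5 : IsCoprime (1 + ∑ i, D i) 11 := by
    rw [Int.isCoprime_iff_gcd_eq_one, Int.gcd_comm]
    have h6 : ¬ (11 : ℤ) ∣ (1 + ∑ i, D i) := by omega
    have h7 : Nat.Coprime 11 (1 + ∑ i, D i).natAbs := by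
      rw [Nat.Prime.coprime_iff_not_dvd (by norm_num)]
      intro h8
      exact h6 (Int.natCast_dvd.2 h8)
    exact h7
  exact h5.dvd_of_dvd_mul_left h2

/-- Exact division. -/
theorem ediv_eq {a b : ℤ} (h : b ∣ a) (hb : b ≠ 0) (w : ℤ) :
    (((a / b) * w ^ 2 : ℤ) : ℚ) = a * ((w : ℚ) ^ 2 / b) := by
  obtain ⟨c, rfl⟩ := h
  rw [Int.mul_ediv_cancel_left _ hb]
  have : (b : ℚ) ≠ 0 := by exact_mod_cast hb
  push_cast
  field_simp

theorem L_dvd : ∀ D ∈ Arith.L, D ∣ 8640 ∧ D ≠ 0 := by decide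

/-- **The principal 11-block and the column of a 2-central involution.** -/
theorem exists_row [IsSimpleGroup G] (hG : commutator G = ⊤) (hc : Nat.card G = 95040)
    (h11 : ∀ P : Sylow 11 G, centralizer (P : Set G) = (P : Subgroup G))
    (h : Data x NE X ε d one Θ) (hx : ∀ u v : G, u ^ 2 = 1 → v ^ 2 = 1 → u * v ≠ x)
    {t : G} (ht : orderOf t = 2) (h64 : 64 ∣ Nat.card (centralizer ({t} : Set G))) :
    ∃ (χ : Fin 4 → IrrCharacter G) (D w : Fin 4 → ℤ) (k : ℕ),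
      Enum NE one χ ∧ (∀ i, D i = ε (χ i) * charDegree (χ i : G → ℂ)) ∧ Column t ε χ D w ∧
      Nat.card (centralizer ({t} : Set G)) = 64 * k ∧ k ∈ Arith.ks ∧
      (k, (D 0, w 0), (D 1, w 1), (D 2, w 2), (D 3, w 3)) ∈ Arith.rows := by
  have ht2 : t ^ 2 = 1 := by rw [← ht]; exact pow_orderOf_eq_one t
  have ht1 : t ≠ 1 := by
    rintro rfl
    rw [orderOf_one] at ht
    norm_num at ht
  have hconj : ∀ u : G, IsConj t u → u ^ 2 = 1 := by
    intro u hu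
    obtain ⟨c, rfl⟩ := isConj_iff.1 hu
    rw [conj_pow, ht2, mul_one, mul_inv_cancel]
  -- the order of the centralizer
  obtain ⟨k, hk⟩ := h64
  have hdvd : 64 * k ∣ 95040 := by
    rw [← hk, ← hc]; exact card_subgroup_dvd_card _
  have hk1 : k ∣ 11 * 135 := by
    have : (95040 : ℕ) = 64 * (11 * 135) := by norm_num
    rw [this] at hdvd
    exact Nat.dvd_of_mul_dvd_mul_left (by norm_num) hdvd
  have hk11 : ¬ 11 ∣ k := by
    intro hk'
    have : Fact (Nat.Prime 11) := ⟨by norm_num⟩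
    have h1 : 11 ∣ Nat.card (centralizer ({t} : Set G)) := by rw [hk]; exact hk'.mul_left _
    obtain ⟨y, hy⟩ := exists_prime_orderOf_dvd_card' 11 h1
    have h2 := mem_centralizer_singleton_iff.1 y.2
    have h3 := SylowFive.orderOf_dvd_of_commute hc h11 (x := (y : G)) (y := t)
      (by rw [orderOf_coe]; exact hy) h2
    rw [ht] at h3
    norm_num at h3
  have hk135 : k ∣ 135 :=
    (Nat.Coprime.dvd_mul_left (((Nat.Prime.coprime_iff_not_dvd (by norm_num)).2 hk11).symm)).1 hk1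
  have hks : k ∈ Arith.ks := by
    have h1 : k ∈ Nat.divisors 135 := Nat.mem_divisors.2 ⟨hk135, by norm_num⟩
    have h2 : ∀ k ∈ Nat.divisors 135, k ∈ Arith.ks := by decide +kernel
    exact h2 k h1
  have hkpos : 0 < k := Nat.pos_of_ne_zero (by rintro rfl; simp at hk135)
  have hidx : (centralizer ({t} : Set G)).index = 1485 / k := by
    have h1 := (centralizer ({t} : Set G)).card_mul_index
    rw [hk, hc] at h1
    obtain ⟨m, hm⟩ := hk135
    have h2 : 64 * k * (centralizer ({t} : Set G)).index = 64 * k * (11 * m) := by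
      rw [h1]
      have : 64 * k * (11 * m) = 64 * 11 * (k * m) := by ring
      rw [this, ← hm]
    have h3 := Nat.eq_of_mul_eq_mul_left (by positivity) h2
    rw [h3]
    have h4 : 1485 = k * (11 * m) := by
      have : k * (11 * m) = 11 * (k * m) := by ring
      rw [this, ← hm]
    rw [h4, Nat.mul_div_cancel_left _ hkpos]
  -- enumeration and sorting
  obtain ⟨χ', hχ'⟩ := h.exists_enum
  let D' : Fin 4 → ℤ := fun i => ε (χ' i) * charDegree (χ' i : G → ℂ)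
  obtain ⟨w', hw'⟩ := exists_column hG h hχ' ht2 ht1
    (fun u v hu hv => hx u v (hconj u hu) (hconj v hv)) (D := D') (fun i => rfl)
  let f : Fin 4 → ℤ ×ₗ ℤ := fun i => toLex (D' i, w' i)
  let σ := Tuple.sort f
  have hmono : Monotone (f ∘ σ) := Tuple.monotone_sort f
  have hχ := hχ'.comp σ
  have hw := hw'.comp σ
  have hD : ∀ i, (D' ∘ σ) i = ε ((χ' ∘ σ) i) * charDegree ((χ' ∘ σ) i : G → ℂ) := fun i => rfl
  have hle : ∀ i j : Fin 4, i ≤ j → (D' ∘ σ) i ≤ (D' ∘ σ) j ∧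
      ((D' ∘ σ) i = (D' ∘ σ) j → (w' ∘ σ) i ≤ (w' ∘ σ) j) := by
    intro i j hij
    have h1 := hmono hij
    have h2 := Prod.Lex.le_iff.1 h1
    rcases h2 with h2 | h2
    · have h3 : (D' ∘ σ) i < (D' ∘ σ) j := h2
      exact ⟨h3.le, fun h4 => absurd h4 h3.ne⟩
    · have h3 : (D' ∘ σ) i = (D' ∘ σ) j := h2.1
      exact ⟨h3.le, fun _ => h2.2⟩
  refine ⟨χ' ∘ σ, D' ∘ σ, w' ∘ σ, k, hχ, hD, hw, hk, hks, ?_⟩
  generalize D' ∘ σ = D at *
  generalize w' ∘ σ = w at *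
  generalize χ' ∘ σ = χ at *
  have hDL := D_mem hc hG h hχ hD
  have hT := T_dvd hc h hχ hD
  have hsq := sq_le hc h hχ hD
  have hnorm := hw.norm
  rw [hk] at hnorm
  have hval : ∀ i, Arith.Val k (D i) (w i) := by
    intro i
    refine ⟨hw.lt i, hw.four i, ?_, ?_⟩
    · have h1 := hw.dvd i
      rwa [hidx] at h1
    · have h3 : w i ^ 2 ≤ ∑ j, w j ^ 2 :=
        Finset.single_le_sum (fun j _ => sq_nonneg (w j)) (Finset.mem_univ i)
      push_cast at hnorm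
      nlinarith [sq_nonneg (1 + ∑ i, w i)]
  have hltT := hw.ltT
  have hfourT := hw.fourT
  have hdvdT := hw.dvdT
  rw [hidx] at hdvdT
  have htwo := hw.two
  have hT0 : (1 + ∑ i, D i) ≠ 0 := by
    intro h0
    rw [h0, abs_zero] at hltT
    exact absurd (abs_nonneg (1 + ∑ i, w i)) (not_le.2 hltT)
  have htwo' : (8640 : ℤ) + ∑ i, (8640 / D i) * w i ^ 2 =
      (8640 / (1 + ∑ i, D i)) * (1 + ∑ i, w i) ^ 2 := by
    have h1 : (((8640 : ℤ) + ∑ i, (8640 / D i) * w i ^ 2 : ℤ) : ℚ) =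
        (((8640 / (1 + ∑ i, D i)) * (1 + ∑ i, w i) ^ 2 : ℤ) : ℚ) := by
      rw [ediv_eq hT hT0, Int.cast_add, Int.cast_sum]
      rw [Finset.sum_congr rfl fun i _ => ediv_eq (L_dvd _ (hDL i)).1 (L_dvd _ (hDL i)).2 (w i)]
      rw [← Finset.mul_sum]
      push_cast
      rw [← htwo]
      ring
    exact_mod_cast h1
  simp only [Fin.sum_univ_four, ← add_assoc] at hT hsq hnorm hltT hfourT hdvdT htwo'
  refine Arith.mem_rows hks (hDL 0) (hDL 1) (hDL 2) (hDL 3) (hle 0 1 (by decide)).1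
    (hle 1 2 (by decide)).1 (hle 2 3 (by decide)).1 (hle 0 1 (by decide)).2
    (hle 1 2 (by decide)).2 (hle 2 3 (by decide)).2 hT hsq (hval 0) (hval 1) (hval 2) (hval 3) ?_
  exact ⟨by exact_mod_cast hnorm, htwo', hltT, hfourT, hdvdT⟩

end Column

/-- A 2-central involution. -/
theorem exists_involution [Finite G] (hc : Nat.card G = 95040) :
    ∃ t : G, orderOf t = 2 ∧ 64 ∣ Nat.card (centralizer ({t} : Set G)) := by
  have : Fact (Nat.Prime 2) := ⟨Nat.prime_two⟩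
  obtain ⟨T⟩ : Nonempty (Sylow 2 G) := inferInstance
  have hT : Nat.card (T : Subgroup G) = 64 := by
    rw [T.card_eq_multiplicity, hc]
    have : (95040 : ℕ).factorization 2 = 6 := by
      rw [show (95040 : ℕ) = 2 ^ 6 * 1485 by norm_num,
        Nat.factorization_mul (by norm_num) (by norm_num),
        Nat.Prime.factorization_pow Nat.prime_two]
      simp [Nat.factorization_eq_zero_of_not_dvd (show ¬ 2 ∣ 1485 by norm_num)]
    rw [this]; norm_num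
  have hnt : Nontrivial (T : Subgroup G) := by
    rw [← Finite.one_lt_card_iff_nontrivial, hT]; norm_num
  have hcn : Nontrivial (Subgroup.center (T : Subgroup G)) := T.isPGroup'.center_nontrivial
  have h2 : 2 ∣ Nat.card (Subgroup.center (T : Subgroup G)) := by
    have h3 : IsPGroup 2 (Subgroup.center (T : Subgroup G)) := T.isPGroup'.to_subgroup _
    obtain ⟨n, hn⟩ := IsPGroup.iff_card.1 h3
    have h4 := Finite.one_lt_card_iff_nontrivial.2 hcn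
    rw [hn] at h4 ⊢
    exact dvd_pow_self 2 (by rintro rfl; simp at h4)
  obtain ⟨y, hy⟩ := exists_prime_orderOf_dvd_card' 2 h2
  refine ⟨((y : (T : Subgroup G)) : G), ?_, ?_⟩
  · rw [orderOf_coe, orderOf_coe]; exact hy
  · rw [← hT]
    apply card_dvd_of_le
    intro g hg
    rw [mem_centralizer_singleton_iff]
    have h5 := Subgroup.mem_center_iff.1 y.2 ⟨g, hg⟩
    exact congrArg Subtype.val h5

/-- **Summary** (STEPS 2 and 3 of the blueprint). -/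
theorem main [Finite G] [IsSimpleGroup G] (hc : Nat.card G = 95040)
    (h11 : ∀ P : Sylow 11 G, centralizer (P : Set G) = (P : Subgroup G)) (P : Sylow 11 G)
    (hN : Nat.card (normalizer (P : Set G)) = 55) {x : G} (hxP : x ∈ P) (hx1 : x ≠ 1) :
    ∃ (NE X : Finset (IrrCharacter G)) (ε : IrrCharacter G → ℤ) (d : ℤ)
      (one Θ : IrrCharacter G) (t : G) (χ : Fin 4 → IrrCharacter G) (D w : Fin 4 → ℤ) (k : ℕ),
      Data x NE X ε d one Θ ∧ orderOf t = 2 ∧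
      (∀ u v : G, u ^ 2 = 1 → v ^ 2 = 1 → u * v ≠ x) ∧
      Enum NE one χ ∧ (∀ i, D i = ε (χ i) * charDegree (χ i : G → ℂ)) ∧ Column t ε χ D w ∧
      Nat.card (centralizer ({t} : Set G)) = 64 * k ∧ k ∈ Arith.ks ∧
      (k, (D 0, w 0), (D 1, w 1), (D 2, w 2), (D 3, w 3)) ∈ Arith.rows := by
  have : Fact (Nat.Prime 11) := ⟨by norm_num⟩
  have hG : commutator G = ⊤ := by
    rcases (inferInstance : (commutator G).Normal).eq_bot_or_eq_top with h | h
    · exfalso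
      have hab : ∀ a b : G, a * b = b * a := by
        intro a b
        have h0 : commutator G = ⊥ := h
        rw [commutator_def, Subgroup.commutator_eq_bot_iff_le_centralizer] at h0
        exact (mem_centralizer_iff.1 (h0 (mem_top b)) a (mem_top a))
      have hC := h11 P
      have h2 : centralizer (P : Set G) = ⊤ := by
        rw [eq_top_iff]
        intro g _
        rw [mem_centralizer_iff]
        intro y _
        exact hab y g
      have h3 : (normalizer (P : Set G)) = ⊤ := by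
        rw [eq_top_iff, ← h2]
        exact Cfsg.Agent.SmallSimple.SylowPrimeCount.centralizer_le_normalizer' _
      rw [h3, Subgroup.card_top, hc] at hN
      norm_num at hN
    · exact h
  have hP : Nat.card P = 11 :=
    Cfsg.Agent.SmallSimple.PrimeLocal.card_of_not_sq_dvd (by rw [hc]; norm_num)
      (by rw [hc]; norm_num) P
  have he : (centralizer (P : Set G)).relIndex (normalizer (P : Set G)) = 5 := by
    have h1 := Subgroup.relIndex_mul_relIndex (⊥ : Subgroup G) (centralizer (P : Set G))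
      (normalizer (P : Set G)) bot_le
      (Cfsg.Agent.SmallSimple.SylowPrimeCount.centralizer_le_normalizer' _)
    rw [Subgroup.relIndex_bot_left, Subgroup.relIndex_bot_left, hN, h11 P] at h1
    have hP' : Nat.card (P : Subgroup G) = 11 := hP
    rw [hP'] at h1
    rw [h11 P]
    omega
  have hx : ∀ u v : G, u ^ 2 = 1 → v ^ 2 = 1 → u * v ≠ x := fun u v hu hv =>
    ne_mul_of_odd he (by decide) (zpowers_eq_of_card_prime (by norm_num) hP)
      (by rw [show Nat.card (P : Subgroup G) = 11 from hP]; decide) hxP hx1 hu hv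
  obtain ⟨NE, X, ε, d, one, Θ, hD⟩ := exists_data P hP (h11 P) he hxP hx1
  obtain ⟨t, ht, h64⟩ := exists_involution hc
  obtain ⟨χ, D, w, k, h1, h2, h3, h4, h5, h6⟩ := exists_row hG hc h11 hD hx ht h64
  exact ⟨NE, X, ε, d, one, Θ, t, χ, D, w, k, hD, ht, hx, h1, h2, h3, h4, h5, h6⟩

end Cfsg.Agent.MTwelve.ElevenBlock
end

-- part: MTwelve/FiveBlock
section
/-!
# The principal 5-block of a simple group of order 95040

Using only that every irreducible degree is congruent to `0`, `±1` or `±5` modulo `11`, the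
degrees in the principal 5-block are determined up to five possibilities when the inertial index
is four, and are `1, 11, 12, 12` when it is two.
-/

set_option autoImplicit false

open scoped ComplexConjugate
open Cfsg

namespace Cfsg.Agent.MTwelve.FiveBlock

open Cfsg.Agent.Characters
open Cfsg.Agent.MTwelve.BlockData

universe u

/-! ### Arithmetic -/

/-- The divisors `d` of `95040` with `1 < d`, `d ^ 2 < 95040` that are congruent to `0`, `±1` or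
`±5` modulo `11`. -/
def pool : List ℕ :=
  [5, 6, 10, 11, 12, 16, 22, 27, 32, 33, 44, 45, 54, 55, 60, 66, 72, 88, 99, 110, 120, 132, 144,
    160, 165, 176, 192, 198, 220, 264, 270, 297]

theorem mem_pool {n : ℕ} (h1 : n ≠ 1) (hd : n ∣ 95040) (hsq : n ^ 2 ≤ 95040)
    (hm : n % 11 = 0 ∨ n % 11 = 1 ∨ n % 11 = 10 ∨ n % 11 = 5 ∨ n % 11 = 6) : n ∈ pool := by
  have hlt : n < 309 := by
    by_contra h
    rw [not_lt] at h
    have : 309 ^ 2 ≤ n ^ 2 := Nat.pow_le_pow_left h 2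
    omega
  have key : ∀ n ∈ List.range 309, (n ≠ 1 ∧ n ∣ 95040 ∧
      (n % 11 = 0 ∨ n % 11 = 1 ∨ n % 11 = 10 ∨ n % 11 = 5 ∨ n % 11 = 6)) → n ∈ pool := by
    decide +kernel
  exact key n (List.mem_range.2 hlt) ⟨h1, hd, hm⟩

/-- The sign of a degree prime to five. -/
def sgn (n : ℕ) : ℤ := if n % 5 = 1 then 1 else -1

theorem four_cases {a b c d : ℕ} (ha : a ∈ pool) (hb : b ∈ pool) (hc : c ∈ pool) (hd : d ∈ pool)
    (ha' : a % 5 = 1 ∨ a % 5 = 4) (hb' : b % 5 = 1 ∨ b % 5 = 4) (hc' : c % 5 = 1 ∨ c % 5 = 4)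
    (hd' : d % 5 = 1 ∨ d % 5 = 4) (hab : a ≤ b) (hbc : b ≤ c) (hcd : c ≤ d)
    (hsum : 1 + sgn a * a + sgn b * b + sgn c * c + sgn d * d = 0) :
    (a = 11 ∧ b = 16 ∧ c = 16 ∧ d = 44) ∨ (a = 11 ∧ b = 44 ∧ c = 144 ∧ d = 176) ∨
    (a = 11 ∧ b = 66 ∧ c = 66 ∧ d = 144) ∨ (a = 16 ∧ b = 16 ∧ c = 66 ∧ d = 99) ∨
    (a = 66 ∧ b = 99 ∧ c = 144 ∧ d = 176) := by
  have red : ∀ n ∈ pool, (n % 5 = 1 ∨ n % 5 = 4) →
      n ∈ [6, 11, 16, 44, 54, 66, 99, 144, 176, 264] := by decide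
  have key : ∀ a ∈ [6, 11, 16, 44, 54, 66, 99, 144, 176, 264],
      ∀ b ∈ [6, 11, 16, 44, 54, 66, 99, 144, 176, 264],
      ∀ c ∈ [6, 11, 16, 44, 54, 66, 99, 144, 176, 264],
      ∀ d ∈ [6, 11, 16, 44, 54, 66, 99, 144, 176, 264], a ≤ b → b ≤ c → c ≤ d →
      1 + sgn a * a + sgn b * b + sgn c * c + sgn d * d = 0 →
      (a = 11 ∧ b = 16 ∧ c = 16 ∧ d = 44) ∨ (a = 11 ∧ b = 44 ∧ c = 144 ∧ d = 176) ∨
      (a = 11 ∧ b = 66 ∧ c = 66 ∧ d = 144) ∨ (a = 16 ∧ b = 16 ∧ c = 66 ∧ d = 99) ∨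
      (a = 66 ∧ b = 99 ∧ c = 144 ∧ d = 176) := by
    decide +kernel
  exact key a (red a ha ha') b (red b hb hb') c (red c hc hc') d (red d hd hd') hab hbc hcd hsum

theorem two_cases {a b : ℕ} (ha : a ∈ pool) (hb : b ∈ pool) {s d : ℤ} (hs : s = 1 ∨ s = -1)
    (hd : d = 1 ∨ d = -1) (ha' : (5 : ℤ) ∣ a - s) (hb' : (5 : ℤ) ∣ b - 2 * d)
    (hsum : 1 + s * a = d * b) : a = 11 ∧ b = 12 := by
  have key : ∀ a ∈ pool, ∀ b ∈ pool, ∀ s ∈ ([1, -1] : List ℤ), ∀ d ∈ ([1, -1] : List ℤ),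
      (5 : ℤ) ∣ a - s → (5 : ℤ) ∣ b - 2 * d → 1 + s * a = d * b → a = 11 ∧ b = 12 := by
    decide +kernel
  exact key a ha b hb s (by rcases hs with rfl | rfl <;> simp) d
    (by rcases hd with rfl | rfl <;> simp) ha' hb' hsum

/-- Enumeration of a finite set in the order given by a natural-number valued function. -/
theorem exists_enum {α : Type*} (s : Finset α) (f : α → ℕ) {n : ℕ} (hs : s.card = n) :
    ∃ c : Fin n → α, Function.Injective c ∧ (∀ a, a ∈ s ↔ ∃ i, c i = a) ∧ Monotone (f ∘ c) := by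
  classical
  let e : Fin n ≃ s := (finCongr hs.symm).trans s.equivFin.symm
  let g : Fin n → ℕ := fun i => f (e i)
  refine ⟨fun i => (e (Tuple.sort g i) : α), ?_, ?_, ?_⟩
  · intro i j h
    exact (Tuple.sort g).injective (e.injective (Subtype.ext h))
  · intro a
    constructor
    · intro ha
      refine ⟨(Tuple.sort g).symm (e.symm ⟨a, ha⟩), ?_⟩
      simp
    · rintro ⟨i, rfl⟩
      exact (e _).2
  · exact Tuple.monotone_sort g

/-! ### The principal block -/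

section

variable {G : Type u} [Group G]

theorem deg_sq_le [Finite G] (χ : IrrCharacter G) : deg χ ^ 2 ≤ Nat.card G := by
  classical
  have := Core.finite_irr (G := G)
  have := Fintype.ofFinite (IrrCharacter G)
  rw [← sum_deg_sq (G := G)]
  exact Finset.single_le_sum (f := fun χ : IrrCharacter G => deg χ ^ 2)
    (fun _ _ => Nat.zero_le _) (Finset.mem_univ χ)

/-- The degrees of a simple group of order 95040 with a principal 11-block with five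
nonexceptional and two exceptional characters. -/
theorem deg_mem_pool [Finite G] [IsSimpleGroup G] (hc : Nat.card G = 95040) {Q : Subgroup G}
    (hQ : Nat.card Q = 11) (B : PBlock G 11 5 2 Q)
    (hrest : ∀ χ : IrrCharacter G, χ ∉ B.NE → χ ∉ B.X → 11 ∣ deg χ) (χ : IrrCharacter G)
    (hχ : χ ≠ triv G) : deg χ ∈ pool := by
  refine mem_pool ?_ (hc ▸ deg_dvd χ) (hc ▸ deg_sq_le χ) ?_
  · intro h
    exact hχ (eq_triv_of_deg (SmallDegree.commutator_eq_top_of_card (by rw [hc]; norm_num)) h)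
  · by_cases h1 : χ ∈ B.NE
    · have h2 := B.dvd_deg_sub hQ (by norm_num) h1
      have h3 := B.ε_eq χ h1
      push_cast at h2
      omega
    · by_cases h2 : χ ∈ B.X
      · have h3 := B.dvd_deg_X_sub hQ (by norm_num) (by norm_num) h2
        have h4 := B.d_eq
        push_cast at h3
        omega
      · have := hrest χ h1 h2
        omega

/-- The principal 5-block when the inertial index is four. -/
theorem exists_five {P : Subgroup G} (B : PBlock G 5 4 1 P) (hP : Nat.card P = 5)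
    (hpool : ∀ χ : IrrCharacter G, χ ≠ triv G → deg χ ∈ pool) :
    ∃ c : Fin 4 → IrrCharacter G, Function.Injective c ∧ (∀ i, c i ≠ triv G) ∧
      (∀ χ : IrrCharacter G, (χ ∈ B.NE ∨ χ ∈ B.X) ↔ χ = triv G ∨ ∃ i, c i = χ) ∧
      (∀ i, ∀ x ∈ P, x ≠ 1 → ∀ y ∈ Subgroup.centralizer (P : Set G), ¬ 5 ∣ orderOf y →
        (c i : G → ℂ) (x * y) = sgn (deg (c i))) ∧
      (∀ g : G, ¬ 5 ∣ orderOf g → 1 + ∑ i, (sgn (deg (c i)) : ℂ) * (c i : G → ℂ) g = 0) ∧
      ((deg (c 0) = 11 ∧ deg (c 1) = 16 ∧ deg (c 2) = 16 ∧ deg (c 3) = 44) ∨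
       (deg (c 0) = 11 ∧ deg (c 1) = 44 ∧ deg (c 2) = 144 ∧ deg (c 3) = 176) ∨
       (deg (c 0) = 11 ∧ deg (c 1) = 66 ∧ deg (c 2) = 66 ∧ deg (c 3) = 144) ∨
       (deg (c 0) = 16 ∧ deg (c 1) = 16 ∧ deg (c 2) = 66 ∧ deg (c 3) = 99) ∨
       (deg (c 0) = 66 ∧ deg (c 1) = 99 ∧ deg (c 2) = 144 ∧ deg (c 3) = 176)) := by
  classical
  obtain ⟨Θ, hΘ⟩ := Finset.card_eq_one.1 B.card_X
  have hΘX : Θ ∈ B.X := by rw [hΘ]; exact Finset.mem_singleton_self Θ
  have hΘNE : Θ ∉ B.NE := fun h => Finset.disjoint_left.1 B.disjoint h hΘX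
  -- signs
  have hNE : ∀ χ ∈ B.NE, (deg χ % 5 = 1 ∨ deg χ % 5 = 4) ∧ B.ε χ = sgn (deg χ) := by
    intro χ hχ
    have h1 := B.dvd_deg_sub hP (by norm_num) hχ
    have h2 := B.ε_eq χ hχ
    push_cast at h1
    unfold sgn
    split_ifs <;> omega
  have hX : (deg Θ % 5 = 1 ∨ deg Θ % 5 = 4) ∧ -B.d = sgn (deg Θ) := by
    have h1 := B.dvd_deg_X_sub hP (by norm_num) (by norm_num) hΘX
    have h2 := B.d_eq
    push_cast at h1
    unfold sgn
    split_ifs <;> omega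
  have hU : ∀ χ ∈ B.NE ∪ B.X, (deg χ % 5 = 1 ∨ deg χ % 5 = 4) := by
    intro χ hχ
    rcases Finset.mem_union.1 hχ with h | h
    · exact (hNE χ h).1
    · rw [hΘ, Finset.mem_singleton] at h
      rw [h]
      exact hX.1
  have hval : ∀ χ ∈ B.NE ∪ B.X, ∀ x ∈ P, x ≠ 1 → ∀ y ∈ Subgroup.centralizer (P : Set G),
      ¬ 5 ∣ orderOf y → (χ : G → ℂ) (x * y) = sgn (deg χ) := by
    intro χ hχ x hx hx1 y hy hy5
    rcases Finset.mem_union.1 hχ with h | h
    · rw [B.apply_NE χ h x hx hx1 y hy hy5, (hNE χ h).2]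
    · rw [hΘ, Finset.mem_singleton] at h
      have h1 := B.sum_X x hx hx1 y hy hy5
      rw [hΘ, Finset.sum_singleton] at h1
      rw [h, h1, ← hX.2]
      push_cast
      rfl
  have hrel : ∀ g : G, ¬ 5 ∣ orderOf g →
      ∑ χ ∈ B.NE ∪ B.X, (sgn (deg χ) : ℂ) * (χ : G → ℂ) g = 0 := by
    intro g hg
    rw [Finset.sum_union B.disjoint, hΘ, Finset.sum_singleton, ← hX.2,
      Finset.sum_congr rfl fun χ hχ => by rw [← (hNE χ hχ).2], B.rel Θ hΘX g hg]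
    push_cast
    ring
  -- enumeration
  have htriv : triv G ∈ B.NE ∪ B.X := Finset.mem_union_left _ B.triv_mem
  have hcard : ((B.NE ∪ B.X).erase (triv G)).card = 4 := by
    rw [Finset.card_erase_of_mem htriv, Finset.card_union_of_disjoint B.disjoint, B.card_NE,
      B.card_X]
  obtain ⟨c, hinj, hc, hmono⟩ := exists_enum _ deg hcard
  have hcmem : ∀ i, c i ∈ (B.NE ∪ B.X).erase (triv G) := fun i => (hc _).2 ⟨i, rfl⟩
  have hcne : ∀ i, c i ≠ triv G := fun i => Finset.ne_of_mem_erase (hcmem i)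
  have hcU : ∀ i, c i ∈ B.NE ∪ B.X := fun i => Finset.mem_of_mem_erase (hcmem i)
  have himg : (B.NE ∪ B.X).erase (triv G) = Finset.univ.image c := by
    ext χ
    rw [hc, Finset.mem_image]
    simp
  have hrel' : ∀ g : G, ¬ 5 ∣ orderOf g →
      1 + ∑ i, (sgn (deg (c i)) : ℂ) * (c i : G → ℂ) g = 0 := by
    intro g hg
    have h1 := hrel g hg
    rw [← Finset.add_sum_erase _ _ htriv, himg, Finset.sum_image fun i _ j _ h => hinj h,
      deg_triv, triv_apply] at h1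
    simpa [sgn] using h1
  refine ⟨c, hinj, hcne, ?_, fun i => hval _ (hcU i), hrel', ?_⟩
  · intro χ
    rw [← Finset.mem_union]
    constructor
    · intro hχ
      by_cases h : χ = triv G
      · exact Or.inl h
      · exact Or.inr ((hc χ).1 (Finset.mem_erase.2 ⟨h, hχ⟩))
    · rintro (rfl | ⟨i, rfl⟩)
      · exact htriv
      · exact hcU i
  · have h1 := hrel' 1 (by rw [orderOf_one]; norm_num)
    rw [Fin.sum_univ_four, apply_one, apply_one, apply_one, apply_one] at h1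
    have h2 : 1 + sgn (deg (c 0)) * deg (c 0) + sgn (deg (c 1)) * deg (c 1) +
        sgn (deg (c 2)) * deg (c 2) + sgn (deg (c 3)) * deg (c 3) = 0 := by
      have h3 : ((1 + sgn (deg (c 0)) * deg (c 0) + sgn (deg (c 1)) * deg (c 1) +
        sgn (deg (c 2)) * deg (c 2) + sgn (deg (c 3)) * deg (c 3) : ℤ) : ℂ) = 0 := by
        push_cast
        rw [← h1]
        ring
      exact_mod_cast h3
    exact four_cases (hpool _ (hcne 0)) (hpool _ (hcne 1)) (hpool _ (hcne 2)) (hpool _ (hcne 3))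
      (hU _ (hcU 0)) (hU _ (hcU 1)) (hU _ (hcU 2)) (hU _ (hcU 3))
      (hmono (by decide : (0 : Fin 4) ≤ 1)) (hmono (by decide : (1 : Fin 4) ≤ 2))
      (hmono (by decide : (2 : Fin 4) ≤ 3)) h2

/-- The principal 5-block when the inertial index is two. -/
theorem exists_two {P : Subgroup G} (B : PBlock G 5 2 2 P) (hP : Nat.card P = 5)
    (hpool : ∀ χ : IrrCharacter G, χ ≠ triv G → deg χ ∈ pool) :
    ∃ χ Θ Θ' : IrrCharacter G, (∀ ψ, ψ ∈ B.NE ↔ ψ = triv G ∨ ψ = χ) ∧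
      (∀ ψ, ψ ∈ B.X ↔ ψ = Θ ∨ ψ = Θ') ∧ Θ ≠ Θ' ∧ χ ≠ triv G ∧
      deg χ = 11 ∧ deg Θ = 12 ∧ deg Θ' = 12 ∧ B.ε χ = 1 ∧ B.d = 1 := by
  classical
  obtain ⟨Θ, Θ', hne, hX⟩ := Finset.card_eq_two.1 B.card_X
  have hΘ : Θ ∈ B.X := by rw [hX]; simp
  have hΘ' : Θ' ∈ B.X := by rw [hX]; simp
  have hcard : (B.NE.erase (triv G)).card = 1 := by
    rw [Finset.card_erase_of_mem B.triv_mem, B.card_NE]
  obtain ⟨χ, hχ⟩ := Finset.card_eq_one.1 hcard
  have hχmem : χ ∈ B.NE.erase (triv G) := by rw [hχ]; exact Finset.mem_singleton_self χ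
  have hχne : χ ≠ triv G := Finset.ne_of_mem_erase hχmem
  have hχNE : χ ∈ B.NE := Finset.mem_of_mem_erase hχmem
  have hNE : B.NE = {triv G, χ} := by
    rw [← Finset.insert_erase B.triv_mem, hχ]
  have hsum := B.sum_deg (by norm_num) hΘ
  rw [hNE, Finset.sum_pair hχne.symm, B.ε_triv, deg_triv] at hsum
  have hΘne : Θ ≠ triv G := by
    rintro rfl
    exact Finset.disjoint_left.1 B.disjoint B.triv_mem hΘ
  have h1 := B.dvd_deg_sub hP (by norm_num) hχNE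
  have h2 := B.dvd_deg_X_sub hP (by norm_num) (by norm_num) hΘ
  have h3 := B.ε_eq χ hχNE
  have h4 := B.d_eq
  obtain ⟨h5, h6⟩ := two_cases (hpool χ hχne) (hpool Θ hΘne) h3 h4 (by exact_mod_cast h1)
    (by exact_mod_cast h2) (by
      rw [← hsum]
      push_cast
      ring)
  refine ⟨χ, Θ, Θ', fun ψ => by rw [hNE]; simp, fun ψ => by rw [hX]; simp, hne, hχne, h5, h6,
    ?_, ?_, ?_⟩
  · rw [← B.deg_X_eq (by norm_num) hΘ hΘ', h6]
  · rw [h5] at h1
    push_cast at h1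
    omega
  · rw [h6] at h2
    push_cast at h2
    omega

end

end Cfsg.Agent.MTwelve.FiveBlock
end
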